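import Cfsg.Agent.SporadicRecognition.CosetCert
import Mathlib
import Cfsg.Agent.SporadicRecognition.CosetChain
import Cfsg.Agent.SporadicRecognition.HypFast
import Cfsg.Agent.SporadicRecognition.CertFast
import Cfsg.Agent.LieClassical.OrthForms
import Cfsg.Agent.LieClassical.OrthFinite
import Cfsg.Prelude.Def_Classical
import Cfsg.Agent.LieClassical.OrthCenter
import Cfsg.Agent.LieClassical.OrthTrans
import Cfsg.Agent.LieClassical.OmegaReindex
import Cfsg.Agent.S0294
import Cfsg.Agent.S0297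
import Cfsg.Agent.LargeExtra.Local
import Cfsg.Agent.LargeExtra.Perp
import Cfsg.Agent.Lib.ListFast
import Cfsg.Agent.LargeExtra.Tri.CaseTwo
import Cfsg.Agent.LargeExtra.KillNine.Pts
import Cfsg.Agent.Lib.FinFast
import Cfsg.Agent.LargeExtra.SixMinus
import Cfsg.Agent.CoOneType.Setup_mg
import Cfsg.Agent.LargeExtra.Nine.ToCent
import Cfsg.Agent.Lib.AltCarmichael
import Cfsg.Agent.LargeExtra.Nine.Iface
import Cfsg.Agent.TypeD4Two.NinePair_mg
import Cfsg.Agent.FastGrp
import Cfsg.Agent.Prune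
set_option linter.all false

section
prune_inst 0x7ffeeffbeffdbfdfffff7e7fa7ffcffdfdb83fffe6fff9fbffecefff1bff4fafcbe5fbafefec90fe9ff6e21410f87b53fbfffeffe36ffc7ffffdfff45ffbffdfffffbd2d51dfbcb41ffc6ffffbf077ae7f3fffffffffffffffffffffffffffffffbfffffffff

-- part: TypeO8Minus/Rel
section
prune_inst 0x110041002402000008000580010020247c0001900060400131000e400b050341804001003690160011caaea0484ac040001000c90010000020008a0040000000042922c20034ac0031000040f885180c00000000000000000000000000000004000000000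
set_option linter.all false
open scoped Cfsg.Agent.FastGrp

-- part: TypeO8Minus/ELaData
section
set_option autoImplicit false
set_option maxRecDepth 100000

namespace Cfsg.Agent.TypeO8Minus.ELaData

open Cfsg.Agent.SporadicRecognition.CosetCert

noncomputable def t0 : Tr := beta% (fun (N : Nat → Tr → Tr → Tr) (L : Nat → Tr) => (N 144 (N 64 (N 32 (N 16 (L
  0xffffff81e409406600e03401003ac1200d20400cf04005c01d027408013802dffffffe07402301940780c403c05f00e07082203200f816607006101e0320085ffffff81b40840ce04002c80e03080f80b403805801a02a80701700680bc034bfffffe05e81e02dc0e80a60340b103802a00d01440380ae03805b01c02e80e3ffffff812a02804d01802700c012003012406004b01802500c02880d00980317fffffe05481b011c0580a002c0a103402300b011405808802c04200c04c8191ffffff812803008d03002000a010405007601003e01401f80a01bc09007a0293fffffe01a80302180b810805807f02a01c80900dc04807002403a01203e8148ffffff80ee04c03101001980800ac0180dc04803001001780800b80200c603d7fffffe035811019c08006801c06001e01480701580700a403402a00e0138030ffffff804201801d004027806012406004401801f00c010006010c058046019c026005ffffffffffff803600bfffffffffffffffffffffffffffffffffffff6ffffff8034010024008012804005401007802801800800b80400b40400320117fffffe01b009005001806400c02c010009803004801802200c00f0040140071ffffff801200401e00c00e005005802001a00800b004006002004001801c00a3fffffe005002002000800e0040060020028010010008006004002002000801f)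
  (L
  0xffffff83621140cd01c06982006942201a80800d203a06801003540e81ae075ffffffe0cf04303300f818a07c0c101c0c9042031c0e019203c0c403806581c5ffffff817803418d0820c504006141f81800780bf02206e82106041f02fc0f63fffffe0bd03d02d806817407417407805d81d02e40801a20800d604006c0207ffffff82de0ec0b503805901c02c00682d20e80b401e06301f030c0f819407d7fffffe05400b05641c82ac0e014f06e05601b02a80d815606c0ae02e05781b8ffffff82980d80a703405201a028005828c0d40a603405281a028c0601dc091409b021fffffffffffffffffffffffffffffffffffffffffffc09a03204c00b0ffffff812c06008c01404801802440c012603008e030047818050c1a812e061ffffffe04481702140482600c813e068045017021c0b811005c0ad0360998337059404ffffffc12f06404180904ac18fffffffffffffffffffffffffffffffdbfffffe08882c022c0a82520c407e01209103002080a810205408002a08f82f5027c04ffffffffffffffffffffffffffffffffffffffffffffffffff80f80243fffffe03b00804681702280b410d05803d01301e00980f204c10605603d8138ffffff82020a807502403981201d00900da02007102403901201c00501c40893fffffe03500703f41481f60a00f804e036011036c10817c0780f604c04f0118))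
  (N 48 (L
  0xffffff84da1882630c2130060049c18024205412506009303004901802460c1012002bfffffffffffffffffffffffffffffffffffffffffffffffffe08f0150ffffff823a0b811902612885c09702f845215811b05c08e02e09582f03e413dffffffe12a05d09382e022604c24b0b608c02d045816822e0b423a0b208a82d6ffffff822405422b0a812385b043009848216810f05808702c08cc2c02200b17fffffe08502b042c1584721642320b008482b042015820e0ac1050261170571ffffff82000482250ac10f85508642a02080a810205408182a08502983b80aa3fffffe09c83303f00884000a420e0a407f029072824031c10413a04a0af839707f408ffffffffffffe07d011ffffffffffffc1c708e0c5840ffffffffffffdbfffffe0f584d03fc1383f209c0f7022104051070423030c0fc1c304e07c827504f008ffffffffffffffffffffffffffffffffffffffffffff03d408ffffffc7fffffe07881004d81983f40941f50a007982506c82282f60f413b05207a0258ffffff83cc1300f004807682403a80803ae1241ab0880bb03c03b01201de0697fffffe07380f07c02783dc1381e909a0f204c067c2182e00ec1e10960748238ffffff83bc1281d409207282203981101c003c1970840b503a03901101c60493fffffe06c80e072424038c11c1bc08c06f82103780f01b804418303c0dc8458)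
  (L
  0x7f80f7fffffffffffe0c481efffffffffffffffffffffffffffffffffffffdbfffffe16307006201f83f60fc18403c16c874061c13837e1181bd08c16a8735060810ffffffffffffffffffffffffffffffffffffffffffff06000f7fffffc7fffffe0bc81d09c83184020f42d10e60be83d05f01283681141cf0900bf81e8ffffff857e1bc1780780ba83c05cc0e855e1b01770480d4844069822035a1117fffffe0b701c0b303905921c42c20e015d86f05c411834210c2b60dc0b903b8ffffff85641b42aa0d80b603a05b41d02d007016b0440cc84206542103261093fffffe0ae03905600d84080e42a10d60ae83905681c82b60e415e0720b0029705900dffffffffffffe0aa81bfffffffffffffffffffffffffffffffffffffdbfffffe14986805841b82c40dc14e03614c06a054c1b82a40dc1510680aa03750f401682960682960d3ffffff0a4834029a0dbffffffffffff0a3833ffffffe3fffffe14606605281a82920d414806a0a381a05141a82880d41420300ed0491ffffff84d61681410680b383404f40b84d018414006809f83405401b85101957fffffe09c02904dc1284060cc2850ca09a03309dc3204de18c1350660990170058c0bffffffc12e02c098817fffffffffffffffffffffffff055c1c7fffffdc16602bffffff04b418825005412c02dffffffffffffffffffc12a063ffffff6)))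
  (N 96 (N 80 (L
  0xffffff86c62281f70a00fc05007d012871a24c3240fa169873083c2903ec1417fffffe0f884f07bc1186f223c3891241c08910c583e059a1c837e1200f982e70f48267fffffc37811e0f68230dd84706ce22c3130f61650710d74447fffffdbfffffe0f60270dc04106ea2381e80461b908d0c303d05861c035810e0f504d5ffffff83ce0903691181b308b0d844503c608c3020f215e86f0d4c4303ca1313fffffe1af88907882586b822035710e1a90860adc3705f41e01e00461a78851ffffff83ba08834d1081a58830d1c4106822002f40ee15986d0d144083be12a3fffffe1a0080074c1103aa1241d60920ec0240b983b05561b01db0920ec8357ffffff84f41901c80421030480cd03f839c1201cd0820e582907401e83a4105c1ff043ffffffffffff838a087fffffffffffffffffffffffffffffffffffff6ffffff861e1e81c408c0fe04606ec1086541f81c007e0e102706f81f864c1f57fffffe0d802009f032040411431e0fa0db04506d41e83660941b80820dd0218ffffff860c1e41af0880d404406901005d81d81aa0780d6024069c1e035c0f17fffffe0ce81f0c543e06241ec3090f418007906881d834008c2f90f00d18438ffffff85e61dc2e50ec0cd842067021032207c19a0740cc02206581d03280e93fffffe13806306300f040a1042df0ea0c8041063c1483981201b708a0e88487)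
  (L
  0x984187fffffffffffe12f830fffffffffffffffffffffffffffffffffffffdbfffffe21c0300fc44e88882a825b05c22e8ad09782f84ba17c4581581c50925ffffff84b217825a0bc21e8a9115c5607d62702580bc12b85e09541708922ac43d503412982dffffffffffffffffffffffffffffffffffffffffffffffffff8ffffff879a17024d05a12902e110c55079626c24f0b812805c10e85486f823dffffffe1ee0370f044d048c0b024c05a2158a709242d849416c41814a12405b6ffffff84d40d042f1502138a709142d04800b02430b412205a10405204841693fffffe1ed85308fc2c84700ac41c14a11f05908f02c847a16423b05a2030a16ffffff88402982370b020b8a508c415881e2902360b011a85808d01608042817fffffe2068a3102c51080a2844001401178570fdc4f87e82782300ae11682b0ffffff84501582240541e409b0fb84e84540b82260ac1138560fa04e0704245ffffffe1d90350f144d843c0a83bf13411185508842a84441543aa1301100556ffffff843a15022c0581dd89a086015076a26421b0a810d0540e8c4b84381517fffffe1478670ebc4c07522603a212e10b853085829842a14c2130541cf0961ffffff87302342120a4108852083414872a25033a0fe170875084028054c1ad7fffffe1ce0950e484a041614420c0a21038270cb43f05b41d020a0a21048514))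
  (N 112 (L
  0xffffff858e0fc4af16c2678bc0b041d89c02f82c409a18507a13085d058a1c17fffffe16003c135c5e87bc0ec4ce17815d03b0af82606081e44b917215e06f4ffffff89902ec2b90dc25f0b913045d09702e42fc0f015c04b0ad41d896a2e07fffffe15883a12c45b89482d04aa16c24f8b40ad02505ec1dc4a616a2508b48ffffff89382d02a907415686c0ab83605600f02ac0921740760bbc3b05e21d9ffffffe24a8a70aa03585461ac2a00722490b20a943585481ac2a20d61538525ffffff89342cc48d16414f06a0a7c35052e0dc29c0d414e86a0a6c3085321a903ce0b9ffffff0a541b7ffffffffffffffffffffffffffffffffffffe1b688c70f502d85280dfffffffffffff0a441b7ffffffffffffffffffffffffffffffd43d30b2148053fffffffffffffffffffffffffffffffffffffc28d06dffffff10ec42a85160d7fffffffffffffffffffffffffffffffffffffffffffffffffe3fffffe2420b10a2832850e1942840662350ae11f85808e82bc2860ca1448345ffffff84f612027d08a13f06411e05804fe1902790c613b0330a0431850618cbfffffe13884109cc1e84e818c47215e13a86309b81984f01902800c8141064310dc2f84d80c3fffffffffffffffffffffffffffffffffffffffffffffffffe3fffffe2320ad09881804cc1842670c213483409903084ca18429a0d42338ae7)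
  (N 128 (L
  0xffffff867e1243861221f304a16a06a068412850d18824e8b416806986862023fffffe2b28cd0cf83f866e1fc3330902cc8d20ce43a86761483360e619e8755ffffff8b083405921a419887e0cc83f06521183300e81970510cb03a0b0e3453fffffe2a70cb0ca03e86421f431d08a2c30d10c8c39864a1403200ea1938465ffffff86341f03140862ab0cc15f0680adc33c3190e418b84f159c6706381c9c3d80f3ffffffffffff862210ffffffffffffffffffffffffffffffffffffff6ffffff862011852518c2a38cb0c20218abc33430b0e018684d14f865061c1e97fffffe18384415446607be10c54619617f8430c143786061305331921808794ffffff89982782fe0f029d8c914f4650a643242fb09617e86e0be0218a5e3207fffffe179042149c638a2c31051e18c2888c40bdc3685ea12851818a2898c48ffffff8a183102e40841750760bac3b05da1102e90d81738490bb83605e01b1ffffffe2728be0b8c3a85c01d42de0822848c30b882906701fc31f0fa19e07f5ffffff89f430450418616e0740b743a05b00fc2db0a219787e0cac3f09fa3093fffffe26a0bc0b5c3985a41cc2d007a27e0c20b502806441f43350fe16b03f5ffffff859e1c82cb07626d0bd13d86089d83002ce09e18c07c139c5f86361f1c3d70dfffffffffffff85900effffffffffffffffffffffffffffffffffffff6)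
  (L
  0xffffff889e2ac37f1202f78e31820738c003984e817e2b40ce0df427889a28843cf119ffffff0ddc2706f413fffffffffffffffffffffffffffffffe1bd85c70f68457fffffffffffe1ba04dfffffffffffffffffffffffffffffffffffffdbfffffe1cb85217e47289162c44851621b884d15806689c42f85e41c21b988d4ffffff86d42303680981e884f17cc7206d821055219826c0bd17b07186dc1a5c3d9047ffffffffffff86ca133fffffffffffffffffffffffffffffffffffff6ffffff86c81405ad1a81f004d0d8026090e2c454b1962688bc176c6f86c422944520ae1af04bffffffffffffffffffffffffffffffffffffffffffffffffff80f58437fffffffffffe1ad84bfffffffffffffffffffffffffffffffffffffdbfffffe2f40e20d68438bba37c3560962f18e113105d0a8032835909a2eb8de5ffffff8bc238035510c1ee84b17686f86a212c4bb17229b8c90d50260b9e3753fffffe22a0851140558ba63745d51bc2e70dd171c6e0b8836c35010a1a704b0ffffff870824434c0941f189117006d06d623052818e2590b716f86c87c226dc3e5101ffffffffffff869412bfffffffffffffffffffffffffffffffffffff6ffffff869220836f09a2d48d40d18250b7636052118c2558b616d06b06902097fffffe2dc0d71694698b4634c5b31ac2d08d3129c5a8a323143440942d80d51)))))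
  (N 208 (N 176 (N 160 (L
  0xffffff8d7e4006301da35c0ff0ffc2b8d643f869b1f63448f810045008061617fffffe26506e1aac7e8d403f06961f61fd09f0fe44f07ec15c3fc13c1ff09e2ffffff89961e06911f43460f91a207c07ea2783f30ae1fc09f0fec4f87fa27cffffffe21b0990fc82f8ce23d43ed0ac2198a80fc04e87de2746831ee3078e85ffffff887e2a466d1e83350f41a087b87d81783ea1381f489c0f9c2b0cf43d87fffffe1e509b0f102a87921586701ea1e605c0f184d878e26c6651e81f10847ffffff87862683c20b61dd0540f002a8cc23cc3bd1341df09a1940788778269bfffffe21a89d1188568cba3cc3b91321da0540edc4c87702646491e01db0994ffffff87662603b00a61d4053195078875c2603ac1301d68980eac2a8c683b9bfffffe32c0f20e9c4b8c9e3c43a10a63240f00e984b874a25c3a40a83168ed5ffffff8c7c2186391de3198ee18ac76873e2586221d830f8eb0e804b073a14c046f1241cd851ffffffffffffffffffffffffffffffffffffffffffffffffff8ffffff8c323a43910a21c98940e504a072c1485931a42828c30e6449892e2c9ffffffe30e0ea11b857071e24c3901261c6050162c6889fe30839a1281c70934ffffff88e01445c11b42fa0e40e20278c283a457f1a027b8c1182473871617d7fffffe1c28840e1c4007c821060c1d01c004f15c46789da3006011cc1c18564)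
  (L
  0xffffff8f2646048216023d8b011dc320eee45447d15e23f86511e85789022bd7fffffe3c411711d85788e62bc4710c63b611411d43288f82c04791602400b05ffffff8efc45846d1262340ae11a45708d619477022a3b411411b05708cc1843fffffe232861118c4c8e7443846115022e05f11785688be2b475e22430a8e94ffffff8eca44c73421a39810d11582f0eba44845b15822d0ac11642f8eb44457fffffe2270901144428e4043075722233d8f61d2c880e8643c44b14422405e0ffffff8e0e1a86771ea22285f11082e0e6e4384471542230aa1cb8868bec3917fffffe22009c110454887c17872d21a3340f410f05488762a44390b838f90c1ffffff88642a042e0b437f90911805688682744301502188a81c60858e1a429ffffffe24a06b1bf084884c16842d14e21605b10a453885429c6d32082140a76ffffff883e1606f3210375907108c53084829842114c2110a61094530c6229a3fffffe370906107852882c16041d0b236b90410685288362944190b635c8ff6ffffff8db8414415148369104105052081c1604121482098a410442d0d663f90453096206057ffffffffffffffffffffffffffffffffffffffffffffffffff8ffffff88aa28840a0ae3639011b38818c743bc6ac1fa3490fa1128558898241ffffffe3661021b1880880815c6bc1fe2048a11a947e0d1a3e44081422038596))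
  (N 192 (L
  0xffffff89e42dc4f41682780b721089889d61c84ee1222b98cf20cc978ade33d3fffffe3a711013a85f90324ac83c26041912f15a86709d22404e60e441612e1ffffff89c81d482525a3c89171e2c8b89be1c04e311a2b10cd20249489c22f93fffffe26e0bd13583789b61c881d25826f0b71364460aa83308142562ad8cc7ffffff89aa1cc7bb2362680701334378f1a45c4d21142a48cb20009409a62f144c913e26386effffffffffffffffffffffffffffffffffffffffffffffffff8ffffff901e4a84c617440112813003710104a4542194262887130c380fe04957fffffe3218ec12fc5c897a1b87ff25025b86e14d46489782184ba0de3f41244ffffff8fee49c7f324c3f61241fb8928fce4907df2463ee92212d85c09681b83fffffe2788c012c03689de3007d524226e8bd12cc420a5431c7d12402968c77ffffff895a2d84ae0e03da11b12a4368f9a47c4ac10428f8c61f048e8f7046d7fffffe3e391e1ec08d0f5c4687c023a3d611a146c6289502044a50da3df11c1ffffff89361b04f318025186d1ecc8d89401b449e1002878c41ea48d09441b6070615424c86afffffffffffffffffffffffffffffffffffffffffffe30e8ea8ffffff8e8043848c0d42480b212445909261ac48e1642478b21258590930251ffffffe2418651c5085091423448611a24408a1e508c0f1245c7a02322448b18)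
  (L
  0xffffff8b061f888927246d94315ec3e122252057e1822c009223f8a30b043057fffffe2bc0c715e8620aec31c90528e2b687c15d0600ae42448f228a2b80c04ffffff8e8843c56c19c46b14223f4a311e25145691202b58bf15983e0fe84987fffffe2b207f2398a20f3c4607982302ae87a158c5f0ac22348be2802af8cd4ffffff8ab03305500f22ab87c2368a18ab431c55517a2a988c233ca10ab82f5ffffffe2a787d21a09a0a901e85450f23cd11815285e0a982288b327e2a68cb5ffffff918c50454419445a93f14f03c117a50054110e2a18ba14fc3d114a4f57fffffe3208eb14e4648a741e08b227e29887814e0430a6c2e45340f244e93c4ffffff91504f882f25c45093c228c9e91384f089227644713a14c0640a5c1e03fffffe2bb8cf14983b8aea33c8822722ac8cc14ac5b8a5221087c2702960b77ffffff8a463185240f442f93414743b90ec4dc52016c29108221b89b10ca4d17fffffe3e58f9216c9990b24cc86d26c42b9331468408a382d45170ee4359351ffffff8a161d857919e28a87721789a0a241dc5101682870802148998a281de3fffffe427932140c3a0a0e30c50818628507514184a0b2a3485891a22cd8d27ffffff90464b07692282808c214086109f61cc5001262c68d116746909fc1d13fffffe27c8741f6090903c4b04f50e442513213e0490afa34083d2602c08d05)))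
  (N 240 (N 224 (L
  0x18f44b0bc021bfffffffffffffffffffffffffffffffffffffffffffffffffe3fffffe4cc95b177c6f8bbc21c5d910c3d0919201094116e4fc5dc1144c69585ffffff932a56894529c4c595817504293205649862ae4b915517586f0bb021d7fffffe3950d51c98860ba42149892b02e688525e0ab12d45505d11ba2e80864ffffff8b943707502204be9562604ab92ea5585c91b62e308517306d911e4e8bfffffe2e28db1d188792de5509712aa4b4954170c428b903705cb1b83f21233ffffff8bfc3605c21243068e816fc420bf63948852723eb1212598a98cea3d57fffffe39210c1818730c063989652a62f68e31f489010fa4e05bd1084ac9521ffffff8bfa3686171d249814b24c8a58b7420887726e3e711f254ca80b7836107281422db881fffffffffffffffffffffffffffffffffffffc5b91afffffff8ffffff92ac5445b61ac49514a16c84092a45407c323a43813616d44112865397fffffe3958dd2520a7923c52494129c49014924eca692725305b11aa2d78810ffffff8b583505ae1142d5082169c40125c52c8632683db11b24a0a50b563517fffffe3228ee1698408b482049272942d10811ea88d10a64cc59f10048e9491ffffff92345205910fc2cb8d21660690b341fc5961862ca0941678610b3830dffffffe4721431dcc8a8b1e3445901a22c287d1638610b1824c58a1862c407e4)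
  (L
  0xffffff94465bca202dc50c16e1934780c8e25c64b1e03260f019284c93fc5a93fffffe31e0ef18e04b12b4548a122da31d8a227d4b493aa59867d1ec31f8e67ffffff8c8c34c9622a4319096281cb58c6e3b89ec2d04e716518d8770c6a261bfffffe50616c18bc5014065ac62a12c4fe96a2780b3939059062c1da3170975ffffff8c882e49f42d24f3968276cb38c4a3b06241d6310896189c758c523acbfffffe3210c92750b3139a5949c72c83100eb18784b0c463b06261d83140ec31c20720c3624ffffffffffffffffffffffffffffffffffffffffffffffffffe3fffffe30d09418606c0f084587102143098922450a410964c89c12c430b0ad4ffffff926c52c6121c83070da182c488e2442890a28e42293126e4b08c202757fffffe4e216326c0af935c57c6071204e016220fc98120051860a1243679035ffffff929653c6051b23020d926e0b08bfe24083525e47b1451808488c803bd3fffffe2fd0e517e0468e1c42878622c2fe0da239ca2104c4b49b32c03851097ffffff8e1224c6111d02fa89217c8460efe4588df28641012c26b0af8bee2a97fffffe3400f617c4718be02409ab2be2f70d920549591a05085eb1183649011ffffff8bce21c9a62bc4d095d1b00800bd238881025446494117a8710d8838a3fffffe4ce15c1798708f4a4647a32322f1087202c9491845005e511a4c89594))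
  (N 256 (L
  0xffffff8d7c280ae031456d1891b047115a6620a9d30053617a1b0c800d844023fffffe5671872824b58d6e2806bd1425621842a54bf94cc5e46bb1fe35d0a56ffffff9598618ac830a5601841ad87f0d62280a8a2fc5309781ad47f0d682913fffffe3580fd1aa84f9556604aba3064fd1691abc7d0d5a28874821e5571827ffffff8f922d4aa630234f89f2a64bf8d523f06a81f23530a11a907c8d443e5bfffffe54e1802794b395205fc69513e54297e1a687c0d382806981f034f0f85ffffff8d283e869013c53a17b2a04be93b05986931443570fd1d488814ee5f1ffffffe3e50c529c4bd8d16278a682f23478f91a38508d4e3f06a31f83508fc6ffffff94d65e89cb2c85329791a1c4f14c05e068a14034c8fb1a5c7d8d3a3ed7fffffe52f1772904b9947a5cc68113838d90b1a187b8d0a3dc68413a52d9765ffffff8cfe38c9232924a494f2960bb0cf82aca4c2ea52217419f8778cf22703fffffe3828f319e0550ce427466f13638110919d07a8ce63d4a3b2e633b0da5ffffff8cd83d066e13833589c28e8b98cd22a46671e83330f419904d929e53c7fffffe3820f51cf8870cb82646631e633109a197c798cc03cca192dc32f0f36ffffff8cae25ca342e45179711b908314565c06591e432d0f21bdc840cb63ca3fffffe5139701958788c9c25c65513050e96e1948788ca63c465113450216b6)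
  (N 272 (L
  0xffffff8e9e2fc7511b85c019d2e9cd114a25d474d21e3a50ab1d4c7d0eaa43cbfffffe3a28ce1d1c6d96ec670ba13425249741d08558e984407491fa3aa1103ffffff8e822c873f1e639d8ad1cf4848e6c2a873821c39c90e2e48cf8f024593fffffe5ce9a01cd4560e622b072c1525c899f1ccc868e6443472f1545c619e5ffffff8e4a3647271ba3908ab2e1ccf129a53cb7933a5b799c1c8c808e3c2a43fffffe5b499b1c7485967465876222438e0f71c68858e3242c7171505b199a1ffffff8e2c4287151623878e51c44748e263a0b543325a49982cf8cb8e182a03fffffe3809091bec538e002a073c21c3818f51bf4848dfc424b3532c3858e57ffffff8dec4206f214c5909931be48296126406f421037a9081be0791654655ffffffe5941942c78c98dd42986f120e3781071bb8838dde41c6ed20e3761076ffffff8dc0294b193245879911b94790dcc4186e220c3719061ba0828dd241a3fffffe36d8a42c14c8160063c6fa21036f9051b74828dbc4146e720c57e18e8ffffff95ec6346da2083688a41b64820db02946d520836b1041b50539582611bfffffe56b9882854b695d262c6cd14457718c2af4c195045f47582223680e751ca4408d96287fffffffffffffffffffffffffffffffffffffffffffffffffe3fffffe4b01521b14508d90288ae83164ae1522a9cc094e45ec7222183650e37)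
  (L
  0xffffff96f867483a25e41b92f314cdc902e4ac87f2703e98d91f405b98a26e07fffffe3ed92121349918546c0c2c3603e60b61f3c6c10f24dcc4836c6131b041f207e0f8c2d7fffffffffffffffffffffffffffffffffffffffffffffffffe3fffffe6269b71f148e983e6bc7bf16a6239b621c89b0f883587c216c61e1b35ffffff988a6d4c3f36860a9ae30ecd9982e6b8c353646199b13064d70f7a2d43fffffe3dd11b1ef05e0f6a2d87b21686129b01edc6a10c24d0c1d35e3dc8b65ffffff93e45a07b116a3d78b53070d78f5a2d48552663d58d31ea05a18286b87fffffe59918e1e9c8c8f4c3847a41c23d10df2fc8d597fa6b079f1626049ad1ffffff8f242c0b583323ce8cd1e64668f3632c79722e3ca8b12ff0d60f384623fffffe3c38af2d2ccc0f202f878c17c3c70bc1e28588f2c460bf13563c79178ffffff8efa2b89342963c18e91e14728f00390bda3525e81a82f9cd50f0443a3fffffe5ec9a91dd0688eea45477622a3bc0b01dc88a0ede2b877a2283be1142ffffff979e6a076a1843b59141db88a0eda2bc76715c3b89151de48a8ef6454cfd520e3b20ac2f24d3fffffffffffffffffffffffffffffffc766227ffffff8ffffff978c698b9a33e5cb19f1d8c858eb82b07602243b09121d7c56976468d3fffffe5e09a52ee4d217146787561565d89a32eb0d117486847592063ad8ac5)))))))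
  Tr.N Tr.L
noncomputable def t1 : Tr := beta% (fun (N : Nat → Tr → Tr → Tr) (L : Nat → Tr) => (N 432 (N 352 (N 320 (N 304
  (L
  0xffffff9a2474ccde39866d1cc20ec5f9a1874890228c4200e720f86099ea73d7fffffe6811d120e4901070480cf83a04188bf23d0a2906c3988341806749ce4ffffff91344ec8301906671cb33c8e799d0738a782f845493e20b89310562fc3fffffe41412d20905f169a660bd7350415121209c7291d2510ce139a4771447ffffff904430884726240f8c120705e97a46a08211c846e9433360e611c250d7fffffe527975206c9590342fccd739840c1202348a1102c38c81317a6669cb1ffffff901c2e8cc83946619c92a84c010244a88c72824088e22330a0997671e3fffffe65f1c820349497f06acbf63564038ba2300a0101838480a17c64a9c14ffffff996e71c8062504018ba1ff85c97e86ac8b927e4028df20045e19026f97fffffe3fb0b81fe49198e06d4cb338c6549c52accc10ff44988ab27c45793e8ffffff8ff84887f21706449bf3294e218866d07fb24e55898220b4970fea339ffffffe6519c33264e118fe6f87ed17064a1c131e0de98c06ec7ef24a3f88ba5ffffff9920700c8637e3f58b831f4df0fcc2e0c6837862d1ba1fa8920fd22e53fffffe55a9821fe09398da6f0c7337a6319bc1f84910fbc2e07e32443f28db2ffffff8ffa498ab730462e9ba317cdd98b26e87dc1703f01231f8891912e4ecffffffe3ed11f1f646090864c47d416e41492d1f5c6d11064e4c543724439395)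
  (L
  0xffffff9bce7ac8c42806029ac300cd611783288c31c246092922fc669b6c7953fffffe6ee1ea22ec9f916c3288b11926009ac22e06f91744a08b41966d31e35ffffff914e3208ae2746a71da3750f49b8c7a08aa25c53d17c22b093916049e3fffffe6e21e736e8f31b4878c8a21906da9e53674f11b0a7808a427a4530ca5ffffff9b56790cd43964500c83688f19136320d8f3c26be9df227c9e113c3253fffffe44c92e29f8be1b2c784d983c46c51e122509d112232089627444c1222ffffff94f85f08ad27c6c01df3610f01af477c88d19044993b22549d9120370ffffffe445937222868120c51c88118e476144221090910c368d733bc4441215ffffff96e06708fb28a47c14535c8ef11a850887e1b244012021ec639ac87747fffffe4461392460a41a62758d333ac43a8c621e88f90f0360d553b66959d64ffffff9ab877087426c6911d521b0629aa876c8711ac43991d21bc631a8e7657fffffe6a51da33c0e71a2c750d463b268c1d434f8ec1a7475cd1a3a84350c50ffffff90ce4d08691964300c62174621a547588622364320d43480ea90cc3197fffffe4e916521706290b4314d1f3aa42c0c521506990ac46885118868a9d41ffffff90a030c84e23e5ea9a82d44cc109230484c1d248b1483434e912245213fffffe6181b021209610884848411805a7998211874121051ccf93a04861475))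
  (N 336 (L
  0xffffff9d127f4e643ee7301f73988fb92a2358c4a36c6ac9db25506c1cfa7ed3fffffe4a60e6251c6a92943d8bbc3484a710c340ce89c507c495e2a44a80f47ffffff9d0c7f09461bc72b1f625006a9cf87ece773f47369f92508a712883597fffffe4bf9563414e89c9a7d4e723f47279f524f4a6127435493f29869d9d72ffffff92da550e2a3e27211f439b0fc9c887d09381aa49e14d24f8a698706c8ffffffe49b8e824d48b12623609331b04968d434b4eb18506c0e5e3ee49794b4ffffff9cce7e092c2944958d62498699cba7dcc2135e6921d524a46a1cb07d97fffffe49294924907b123e354e543ec4908d5391cfa9c7c7d092229248e0d30ffffff923634891926e5f19a92d70cc922034091726448a8e938d0f912264c93fffffe69b9d6243ca1920e4e490419e5af19924249892163a0e1a3e04869315ffffff9c767cce0d3dc7039ee23f0671c667c89011ce48193023fc68194c7117fffffe7129f123e89c11f24e0e193e04780ce23dc7311ea4bc8f319e6201b44ffffff91d65108e519a5ad1992f94d491da4e48ea25a4740e53840f791de4b5ffffffe4718d12438a391b83408d91985ef1a923789611c0390e053dc47112c5ffffff948a5d08d828446b8ce3810f711aa4e08d11c646992b23386619166fc7fffffe4628ca37ecf69be47b0a6e2f446594123287111904a88cd2546f21ea8)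
  (L
  0xffffff9e5e8649b62c05a19972fa8d5136a54cce239a7089ef26c8729e4a8607fffffe791a1726c473935e39c9aa1c65f41aa3370e61c127b89ad1c857598b5ffffff934e5789a51c4788a133c7d0b1e16848cc93946ff1ed26a4a89e30855ffffffe78b2143c41099340388add3124d215d3310e49bee7b09a32ba4d115d6ffffff9336384f094247822112b98c5133a570cbf3906f51eb267cad9dde6363fffffe4cc0df3c05081dfa83ca0d2d84cd15b32e0e39bbe7a899e2b850815b8ffffff9328378ef741c77aa0d2658ad1d04694eda412761a063a10ad132e56a3fffffe779a0c3b9d0598146b4c0c35a4c78de3b51041d7e8149932b24c90e14ffffff9dc4828e5a3ec4c60de26206e981c6b4ece40e75da042628ac131c37d7fffffe76ca0939e4fd1d9481c9801b8768a082614aa930e3789832aa6c39e05ffffff92fc534b7e33a4be0dc3b1d0392e837097b2a84bc8dd25dcaa1af677d3fffffe76120639bcfc9d728109701b675f20525cc6f130855c9822ae63d1bd5ffffff92d8530b723384b70db3ae10212d036c96b1ba4bd15625d8ab18c86f13fffffe75b20326f4b093765849641b24da1603158dc9aea7789671b4758a025ffffff92c24049631dc4ad8ef3ab10112ba404e9e402749200257ca792b03643fffffe4aa8d63a38ff9d167f8acf30e7341f83138db9abe7709a82bc4ab9518)))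
  (N 384 (N 368 (L
  0xffffff944c3c4fec4627f123028a8b814583c8a282e05149702c30c8145a5c23fffffe5110f03f79179fb866cfda3247dc22c2890b7944a5bcfc345c7dea2d8ffffff9f6a8b0a211e050b8f0287cb7143c3c4a1b2dc50e16e2868799f3889dbfffffe7d6a2a2858819d5e808a111de5649853e59131ebe884a592ec50a1615ffffff94163b4b2e32a7d822b2838ad9f548a8f7e4487a6a1f2b84c5141e5b23fffffe7d2a2928287f94043b4a081dc7cfa273dd1119e8a878a062d65028f16ffffff9f468a0af33187cda272804b513f83b4f694447a021d2800b513fe3c13fffffe4fc96927cc761d4a804f9344c4fd8fd27e0b313ec3bca472e87c3a257ffffff93e2468ea34024f30ec3de11193e05a09ef2ca4f68ee27acb293d2595bfffffe7bea2427907d9ede88c9da1d87b2222277cb213c23b49dd2c84f19645ffffff93ae5989d31d674ca003d791093b23e89d61de4fb969294cba9ea8881ffffffe4e89333a550013983acf4743c4e8165273c7713dc5a09ea2d04f41686ffffff9e9887c9ca1f07a221e2718759e7e8749c91da4ef1672770b393c459d51202ba4e18e73ced0e7fffffcbc234bffffff344ce99c787cc9c52c7ffffff8ffffff9e7086cbee3545f61aa2d04cb937e39cd0f3a471c1f227087495de6313fffffe799a1a26f8a9937854c9b71cc59f99733f4e81c3c7c09ba1d050996d5)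
  (L
  0xffffff95363ed0a049084b2472a88952116918aa02f454f1002a8cbd1f088923fffffe841a453de911951e3eca9a1f8838a422a60bc952c3fca942f25491796ffffffa0fa9110754868342422a38bf15083eca8d2f05458fe2a24bc150e5e13fffffe81aa3b3d8510a0a68fca801f48302412a0c81957660cba834482ea405ffffff94fa4e8a7f276823a3e4161201eaa880a7b27c53c92e2abcc114ec3e83fffffe749a0029c07c94ea3e905247e74da0029cc809552604b8233a82323e7ffffff94d43e103e47a81c23c29bca0a0628eca6d20054f9802a90c01ea287e3fffffe815a3a3d250f14c83e0a691f280ea37299c7f952e5fca932fe54897f6ffffffa04e8e502147080d237298cbc14be3e0a621fc54617e2a20bf150c5f90fd02e252e8f7ffffffffffffcb9e341ffffffffffffffffffcbca34fffffff8ffffffa02c8d8b8e33c5dd1a4295c7b16c866901146a804a342968b694b83dd7fffffe52812b392cfa9a1474500c46a5291102938ba14963d8a542cc52b1742ffffff948c508e403e87189f140191a149443ca431ec5269752920b494aa5d4ffffffe7f523029087b947c3dca391e859c1962900b9947e5cca3c1ea5df9a45ffffff946e5c8a331e47fc2323bc0c69ff88cca352e451b17228e0b915c6629ffffffe7e98f73fd519145c3c8b163227f323028c4b894645c4b243265181716))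
  (N 400 (L
  0xffffff9610640b0420a8c12632c2cc81614420b063205839902c34b82314991ffffffe7e891245fd3195fe414b2632658198f2c04c7960463cb113228b9a616ffffff966646517a4c48b92612cacca95fa6391674c08b125f2bf8c715f64143fffffe57a90445652f229a974ef12e457c98d2bdcc695f0634afa31a77715c8ffffffa1ca944af42d48a325c2bc8c295da40d0cd498830a412ed0d195e05893fffffe8782553acd0115d440cae72028a1a5c42fd2520aa8fcb8833c57615f5ffffff9660654adf200887a5a2b94ae227096d0a149081fa3d2b88b615c85c9ffffffe88f11144392d15b2400ade2ba87fa58426523a0728f0adc31256d9896ffffff95b040d1014b287f2582b58c415a440108e48c81923b2b54c415a86213fffffe5668ff43e12ba1e6958ad02a2877255421122a0588e8f2042c5689878ffffff95963f90ec4a887525343a12921c894507e48881423943892821bc93e3fffffe86d24e2b1c7f1e4c860af131856516d41d921a0448e0b663345a31977ffffffa1ac934f2c43055f8fe2b18c2158a3fd06d48480da372b0cc21584411bfffffe849a463e61132176928ab91fa86624c2af0be957c40cba2342864a4b5ffffff956c48cab8244856a494309259f10894ab224c55a1272ac0be155a3f43fffffe750a012a947e15583f50ba494753a012aa8bd9550404b743388562497)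
  (N 416 (L
  0x3f30c89738434fc845dffffff2e7cbbfffffffffffffffffff2f1cd37fffffe3fffffe8aba5d2e6c89172e448b9932c5c810d2e50cf972a67cb9321c912a734ffffffa262958b8f2ec5c59112e188624489cd21d4e4908a712e24c5971a4357fffffe5be9202dfcab17024412164e46839d12decce16f0430b832f65c299c2ffffff96e24e0b732a85bb90f4831389c587c4b6e2185bd19d2dd4c09708674ffffffe5b410b480d381fb65bcfcb45c8e02692da8cd96d666cb6d3248f426c8ffffffa3fa9bcc1135a77420b2ed8d196ca5d91f34dc8f6a6d2d9cc296c442c3fffffe5ab9992d648c16b6510b5d2905af9472d58cc16a64291cd4d45b09982ffffff9694660b4c22e5a712d2d489916a04c4b482145aa99947813596c0664ffffffe8f1a6c2d14cb9688580b422c45a0161475935a3969a8b3d2145a39851ffffffa37a9a4b3c32c59d90b2e60cf96725ccb3732c59b1962cd0849dda82c7fffffe59898a2cbcb6233e998b2c31c8c626446bd34234e99cb2d32a59490803f5856164e41ffffffffffffffffffffffffffffffffffffffffffffffffffe3fffffe7ea22e2c74839644420b2531e8c22632c7cc9964064cb232e28cf2667ffffff9638648b1820c7eba2e3f64b7a2be978b1a32458d9922db0cda32c995ffffffe7e710d3f3517161c418b172e258a9912c4cc89628644b1231e5881916)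
  (L
  0xffffff98624c4c2f35061591f30b48f984846cc292966979d64b6541184e47d3fffffe972283308cd79840474c1b23496c2823498ea9844528c1e2366509c25ffffff995c714d6d3ba60b11c3270e118304712c850295f28030688e18264683fffffe86fa4f3048cd1816564c0d2b26079584ac13fa54c9f8c1035a6041190ffffffa2c697cc073586031403010a018044fcbfe2326001ab2fec8c253a9f47fffffe8b52602fe8d597f24a4bf72525fa9282ffcd617e6464bf022e94a27c1ffffffa2f0984bef2c45f69622facb017d257d27b4f4943a7b2f988b22889707fffffe5ec11534d4eb17c4520be42885ef9432f74d417b64592864f65f09a88ffffff979c450c2e3605ea1322f589697a64b0bd122c5ee1a949e93d17c06a60fd23267e322e2f2089ffffffcbcc34dffffffffffffffffffcbcb2efffffff73f3cc7978a44bffffffffffff2f34d3fffffffffffffffffffffffffffffffe111d3125e0111ffffffffffffcbc32c674195affffffffffffcbc434bffffff8ffffffa4e29e4bb82225dd9762ef4a79dd482d24b4ee91ba753ab501177c5cdffffffe92b2783a00fda4529ccbb73345d8111490d3b24629d0bb53185d99124ffffffa25a91d24a4ee90ca722e9888247c9d8bab3425d69112ea4be975e6857fffffe895a3c48d93aa41e9c4ba021e9172742e94889754688ba33065d71a25)))))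
  (N 496 (N 464 (N 448 (L
  0xffffff991e4912cd5026561c54e254d19246d53505286b81dd36ccf21b607923fffffe6469b1321492191449937f5326b39dd3220daa162924cd23966461427ffffffa6f6a60c8436664012531f09225329f134852699528f31f8df19044a17fffffe9baa974da54b2688a4cc722469afa9531dcdd98f2494c7537663d9555ffffffa69ea50c6e36a6361234d054998c448cc6b374634924319cdd18ca5513fffffe99ea924ccd48a650a3cc5e244997a9031849298ec6f4c7437a6cf9e25ffffff9ad67750b749262e1224c9d4798b0488c5b2486351bc3198de1b167853fffffe98728b33fce819f6740c522406721cd35dcef18ae54cc5524299128e5ffffff9b26784d1c3a86769ce4c854719a072d31551a6d61e435a4ee98a04803fffffe62611d4c41462614a2d08848a973a833574ee189e544e013da974a838ffffffa60ca292e150496ea824b7d41188c474d573b662595031248fa5f2a193fffffe62211c31bcde18e249d3025126489c042cd24990e6fcd503b46a91da8ffffffa57ea00c3e2386b29dd4bf9441884498caa38a7c622533ace71882515ffffffe97e287320cdf1934708c3a23897c2864bcd42a5daa10c9e38461e91d5ffffffa16a924cb138a967a814bc142a5a2a04c3736261a11c4b05401872530bfffffe6471bf3e4112a586a012ec508962a8030c88e186c6c92d35026a09d83)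
  (L
  0xffffffa878ad8d0037267e1b933dc97a3bc9ace203e067f16133e898a83eac97fffffea1c2b54c9147280eabccf125ca192b4416d201bae7a4cf438867b1305ffffffa848acccef26a6771b850695919ce4b8f574406e59e833b0da19d44bd3fffffea0a2b13398e6a3b49ad27f4f46729b9384cf799c6580ce025aa062b01ffffffa7b8aa0cdf26066d930335895a4fa9e8e0b3dc66e95f3364962812abd7fffffe6a21d833549e199e4b940455e6689b841251f1a96768cd337e66612b0ffffff9996728cc72549fa2ac4fe55727dcaacdfc3da66515e3584ee27eeab5ffffffe8939304fc55619844a909d48e6631c937d4f6198a574df33d89eb2a86ffffff997a4a53ea5569f1aaa42a9241982720de83d666015c3788f51be07ae3fffffe65b1284f7954a7aaaa0f8244865d1c73774f5197256cded3d665e12a8ffffffa74ca8538a534981a8932c893a7a2a9d0c749665a9c43754f49bb27a57fffffe6579ae32c0d9195a7013c954c6541273e391299566d0dc93d06e39e84ffffffa764a813bb54a9c0299329093275aa90cb438c862a4b33cce7994e5197fffffe6511254ead51a752a893a55429d1aa04dd94ba67ca493a153e9be2988ffffffa73aa78c9824a64d9b33274d72726a7536a52c99a291327cd999406bdffffffe9c8a9c4e354da52a9f12974f86499254d914aa660a40c9738264b1294))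
  (N 480 (L
  0xffffffa986b154b9588a552c2360c9d2966b0cd8627a6cd9e23664f11b1055d7fffffe98c28d3604ed1afe4e94a95846bc93a35f89e1b22784d8d3c26be1564ffffffa93cb00e223e070e1f035c49c1c2a7bcd762a66bc1b935d09ca78ea957fffffe6b61ba35b8d71acc6d13c054a6b41bf35bce026a4a50d6a3706b19380ffffff9ab64d94a0582a4b2c040b91d28d2ae4d602a26af1b73588e528daae63fffffea472bf51855c28baae145f5706a99363568a81ab06d8d5626ea3fabc4ffffff9a924d4d823be6a693e52115f1b5c790d4c396825a3e353cda9aa26d63fffffea412bd36a0f19b76798d4526aa3f2bc51e55da8e2ae8dbf3cc6a41365ffffff9a8672cf5b440a182b351d95da852accd403ae69e93551355b9a846c4bfffffe826a3e3748f4289eadd470574a28ab734e49a9a7e76142b56669e14d3ffffff9a7051cd3635269913734d09b9a524d0d3036069714b515d5c1a584dd3fffffea322b934a0ea9a464d8d1e266a2b2b83494a51a4e6bcd212686e11e65ffffff9b9e7a0d1d37068b93536f4f31a324d5425566a232b7346c9a9a284cc1123392688930ffffffffffffffffffffffffffffffffffffffffffffffffff8ffffffa7d0aa92834f4940a7a4771359a164c0e363e46881623438992866ad13fffffe68092f3418a69a125d52514ee68419d3898f89a0853ce974007171f18)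
  (L
  0xffffffab0eb70e233bc70e9de3860a2a3a29a8e1f2c27109d0386ca3a5fea217fffffeabdadb385cf7a39e9a928d4f670b1de3848b01c28734e0f2889c729b1ffffffaa88b54e0e28c704146380ca125169ece0a2be7061cc3818a1a708a657fffffe7001ed37e8a0aae0b65400472ab12d837fcaf1bfa728e0236eabaada7ffffffa24c51956b5b26f894140ed1e1bf27b0df82ba6fb1c937d0e4aa74b55bfffffe6f314055716c2a9eb5d04447a6f61eb37acae1bd2720dee38e6f79c88ffffff9bb64fd5465aca9cad53d3d0f9bc27a8de02b66ef1c7378ce41bca5063fffffea8e2d0540165a90eaf8dd327ca98ad43760e7a0b2900dd638c6ed1c65ffffff9ba0750dd13ae6e71e45495699b8a4f8dcc39c7aca203728e29b907153fffffe6e193d548d692a42b455195a0a1cab553b964a988b1551759ea7b2ca8ffffffaa26b38db927a6de1d936f8ea2a0eb354e0590a5d2c43700ec9b82755ffffffea81acc504558253c9f52a04fa6da13d536963a96cb0cdb83ca6db9404ffffff9b544f144b56e6e69e853e5659b5e768dad37098b28d36c8e01b627023fffffea7aaca36a4ec9b4a4f4da127895127d5339632958b08da33c66d393f5ffffffa9dab254df590a652c6365c9da9aab1cd9c3c06cf13d3668f01b406ed7fffffe6ca1b8413d1f1b2a4ed4c758c6c493b3648ef9b204f0d8e3be6c61ba4)))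
  (N 528 (N 512 (L
  0xffffff9d285ece962ca74d1665839761d385ece912a474fa013a60e8a63ca34ffffffe7479ff3a34a8ac02ba926b49ab03aeb4c45462946b04e903fe77d20e7ffffffa25454d6005d474515143d52b225286930b516a4dac03c51099d187f9bfffffe74415057f174a3908650fc4ae7df22d4c1d452922afd5f05d07dd22c8ffffff9d0a538f1a42aaf2ae73b8d0524e89e55de5caae82e33be1071d0e7f23fffffeaf1ae63a04d1ab5eb7d5b15be73d94e5759722b84b88e7f3f673f1504ffffffabbab94e7a2aead02de39c4a6aba6b90e763f273c14e39d0fca8e6ae97fffffeae7ae339c0aaab28b74e6b298ae0ae239b8a71cea7e8e733f497aa855ffffff9ccc5295be5c289821a3e99149cd25452e5506a33ab93c35091cd47e23fffffe7e022d3994a81cc2540e632a072e14a4b6d4128b6ae0e5f296ad62df4ffffffab6cb80e5b2b072b94e394ca4ab56b7d5a45bcacb2dd3954fb1cb25297fffffe7251f53930ba9c9c53559d5bc72814d3924fa1c8c524e523e8a29ab72ffffff9c7e7d0e412e872194c564d6e9c8a530e3d2927241f53944faa5aaa04d1223d871d146ffffffffffffffffffffffffffffffffffffffffffffffffff8ffffffaab4b5d2914f6947a7b474d351c64518e392c471b9d238d4a4275ca913fffffe71214538aca61c605d123b4ea71699c38a4a79c4e744ea94027179d18)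
  (L
  0xffffff9e04840f002b6af9ae8464d1422f89893df552aa4ad63cc10cad2abf1ffffffe88d15f57dd741df856cfb245677fa0f4f61542a80b54f0542277f20f6ffffff9e38854ef62b4934a594995062d16bed6715eeb202f23be4fe1df67fdd121311ffffffffffff9de856bfffffffffffffffffffffffffffffffffffff6ffffff9de45656825f493325149910724ae9e16605eab1aaf049710521ae9363fffffeb3f2f93b98ac9dd266922b4e67759a459517a2c5abbcf2a4307761967ffffff9dc256167a5f089aa553b90fe22689596485e6b12aee496d061dca82a3fffffe76c15759c17bab98918ede412ae4a473b75031db6568edf40cb33af68ffffffacbebd56535e895aa7f4add3f9da055ced740a76a9593b4d02a968b0d3fffffeb23af356a16f1d9655cec62ac95ca7f3b35021d9e560ec9408a572c25ffffff9d8255563f5e4ae5a3b3b15032b8c8f0ec42b476e2093b8104ac70bc63fffffeb1a2f058b177a5529f92ad4fc75e9553b00ac9dac820ed24109b02954ffffffac48bb959a5ba75d1553adcaa25569f8ebc2b07662073b2103a694a4d51283fc75a953ffffffffffffffffffe79a21affffffffffffcf3c439ffffff8ffffffabdcb9ceb431675816d3aaca91e5086161f5dab09aec3ab8d21d6454d7fffffe7511813a90b41d4c5a56185da7541813a81001d3a548eaa3e29ad2942))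
  (N 544 (L
  0xffffffa892adcf5c3b098d28d5cb1869eac5f0f5a3d07ac1ce3e29129ea65983fffffe7a596446a933ae40c30f503d4b8ab0b3d38b61f008910a54907a917a8ffffffae1ac28f4a2f27a19643d20b2ae06c20f462d67bb2233dc9119ee088dbfffffeb83b09419520ae00c20f4243a79f1643d04b51ed6888f674447b2a224449109ffffffcf3a2c7fffffffffffffffffffffffffffffff3cf501ffffffdd11b42279b962ffffffffffffffffffffffffffffffffffffffffffffffffff8ffffff9e645856f460e8979f849c93c9e6a80d43d56cac52dc5a897e9e6c86a3fffffe7971605bb58323927f56e360a8f226c505558aafcb6cf314208e22698ffffffadbac10f2d30879398545212e1e528096d1606b63b023cad059e48580111941e79115fffffffffffffd01746dffffffffffffffffffcf39437ffffff84424c37ffffffffffffffffff3c78af7ffffffffffffffffff3c84c3ffffffd7fffffe78ea0e3c6cfe2d62bfd26d49eb532fe5af580ad6ec00f1942a78b95e04494739e2a577fffffffffffffffffffffffffffffffffffffffffffffffffe3fffffeafaae83c3cae9e2457925e4f0b502fd4fc9562adcb64f133fcb582ff7ffffff9e14848f082b8b4e2fd441d2a1e185793eb556aafad83c38fc2d4abf9ffffffe88e1625a6d7e9e065711164b4783a114f91552aacb5cf0641e8a725d6)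
  (N 560 (L
  0xffffff9fd25cd7e763c7f09703fa1181fce5c4fe44607f2a30461d319fc68c1bfffffe801a333f74b7a40c9c115d4bc7f82313f7d179fc08bd7dc63cbeb31d7ffffff9f8e69cfc93407ec1923f28cdaf46c60fc545c7e222e3f08b7af94c707fffffe7e09f7582575a3d69b11974ca7df9fd5f018daf74c697ae6327de16f0ffffff9f685b90014668e3a693fcd189f725bcfb64587dba2c5e818c1f767f63fffffe88c1764691331f5e5b0fb341eadc2e05d8d892e46c311144b47d8a2b6ffffff9f5c5b579462eade2e03eb1151f525b1756622b8c30b44ed2d9f568a93fffffe7d216b466532a4f09e4fa73f0af4ae75d29882e1cc2910b4a87d42298ffffff9f445a978e62cafca6f46510821b693974261eb843095b9182af08c563fffffebbc31445292e1f345a8fa144e7d016b5ce5872e02c20f9e44e7ce96e6ffffffaeb6c44f99306b0daed3e48b4a0f490cf954427cb96d401d1a2eeac4d7fffffe965a813e44d8a6baa5176e6267c49823e34da1f1e714f8b4407c31690ffffff9ef859d1b44d0bb03123e0ce3aea6c44f8143e7bf96c41051e9f0a6023fffffeba4b103decbf9edc59cf792d0b9eb0e3ddd0f1eea5acf7343c7b8a1e6ffffffae82c3d0d3498b9a30e3db5111ec659cf6c43a7b516a3da10e9ecc8753fffffeb8db0b3d88beac22bb0f5d2cc8122383d80b69f2889900d46ab98b0d5)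
  (L
  0xffffffb110cc587c660c2eb2d415cbe30e4cbd05a3d282e1cf430d25a0bc5f57fffffec1532758557620a85f50512f6c3432e4158c5a17a9292174e4c31b2d5ffffffa09c75d0503c282417c617196a638a3504c3b48251cb42bd24a08a5ec3fffffe8d426740f4bd3098cad0433d6c29b2c4100c52146921042448853a487ffffffa25868584965681b97a40f0f62b8e81903a31284da47425d23ae42c31bfffffe81b17d60fd952b9481903447681817a40ccc4212091908c48cb8b30b4ffffffa0545e5839652c17b2840bcee304ec9d02d30e8432454fe9572e24c2a3fffffe813178607d93302ac953ff3dac06b2440a4c3210091140148ac04b238ffffffb006c890202f0b66302418d20a04a88502330a83c24347e1372ffec85ffffffebfcb205b218120325e101f46e80f1794070c220de90906b484834a426445d15a02a5dbffffffffffff40610bfffffffffffffffffffffffffffffffe3fffffebb6312488539249e9dd00b2ea8fb26e40411a20245d900e44280a2345ffffffae54c312134e291ca754014ba23e09b500a2ec807a3540211320268d57fffffe80222f4009162fe4c7d0004667fd9723ff9199ffe8ccffd46689ca5b4ffffffafd2c78ff42e27fc97245512eafd8c7cff64647fba323fe9192224969ffffffe7f7a313facb82fc6c78ff24587f8a2f3fb5189fdc8c52094e087ca577)))))))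
  Tr.N Tr.L
noncomputable def t2 : Tr := beta% (fun (N : Nat → Tr → Tr → Tr) (L : Nat → Tr) => (N 720 (N 640 (N 608 (N 592
  (L
  0x4428c3ffffffffffffffffffffffffffffffffffffffffffff4384c37fffffc7fffffe8701ad6609a3b2c8d1126e42acb6345662da4b30ad2126f49e86e9860ffffffa1b26151904c8bc2b155e658ba1b88a18a3668c0232265eda3a4009be3fffffe86a98465cda332d0d1526c3fecadb44624d992ff4c8126849a86c20c8ffffffb16acd90d4444c98340434921a19660d0d048286718c48bd3a3270d053fffffeca8b43650da13240cfd0c1304c9bb414318e221907190c44808651835ffffffb1b2ce56215da85e18342e4c0b256d010be47e86018b483538b24ccfd7fffffe85b1b242e0dd215c60991d67e9ab29442c8dfa1686d50b047c8559810ffffffa3649a109f300c83b3d42a4e43220cf90a447a85118a42990fa1508f5ffffffe8971a264099ea12a60109e392ae420942711e2134625098478bb0b126ffffffa12860d8f6678ae6a09424923211460109147684798842351daea8c453fffffe84117f63b19db1bcce908936ec69339421d1d210a61d402472ba83108ffffffa0f85f98c8670c5d3374ff8e5315ccd908147283f9864ff51d3154cd63fffffec5133441d0bf2dacc0d0d149883da2641e51c20ee6151ee4dac4e3337ffffffb124cc96d460683397e41cd2120e45fd07046e83718441b11ba0d48ddbfffffec0832441990eb0d6cb906447082f97d4188c6219e9312414ecc39b2f4)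
  (L
  0xffffffa2d66ad9d66a0ce4b4f46d93422d89811694be8b318e45b92fa2e097cbfffffe8b21ac6709a73376d351ac4ce8b2a5f4584c722d098116d4c08b7a603ffffffa2b897915831abd3b18457917a2c064915a4bc8ada5e470934b35ed31ffffffe8ab19f5ead8c22986351554648a9a5d45452ea2a49751504ba8a7a116ffffffb2c2d1114b44e8a398c45250c228462d92c680c34b2e489d39a28a6a93fffffebc7b1644fd28ad06be913d4b689b98a64559f30accb113c45489d2334ffffffafa2c7110d31288818a445508ad0abe990367ac2532b444d15a2228c9ffffffebcbb174400c424d48391044a2881a5463dd9e3080ca95e75ceb022ea7447cad7fffffffffffe87e988fffffffffffffffffffffffffffffffffffffdbfffffe8ce26543dcc3adccc150fb3fabebb1d63b59db074ca51fe4de87d2317ffffffa2646796ea60a87918743d8ff22668298e1674c1832849653c21e8959bfffffe87898b6685a5a26c8295eb5ce87698763559cb050c9d1414a2877a554ffffffa3249910eb30cb482fb44190922049658c9670c10326443114b32ad29ffffffe9319a35a497da1d2619262426930a0c62f59bb02cc952604accae34464420af7ffffffffffffffffff439cc37ffffffffffffffffffffffffffffffd7fffffe87318c44f92da4ce8311054b287198662c59b301cc911404aacb4b454))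
  (N 624 (L
  0xffffffa4109c1202336903a2f5e958c2fbec792044e0902a70482918b300d1dffffffe8fe19a67a9a8abf48a15f15d0bc4b1569d1af34d8d751ff4ae900a4e8ffffffb4e6d792b34feb2c2f4491d3b23ee8d51f54da8f919a47e51c23f69b4bfffffed35b5d4a9d3f2c5ebbd2334e88f8a3447b0cd23e89b91ef4868fd26e3ffffffa3c465d99d6948f522d5f358e23ca865a5e6b8d2335a479d3123d266e3fffffed2eb5c476535a3b67351dd3a48ef9d047613523aa65d1e1330d27b5b2ffffffb48ad691cc4d48e81ef4750f923a47c11ca32e8eba6b4738ccb472d64ffffffe8de1965fd58fa38c8b17e163c8e099b46f934a37e9a51c34bc8e2a198ffffffa3669211b5448d1835846dd303410d511b14ce8d719546e533a37699cbfffffe8d4a3d46ad0fb44cd5d1ad4becfe3534698caa3609a11b84d08dd2683ffffffadd0c151a54568d0195468930b3e2d49a2b6b0d11b57468d33233a64c3fffffe8cda57466914af96c7119845acd934c685dab341ed559e66a28ca9920ffffffa32295118f49ccf7352462d32231a655a006a8cfbb5346393223126403fffffebd4b1845f8c7a3066411864c68c2993460131a30298d188460cf6b527ffffffa2f698917931cbd8b195e458b22fa8419d76a0ce1b4e47993633bed45ffffffe8bb9aa5ed58ca2e26391a14cc8bb2616739a7b378d351754c28ba18f6)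
  (L
  0xffffffa5806d13545289621b14ce148a58c6c52bd35c964a814b08d9285aaccffffffecc73494ad137256c8212b841095d2074ac93f255e6b52bc4fcd733682ffffffb30cd212a84da9552054ab902a5588112a535a958a7f4aed3fb5b4d98ffffffed7cb6a6969ada53e7952a13ca9519e36ba5b4b5beda12a44fa94e1ac0ffffffb5bad9da426b294b1c14a60e0a5346f9acf6ccd62b654a6d3e25266ac3fffffece034d4a48f925207c928e3de9461ee4a20d525149e9285352d5cb641ffffffb3a8d3d2843a49411d24a00e6a4fc7312894f693e1aa49e4d4355ed8c7fffffe9381a45f4d8e24ee8a527343493a9fc6a89b1352cd8568e5f693b2798497d29a4aa68fffffffffffff497509a4b0833ffffffffffff49692b7fffffe3fffffed50b624924d124a08d52523a2b2d2f449393aa49869160f5d892a2757ffffffb18ccdd5da5c8d48360492137247a6892464e89221a3490920a4809d13fffffed4ab6148d4d0a4748d123c3e2b18aef48e0d2249a9dd6195da929a777ffffffb03ac955c45c4d4135f48d136a45a685232346922a7648c126247e9d93fffffecb8b4556cd6fa45468d22c41691199e6a31b03500d7d2284b891319f4ffffffb1d4ce922246a90d1a24854ceb50ed8121c4e290f19e48611fa4409c57fffffec1bb2848511a242068520b338d3eb5f4848cf24369c920e49490fa725)))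
  (N 672 (N 656 (L
  0xffffffb6dedfdb656fcd643656b31b2a65c6ed3313829b32954d894aa9acb1d3fffffedb0b7d4cb54226526ed326374d653654cacdf268ca4d342526a682c65ffffffb6badf132539ea0eab24c80dc281aac187d660a7e2cb4f1152a6466e57fffffe98c9df509d59a63688188366098ea3e4c5cf226286e135852898fa002ffffffa626a3130f36eda637962699936aaded4a15829891ff529960b69ede9ffffffe9869b96d25bca6126dd8e7674a1fab652656026187f95725b2a20ab66ffffffa60a6d9b436f0a0c2b163d19daf8ac6d48f57e9841fd6cddbba926afe3fffffed933734f3953260871930136ad97b7664919fa704a6548557ca45abe5ffffffb644dc93865329df2a54bf4da347cd653cc54cbb8b13506d5926007c17fffffe97d9b36cadbab652dd1b256e6d90b726c5db7b612db5b1e6e29cf29e8ffffffb638dc1ac26c89cc29d4e694ea5ee6cdb116dcd82b6c4e594ea5f46d93fffffed8b36f4d3149a6dca592ef364d8736e4bc94225e86cd33a52297b1f95ffffffb610db532c51e99b2914bacd8b608db12ee366978a854dc94b28f6aed7fffffe9719af6bf5b5a888ad974e6209741b751955ca5cc7e15645b09751b78ffffffaf86c6d2e236c96f1b64b80db25ae6bd45957096e1f74b68d82728a753fffffe9662254b38e025a06c937052c9691b24b2940258e6b92d436296b1f42)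
  (L
  0xffffffa766711c27742e123a04ed949274470d3b4542caa343705dceb7a2e391cf03cfffffff6c7db8b840e7dc1b73ce0b39d6e21c13786e293a0386e0a39c1ffffffa73870956755ae0839b7019cd37f8e65bbb712dc03816fe1cc273ea1e3fffffedfa3974ec1522732a1939b50c9c91c26ebdc436ece0139750c9caa824ffffffa720705bf272cdf83956fb9ca37d4e4dba770edb837f6fa1c92a08b323fffffedf33914e30e0b474d65abc6c89e12a56e75c336ccdf940f5609c79ef7ffffffb7bae3d38b38c9e52a64e20e03746e199446849de2a553e965a9fcb2d7fffffedeab8e4e1d44270271137e37ed5f3644e0d44b244cfd40555e9c29ee5ffffffa6f46f9b526f4df13906f69c7b7a0e39b9370adb137d6f39c6a6fa70e3fffffe9ba1bd6f21c6378ae2d9566869dcaa14de54926ee70dbc2714ddfb898ffffffb774e2536837a9b7a854dc540b758e2136d5229b59c24dcd422b30b75ffffffedd33876e71c335a4d99ad46cc9af1bd4d9d4826ca7053635209b0a054ffffffa69c6f13555009ae2256529a126ae9253533ba9a89c04d6546a6b68063fffffedc93854d3542a68a6f5340378d6b3664d1d47a6926f934351e9a5a045ffffffa6786edb8e708dc5b834edd5032b2d0d33f3869bc2976e1dc13616db63fffffedbfb814cc8dda66ea11339500db9b804cd4e126d8a5933b50aa752c87))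
  (N 688 (L
  0xffffffb96aec94123cad2835b6ac9b1a81ca39ca7762e4ebb050414da8167343fffffee4c3af508559281073d403396d5a363618596a912af9406532a051cc54ff1227ffffffffffffffffff4fe0e57ffffffffffffffffff4fed1d7fffffd7fffffeab4aa355994f3906eb18ab66ae39bab7239d73910eb5c757569fb1ca0ffffffb8c2ea53f03929fa9ca630d9bb8daea956c5b29f9a13525d603904eb1ffffffe9f6aab4fa4e438d6ea98cd6709f79ca55756c27d884946b572e393ab7ffffffa7ce749c687549f11c864399ea7ccaa95545ae9f2a1154f16aaaa0b5dbfffffe9f0aa94f74e3b8beea574761ecee350551d6b27c08415805b6d963757ffffffa7b6731c5a7529ea1c75da58927b4aa153e5aa9eca0f55496ba7ae725bfffffee243a76eddc43664dd9c537509e81c664f1a0a7a6a915345a8a992d44ffffffb816e693cf5129e5a9a4f20e2b898ea17736269e6a88549969aa58b4d7fffffee00b994ee8e2277ea213c13ba9e1a9b4ef54d328cd093c551c9e31de7ffffffb7d6e4d3b153ad5d36468f1aca7587113d254ec9f34150d55a275e7c93fffffeab42ad4ea8e1b86ee8dc4474ee1f3a66f25c6371ee11c3c74ad80b6b7ffffffb874e91c367469d41c370d1d1384ae81bc6716dc63837085cfb7c6e41bfffffe9d39c670b5ca3866e893a43869dc2976549a1a76aa81c1c73cdedb8f5)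
  (N 704 (L
  0xffffffa93a779d89782a4a9dc60d1942b18b7149c3fca4d28b5261562b1cb71bfffffea469db75fde02b0ab6d83d652bdeb1a5248fea920a29c63752a4a28a8ffffffbad0ef552e5a6a441e9520ced3ae2efd48a55ec2fb2d521944a918a257fffffea409d975addf3a1ee65d6177ae8739b7541ddba84ee5d0d546a8a2ce8ffffffbabaef1ab66c6a862cd543966a8fa765d4a774e9f3b8542966a90076d3fffffeea7bbb53496329c8b214753b0ea3bba51e15d28f47654c0588a3e2845ffffffba82ee54b0584a5e2c451bcebba76ee14723b2a3babb53a16428e87e97fffffea319d574c1dbab22b71710614a351dc51a0fc28cca0d46c556a371dc8ffffffaf76c694623b6a2f1db5180eda8aa75545c3eea2d2825160eb2a10b353fffffea252205130f228a075d4be588a291d75114ea2890acd44e3b0a2a1f53ffffffa876741d2476ca21a836a99b12880a2d5885b8a1f21a7461daa884a2e1cd9544a1b9cfffffffffffffd4f2592a1d1e7622598aa34b43fffffee4dbaf8ffffffba0ce5551059ad583636949ada86273d87565ea9b2d450d95228687493fffffea119ce50a146a85e7614e6590a151d8511d5ba84c75142c3aea172808ffffffb9fce6d42255ea0f28e5064e734a8d6d72f61aa952d350714428407417fffffea099cd7315da282ea29cb9766d3135c55f16da82c86554c5acac12db8)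
  (L
  0xffffffaa3a7a5e2879ee712925460f3aa3cb1551b56ac45b3173dd50bc30f395cf4387fffffffffffffffffffffffffffffffffffffffffffd5163cfffffff1ffffffaa247995765b4e8b37278c5e8b6bcdf1df8798ee23c7742dcb2a2aaf63fffffef15bd054455a2a1aaf150f578a831e677b1e5bb74f1950b578a84ab84ffffffaa04795c7f730e6a393787de7b9d4e55ddc794ed93c571f94c2a0aa723fffffef0d3ce5404f4aa50b4d4f83c8e513b053f54730fecc14fb534a7fa9a5ffffffa9e878dd98784e7e38e7845e73932ebddd0792ed43c473e54e29ee79e3fffffea761e2780de6b9caa854f356ac4833153c562a9de79dcf8524eac3bb8ffffffbbeef314de3c4a72abb539d59bbcef2d4e3588a709e653a55d29d6a45ffffffeeedbca72a9d8b5dcda5af06d2a6a1e2537561a9b67954d9586a6ba904ffffffbb9ef254d3576a659e25318f0b5e4da54cd584a679e353256129a2a3d7fffffea611e07725e43a02d0d88d662a8fad05314f3a9e0b25cfa52eee33c78ffffffbb86f1d4b83c0a5eaba52fd5bbb6ef194bb3cca712c853055dab4cb79ffffffeed8bc57279d835c0da1ae46d0a591e052dcf2a9b8b1d4d858ea5aa084ffffffbb4ef114b1574a559e052a0efb5c4da14ad3c6a662c6532163295e81d7fffffea52ac1527cee3b1cf057fd640ecdbc35290ffa944a314a7518ec9bc27)))))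
  (N 784 (N 752 (N 736 (L
  0xffffffab6a7d96965f8adda2a56dd702b728ad66b5ecb1eaf15a217d2b74b823fffffebc5b1556d139ab607ed5b23f6ad51f67b15eebd6ef715ae5bead69f74ffffffacdabd95a940ead09fa5670fabd80f755a35baad29f6567d6eab4eb117fffffeb1d2f1566d022b2a7e55923e8f5a3dc565cfb2b44b7959e5bcacca965ffffffab0c7c1ea47b6ac82b96a61b0ab1ab0158b434ac4ab671bdd52b1eb023fffffeabd1ef7a5ded2b08afde877b2d2435a55fd0caafaac5581552ac1ab18ffffffaaf0b4957759cf383d6602991bcccf55e7d7b0f3abd779a1eaaae87b43fffffed9f37755a8f62ae27b581a64ae8ebb555bd09aadaab1573516f37bd67ffffffaac2b6155b3d6e8fbb56089932ac67b5560424aaf2ab559541bccaf55ffffffeaac9f27485daaa9c7ad851656aac2d7555d08aaaaaa9553550aa8aaa6ffffffaa96b595453d4d9e3775c2d84b38cd3954a420aa42a9553558badcef9ffffffeaa19ee6d01bbaa707a9727618aa12d5550507aa7eaa153d554a9d9ec6ffffffbca2f4ddc078cebc3bf7979ea2a607a5537568c3bb2f54d553aa66a9d3fffffef1c3d154bd5f2a52b2d5243d0f29bd454ad592e5ac3552754ca96aa65ffffffaaf2b695223cee88ba1791de9bc7af49e0479aee53c873ed43ba70edddce4541ffffffffffffaa4079ffffffffffffffffffffffffffffffffffffff6)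
  (L
  0xffffffac66815f397d0c09b245915793030c95636418b312f5594579be66f9e3fffffef94be658ad02ac609b5a846beb1927558b905acacbd16da606b2eaf47ffffffac46811f217cac16b2758a171b064ca1626414b252f359917aac54b8e3fffffef7b3e15889252c38899617402b6c3035879762c4080961a4eaca73425ffffffbdc0f7d61647eb092215835002d9cc09614404b0eaed58413bb10acc17fffffeb062e9582916b32cd29f147c8b031ff6d59bdbb40f0d6085d6b462fb4ffffffadeec1d5ff3fcb011ff65b9a2b334d29b4a6f2ec63c1580d752c0a965ffffffeb05aeb57ecfeaddcc1997468caff2e16d11bc3b04f016fd60ef833e37ffffffabec84d5f841eafa21057c937af5ec65c5b752d9c37757bcfeaf3ac5c7fffffeaf6a025ad17fabc87f15ec4aaaf52297bb5f0bdb2f7d5e84b2af32e76ffffffabc47edef87c4bc0b045aad7c2cfebe5ee37c0f68bde66a1a5aef6c523fffffeaee1fa5b0980bdd0f8564c5e6d54362578571abbe7f16425e4b272f38ffffffbdc4f815db4ecf64bdd7b2deeaba47e95d95c4aeb9fb5755713a78ee13fffffeae71f95ae9803da8f7d6275dcd4d3615744fe2bc0b956755eeb14aee8ffffffbda0f795c54e8f5cbdc7aedee2b807e55c33f6aec2e4575172361edb93fffffeadfae156f4fc2deac1d77e628afeae96bf9b5ba66edd6f160cb3daf87))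
  (N 768 (L
  0xffffffad72bc96bb5c6fe13f56621a43f60fcd6b642ab5f3015b1180b92aeb8ffffffecd234b5ad573ad64855966688f8d3e47f15fb3f7efd56b35feb57a130ffffffad5abe96aa5f2f8b3e46661a52d4e855fb37e8fd5bf35aa17f2d488483fffffebd9b195a6908ad3a84969f5f6b50a1371a5d53a32ed56a3434f8c3e47ffffffad30be16975c0bcab175e1d8ab3c8d45f8c7e0faa3ea66d1a62d288403fffffef7dbe25a4d29ad2295169e5fab4520e7e81f93eccfb168f4f2b46aeb4ffffffad5cbf9681418b4225b5a1d7d2d0c969f477d2f9d3e85a25702fdac7dffffffeb3ea0b5aa57f2efec516f960eb402e67de9f73e54f9997668cb703048ffffffad32bf1679414cd134b5ab1733e16f8df707daf913e55b79822cf8b85ffffffeb6030159bd04b1f6cf16775eafcebf259d1792ce48396765c6fc9bf17ffffffacdcb79f8b7e0baf31159a17b2ecec4966a5e2b362e07d01f42ccc8243fffffeb2f2087d41f4b170cd96785eec60b37598d782cc28316655dcfc2bef8ffffffbef2fb9652410b2ca6e6a49b02cb69dd6575deb2aa0b5b29812cb8bbdffffffeb232077dbdf6b1b8ce564d5cac72b3a592d772c928296505e0b27ae58ffffffad70c0163e40cc2132a5911783ec6fb164141cb39af7590d72beb2fadffffffeb1dadd7d4df52e3cc2d6395e2b92b0c58f1702cd2bd9f447d2b1ba060)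
  (L
  0xffffffae9088da1c6acd56b625d3d41bde2f8574d614ba5a296091932ea29163fffffeba022280be0034f6d79746552c53b345d1584ae868a1e887b3013bff8ffffffc032ff9934680b99a225cfd872e7c88d73c610b9d2275ce1842e6cc21bffffff005bfd619596b102cc172b440c003215cb969ae60ac976f626b992215ffffffae528d1a246aeb8fa1f5ca16aae4cbc5724456bb2b1264259eae448f1bfffffeb8e2217ffdfe2e3abc571a616b8a21f5c65152eb0c4591367cb8ba3b4ffffffae18879a126aad4fb615c455cbdb6f7d70f452ba6310633d9c2e268ea3fffffeb8321d7fddfdb4e2d7570a5acc033225c25142e88c3dcba766ff8bfa8ffffffbfcafe586f65cb7fa1d5c15842e0887970244eb9db0e5cdd872e6ac39bfffffeb7c2ea5bcd0d2decb856fa5f2b7e3067495db3d4ef6d6fe5d2cd534b7ffffffade0c196ec432b77ae97c25f1adf6c1dcc6768f4d3da5bc970b2f0d19ffffffeb74a665bad2b2dce95d6e2432cbe34772f9d9bd18f656e5450bf2b1e5ffffffadb88619b8698bc12e666b1a5aef2c51fda7f0fe83f75b7d7c2dc2be63fffffefecbf85b55212dae90d932680b6caed5b4d812da08616db5dedb637e2ffffffbf9efdd6c946eb66a3861b5972d9ebb16c6430b693035b2d7a3964ec4ffffffeb60af75b0d72bf94fd9990692fdd3f45afd802d788556c5600f3d3d72)))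
  (N 816 (N 800 (L
  0xffffffaff08de0d181d063c0d5ff160c1770317fb49ac4ab32626199416302e3fffffebfbb1f5fd934afe68cd7f463ebf5a325fc18fafe2c7d7ef63ebf72fa4ffffffafd48c97e8460bf22315f8934afc09c17de63cbeeb1e5f6d17afccc147fffffef8e3e4657da232fcd1d9b0698bec257829e0541430257d962abeaa2f0ffffffafa49697d44f2be62655f39363dfef8a091811042c075f418b2f928b83fffffebe22826d61bdb4d2d71a1e6acbe328a5f098d2f7e8b607080abe431a2ffffffaf78ae1da2786d26b5a6851aaaf7cafd7b945abe0b1b820a032f8ec6cffffffebda2fd5ed930af649899e26a2bd82e881de0340d70157ad45abdbb161ffffffaf5498d7ac4babd425e5e99382f488b97a2630bd0b185e7d163e06f887fffffebcc2595e4d152f2cbf179a49cbce31680ea00c000ff1f017c4bcf2e87ffffffaf2096d78d450cf03515e49312f36c5e030800ffc3fb5f3d8e2f70c65ffffffebc62df67d1a92f0c9397885f8bc526f817e0240ab00d7da63abc1a280ffffffaeee89df1e7c8bc02f95df570aef4c1201a7fcff33f97c35f1aef8b9a3ffffff023c0264a19fb290d0976d44ac4eb335dc9442ee8a9977061abbb2265ffffffaed68d5a2e6b0bafa245da9542ed0bd9766618bb222b613995aec491dbfffffebae22680e600aebabd975a622ba92245d6585aeae8a9854658baaa464)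
  (L
  0xffffffc2c707187b480c4130d621146b95cec5880596c3f28e6531a1310cbb1fffffff0aac1b77d1e5c28106587a642c38a4061e16a30ecad193a682c3a2414ffffffc181031870610c3624161b98130ce8fd86a4b8c973406a29b042750653ffffff0a3c1a619986b0bc90185b47d09cc1961815f30c4abd91e67ec3223f5ffffffbff4fed85a648f9e3e861619630a48f58574b6c8bb3e615588b222cf93ffffff04340761211e309a8f58505aef9f3e8612d2d320acf584f624c85b3d7ffffffc008ff183e476c21af2611992308ac998414b2c7cb3c7badf0c25f061ffffffed0835560e11d3d14f6583c57f05240960ed2bb1deceda786bcc78b3b7ffffffb06c9c5e947b2c1723a60d5603066bb98314acc71b3a62ed9bb538d85bfffffec15a3f84860bb058bb9edd7bec1323a60a52ab1aece58af66cf6abdf4ffffffb3f0d4d81e472fb43ec608d6c3088ca98214a8c65b3860958841ed049ffffffec0e2747db1f630288e581b5b2c0caf0605d29b17ecdd8df67508a4156ffffffb022905859658c092f0611d9530188e580f4a2c59b36634d9cc2090513fffffef31bd4847e0b422705580b5b5081c1483e609c1b503e0f3824c042390ffffffb0048e19fa6a702c4038019fe300ec2580549cc52b3483a608c1c30423ffffff06cc0f6bb1b4b958ec587965ec00b0d7961ea34b0d6d89f666bff2380))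
  (N 832 (L
  0xffffffc32107d93561cc98a4c64cd81b25492992f65cc96a5c69f9afc4310b13ffffff113c2d64a589b24292d91c49310bc2c648d4cb24aa2591f65ac93a4a5ffffffc06900191b66cfa63e964659f321e921918658c8b25b645185b224cb13ffffff04a408640523b21092190d554fa4be9641995b20896990a618c8632b7ffffffc0810058f548cc7e2f763fd9b31fcce18fa654c7c2597b5defc41b0adffffffed0d35663ad22b978ecd8f351505540a63c194b1dc95da6e6bac793297ffffffb1d29c9cc2766c6ea4563a145b1ccbcd8e4650c71256638192b554d89bfffffec6d24a87f61531b6bcdef37c2c68a45636193b1ac9558d4648f74be14ffffffb406d518c7488fd23f2633955b1facf18cc64cc6525463418543a9095ffffffec62a767ea1f931729118c4558c612f5630192b17c94d8bc6510f84286ffffffb16c93191a67cc5baf564019e315a9118b4648c5925162c193c3cd09d3fffffee2c3a887ee14c3df0a18ac55b0f2c2786c21143af09a1d184ac54a440ffffffb14290da056a9032404810a00b150c3d8a6644c5224e870e12436f08e3ffffff0d7c226b19b2b6d0df9940682c4f3136901acb89eea18a0642c4da430ffffffb12290a1a58430cbc20626546430f07d896640c4a24d625d9042fb07a3fffffec43a4085c60eb9c6a5d88e58ac47ac96231683114ad5d0368700a3fd8)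
  (N 848 (L
  0xffffffb3b6d419d54c103f40680da0033baaa59da69ccec2626929ad45470d9ffffffece9a7a81f2033390981a326b0ce934f6745a6b39e9859cd69ace5b4d6ffffffb38ad399c14bf0394057ff1fdb38eb599c44c4cecb506991ae45370d5ffffffecdfa7b81ba02b37497da286aecdf34d66f530b3a0d3d9cc69ece534f6ffffffb36ed199b9608f7cbe266c58eb36699628b86913fc3366d57e335c9783fffffecd2aff66812ab346be19ad608cd3b4687fa15424505d9a95cccd5b077ffffffb33ed2999e4d8ccbaeb66657f3336baa270865132c316671a533289503fffffecc7a7f83c208c32b07d9916030cf4206635a4331493d99369106e40f2ffffffb30e9fa1ce849061c0c662580419503598449ecc63496649a4c365088ffffffecf4351660d27b2fec75efd7c4cbeb0583aa08c38909197a49ccc0a701ffffffb36cd3197249af83be365d574b34cd2e1a684306940e65dd7cb2f2c19ffffffecb82737c45f1b2ce93596f5d4cb6a4f866a10419103596b68acb52516ffffffb2c497196063acb1a4f65957fb2b493618a83f05e40c6579a232ba94d3fffffeca824b895e183a00b1595752ecac29265555032a6a85d026630284028ffffffc48f0bd942496ca4b13652d4a36d4df994754aca2a9a653598329ebb5fffffff11bc2e6df1c044410b1941666c9b24b64fd52327aa9d93b65ec9ca4c4)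
  (L
  0xffffffc347081ecd7bad48a766a4d7a350c9c9a8f6bed46a736a2d973512d7d3ffffff067c0d7af5ee35069d1a855ded3e2716a0539b51cd81a7f680d443604ffffffb4e49ba2c4870d3d30f7195d4c0d1011a776bad3aa6f69e594c5eb0f23fffffed3526d8aca1bb4e0c25b3a6ef02d40369b537b4ecd79a6f677174c3b8ffffffb4b89ae274864d3431b826a0434c6ac5a616b4d2fa6c6995a734ced6a3ffffff07e413696d3eb4a2ac1a53568d2aab2696590bcb4f51a576b2d2726b0ffffffb4889aa267862d2631a823a03b492b6da474d8d3035c692da834ccd723ffffff0ed426690d3e3476a6da3d548d1fa887135d43482ccda566b6d1c26a0ffffffb980ecda2f624d18a6868cda7c5c50e9a2d6aed1526668d5abb46ed5cbfffffef493d9689586344e99da2969b16b4396889333458d61a346b0d1b3583ffffffb436ceda1d62104c408687d8dc5290d1a196aad0b2658ad21bb442d54bfffffed08b29684d85411901da15635143433683932b430d5a2cc870d103563ffffffb408ce1a0666916fc3a681daa34129a1a026a6cffa64682da9b41ad4cbfffffecfcb2667ed9145a90e59fe6a6cfea6767d9323402d51a0a6a8d063543ffffffbe1ef8d9f562acf7a6467c1a933e499a2da875168c3967cda933d898c3fffffecf4b4767ad37b3c2c599e3632cf2afc8afe1c455f0dd9e74cacef2620)))))))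
  Tr.N Tr.L
noncomputable def t3 : Tr := beta% (fun (N : Nat → Tr → Tr → Tr) (L : Nat → Tr) => (N 1008 (N 928 (N 896 (N 880
  (L
  0xffffffb636a1a3758910873b28dae23c3c309a1e884f19f4438d6e233abcef23fffffed8aa858d3e22c2df07222c85ae0739a6c69b6b630a1ddcc790dccb858ffffffc3d509db346ecdd9b886ed5c4361aa15b146d8d892866dd1c03620b893fffffed83a848d1e223c28f39bd871d0274026c2943b632dbde0c79ad862928ffffffc67710e224858dbc3806de9c03606a11b0650cd89b6e6eb5c43a90ee93fffffed8036b6bf141ba4eeda0257fcda337874c5dbb5feb85e9f7b4d812a37ffffffb5f09f6331885189c3e8c9e20c60d0f62fc879073c108701b3b5f6d9e3ffffff17f43c6bb590b5deb1daf158ed79ac66badb435d09f5af56d0d7bb652ffffffc1c9041e607a8d70ac36b9561b5c6b09ade4fad753696bd1b4b5ce9fcffffffed6e27c8c762046130f631787f18743e86ea11c5dd0ee1c16d4d7d36a8ffffffc37908dc55750d69a956b554ab5aea4dad16cad6727c6b65b2b5b69f8bffffff17843b6b1d99b592a41acd520d65a8f6b113e35a0d99ad86ccd7b3693ffffffc6170f9ac350cd5daa46af54db57ea65b306ed10f42c6b05b1b5709ec3ffffff181c3d6add5e3562ad1ab3560d5aaaf84f20cbaecefdac06c8d5727a0ffffffb5409de096810d563106a9d5b3552b95aa56c2d51a797d91f63556cea3fffffed4a275822203b53cc29a995b8d4dae36a5d3cb548d89f9e7e4d4eb288)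
  (L
  0xffffffc23b055b7d682dbcb6c6dedb636e4a45b7753add8b886dd5b73bd0f2d3fffffedb72908f2e27bc94f4dc3074311f42e6dc54e3752e1ddd6792f973e68ffffffbe68f9db64520db4b33888a1636d6d09b67536dcfb8672c1d8b6dac0dffffffedb028f8eb2263ac8ef5c0473311742d6d8d4c372ae15de0794dc238187449ba36b8a3bffffffffffffffffffb6beb3bffffffffffffffffffffffffe3fffffedadb786d658dc4ed0ca3bf89cdaa28c7679e1b6aebadd9c7871da44d4ffffffb6a2dd5b535311cd44b85fa0f4767135f5e7d71d3c4c71f1c8b69ca303fffffee94bb66d2145b69aa321a084113d4327629e0b696ba9d907831ccc4b7ffffffb6b4dedb42514e643b486aa10b68edadd80780da2ae97abdedb87ee99ffffffed9fad96d056ab67ab59b3b6bb03a4056ce57438baea5b365151c5c4a1ffffffc058ffdb356dcd99aa76e85c3365ca2621c858d98b6475d1dfbae4efd3fffffeda837a6ca943c7051260287ff1524368d4222c691111d6c77cd96aa97ffffffba28a3a37f892d942877751e4ba26b3a164838f0b3ce7421d0b822e6dbfffffed93a898dca23bbb2f25b2450edcbb8588a216b7a6e39e487a6e04b9a5ffffffb646a21e727ace8aace6e09c0b640a1dc077350254027901e937fae651cf65a5fffffffffffffffffffffffffffffffffffffffffffdb1d50fffffff1))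
  (N 912 (L
  0xffffffb9c2abe3a4896df0a987551ddb9c0b2a148834eb33bd73a1c9b7c8a89bfffffedef29a8c6e1fbab6eedbd9530defb89892217b7fee65e2079edee2a15ffffffb7aca6636288ce7eaca6f5db6b79ea61bd46e711542d7411cab7a4a811c7d599ffffff6fe5cc7ffffffffffffffffffffffffffffffdbcd531ffffff1ffffffb922eb9bc752f0bb41d88f2174823155bcc708de52a37511dcbe48f95dcdc663ffffffffffffb788a5ffffffffffffffffffffffffffffffffffffff673d562ffffffffffffffffffffffffffffffffffffffffffff6f054bffffffc7fffffeddca96724dd7402eff604c804df038f6ef9c0b778a7a4038a8de02978ffffffc7ef14dbb854edda36e6ed9b73756a59bb2700dd829d6eb9b63d6af713fffffedd2a958fae2942c306e262860e253a76ea9bfb750a71daf788ff03f88ffffffc309079b9b52ae28ba86e89bb3748a69ba06fcdcf29b7281d83948ec1ffffffedc8a937d81f5c2a706a24c85edcc3736e59beb728a61db578adcd36f8ffffffb912eb5b8d524f113cf70adc9c7c7145b90546de5b8c7559ddbc1cf35dcdb5a1ffffffffffffb714a4bfffffffffffffffffffffffffffffffffffff673c964fffffffffffffffffffffffffffffffffffffedc4a9f6e19497fffffc7fffffedbf291722dd6bc64f45b836e512742f6e054f377ae263d78a0dc2b7d8)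
  (L
  0x7374f3ffffffffffffee11aa0fffffffffffffffffffffffffffffffffffffd9cee541ffffffffffffb83ea7fffffffffffffffffffffffffdc22545ffffff673c5687ffffffffffffffffff70694ffffffffffffffffffff707550ffffffd5cef545ffffffffffffffffffdc19704e0aa9fffffffb83ce79c18541ffffff47201c97fffffffffffffffffffffffffffffffffffffffffffffffffb826a7c3fffffee7fab27219d6381ea79dfc798e6aba58031febc68f45cd074ce093746ffffffb818a9a4268acf00bcc70154f381adbe048804e0437290da2c3814dcd7fffffee012a58e5a2539dae95c036fadfda9e7001c7c4950bdcd7746dff3724ffffffbcd4f55bfa71ae66ba690d62c39a4e8e3d88a12024546fdd4f3996ed07fffffedf9a9d90a62bc22304e41f8acdfb3918fe229c22d0563b689af173d08ffffffb8f4eadbf1538f213d2906a2ab850e863ec8a51e644f7429673d42f69ffffffee83ab47911e937dea71e0a79ae75acc855a0dbc98f4dd0571ce733936ffffffc6310fdc2c542f043cd6fb54e47e514a258860e17ba17849e73c4cf3d7fffffedf62a47105d339a6b31c2a708df4a9c7115d3c4750b9ce9720e73b95473cd657fffffffffffffffffffffffffffffffffffffffffff6f9d4e7fffffc7fffffedf2a9b71ddd5c218ef23b0898dfab97860a0f3e6ef9dc7b6f4e5b3b28)))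
  (N 960 (N 944 (L
  0xffffffc17102dc9f586f2e3d475e9dfb946b2dc9c560e543b17285c3394ae18dcda720e4baafffffffffffffffffffee4d2cafffffffffffffffffffffffff8ffffffb924e31c9471323b45d86d61148bd16dc9075ae46aad91422d392cc00bfffffee453847231c0c8d11721dc84d22945a721d56b91eeba4608b6f423d83ffffffc74512dc85736e422ad87da14488916646f8bb232c5c911a2cb902ab03fffffee3cb9671e1c8c8851661d284ae3a2ad91562dc897169c7655ae38aab0ffffffc0f5019c67554e362ab7e99f938dcab1d1b76ae352fd71c16e4883165ffffffee312ac71655438c0aa5c666bd0404067179bbb8b8ba1c6457f1c44497ffffffb8aecd5c566cce29386715153b896a99c50666e273597959ea3ca8f513fffffee23aa790722abbc6f29c43546e24b8788e217388ce4dd6277b0103fe5ffffffc85915dc42726e673988f3a27b87aa8e4148ab1f3451733dcdb880de11d0c57bffffffffffffb9d8e67fffffee6b39bffffffffffffdc3b547ffffff1737ce7b872a8bfffffffffffffffffffffffffffffffffffffffffffffffffe3ffffff1c244970d5513870a8dde5794e68b9885ca0ebc48f3dcd8732e96bb67737964ffffffffffffee192a1fffffffffffffffffffffffffffffffffffffdbffffff1ca44a7099503a20b49c316fee14b9670b9ca44b50c1d096e8f58bdb7)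
  (L
  0xffffffbb48f0dd7e57ef4e3da8352073b0aeddd835d2ec0b78761ddb3c7cf49ffffffeffa3fa75f5dc3af2b51d7b760eb82be75ddb1c27d065d756eceb9b764ffffffbb2cf09d6a57b1c644a7fc9fd45390d64b48c524d46075b5babadeb59ffffffeeb4abe934231bacadf5d6057aed53c4759dc84295069d6374ef1b3d15ffffffbab8af24488b3086b91930e31c20304e4a68c30834148e7a25babedc23fffffeea72bb92ce313ab4e3dd557210093fd754ddcbaa2af5d57708eacac98ffffffc94b186144832ef83cb77c9e5ba8caedd4d770ea5abc76e1e33a92db13fffffeea02ba92663044ab0be14c834f1dbd1750d5ebaa4eedd45718ed63c48ffffffc211051d7c77eede3c676f9e33a74ae9d3f578ea63ba77a9e5ba7ab913fffffee9abb774bd5cbd52f6dfef7f2ec23c074d170ba64dadd37768e9cad27ffffffba54de5d2356ce9436b7e0df73a58ed1ea57b6e933077619e03a5ce8dfffffff03640574896bba40b61f6a7d8e8f2d974697eba38ea9d1756d1be4481ffffffb994ed1cc4562e64b7892262fba56ed9e987b4e63b0674d9dbb998e61ffffffee60b58730d9d397acedcb85630764117a39ecb97ec15cbb612f483d95ffffffb968ac1e6c7ab087b7091ee2f3c58f41f867df05b40b7651e1396ee463fffffefc43ef72ad63b95ac86142832e57b3072a5d8394cac1cb16fce59b022))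
  (N 976 (L
  0xffffffbc54b3650d8d10f1c2691aa2e3c5aeca1f2851279466935a323c5ee5e3ffffff19644178a5683c46e11e1e5992044547895d1c2e9075e2171ef13b945ffffffbc36b2e32e882f0ab6d7841653c38f1de176e90b341c784dca3c32b417fffffef403d8780964bc12e51e0b72b27ec67781de43c0ab49e0d6daf07b847ffffffbbecb21e827b0f0039a77f5cdc2d5071dfb78eefcace8f4a27bbfef263ffffff0fcc2877d597bbe2ee9df3774ef32c877bde33bdab35deb770ef4b804ffffffbbb4b1e3e08a0ef13a77791d1c2b906dddf78aeeeacc7785bebf00fba3fffffeee72c6921a2f3bb0dcddd56e90a741a774de23ba2b29dd76feeff3cc8ffffffbcecf5ddc858b12e430856a0dc879161dcb5a4f033cd7735b7bee8fb5ffffffeee12c479e1ebc0a700a0107faf0ebce7715673bf4f323f48a4ee3ac58ffffffc9df199dc15a8edebb876fddc3b6cb11dbb59aef73cb76e5dd3d82f753fffffeed82c3903a2a448b0ba17a83af27bd376cd663bbcf29db470afea3f78ffffffbb4cb09f9a7e311ac2d85a20e3b56ef5da9594ee93c976b9c3bb5aee63fffffeed2bc0768d8d44d30c64df8caecd2c1768575bb3ededd9d6f726a4644ffffffbb2eef9d995951b044682ca05c9a71924828bcfcc3f17655d93b24b043fffffef55bdb7621603b1eb060cc81b135c317635753b16de5d916f31b3c467)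
  (N 992 (L
  0xffffffbdc2b925658dcff1bf87dddf6befcfb9ee67bcf722e684aa0bc2bd06e3fffffef6faec7f01fabda6b8dede64ef6e30a7b6973bddef85ed8678f6b3276ffffffbd9eb8a5578dafebbf77c9df2be58f99ed25ccf72be088221544850ba3ffffff0314047b39b03d94b91ecc5c8f5fade7b21ee3d8cb7dec47b8f613c64ffffffc0ad00debe6bef5d2e27af1713d66b75eb85bef63bdd7b0deebd6ce213fffffef563c17a8d6e3d54eddf317ccf573da7aa183bd4ced9eb06f0f593a17ffffffbd3cf69e965b6f4ebc09516363d5af6de9b60cf4cbb47a81b5bd44e59ffffffef49b577a55943d16ca5e865b70e44247a3582bd1eecde8961ef48bb35ffffffbd02f35e8379921045683fa09ca611a9e7f7aef3e2da948234bd0aeb4bfffffef3bbc879e5e3ca7d1ae0df81f29146979d16d3cfcf625328d4f3db013ffffffc6d3119e736e4f38ada846a0ac6f11224228ad29bc6b8dea243cdcb643fffffef35b9879b5d946ed1220f4824f33ada94a6354a371a5e695b4f322d80ffffffbcc4c8de616d0f2ebb0797d6a3ca4b4de5b6b6f2cb21795dd43caaea13fffffef282d490fa2c3c96dfde465a4f273c57935cac2b106de496e6ff53f95ffffffca211a1e4572af21b968f72283c78b4a5028cf21d4587905b93c7ef013fffffef1cad3919a2e3c66e05e3059cf1d3b978d5cdc01cff64128aaf1bbbd5)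
  (L
  0xffffffbf22fb5f8a5ed01f401819a0245950e1f8f7d4fc6afc8a1219c945181ffffffefc4bb194ba3543db09df947e30fa42882d205bf0eec9f967e2fc22f50ffffffbef0bd1fb87e9011bfe7e09db3efef81f7d7ccfbdaf9835a073f02f2a3fffffefc83f07db979c4050a9f767c124945f7dcdf2bee2be1fd27eefbabc87ffffffcab91b5f6d64afb4b267daddabec4bc9f675f6fd13f27d95b14af11bd3ffffff1aa4457d85c2c261061f5b7cf2bbc6f8ea2263ebede9f5d7cefac2f20ffffffbeaef95f525e30013fc817201c5710ddf555f8fc73f08a5a1a46b1115ffffffefdb3f47d457abe9acf9f4b7d2fa533d7d19f43e90be9f435e2fa7be81ffffffbf58fcdf385e0f9eb2c7d09f43e7ecadf3b5f4fa2be97d057b3e9cfa5ffffffef9ab7e913a2d4217051f5a7d708c4157cd9c8c301079f5c7d6f992f00ffffffbe50bbdfae7e6ff6bf97cc1edbe5af79f2b5f2fbe3ee86b210be5edfe3fffffefab3ea7c8177424905df267bd2a846c7c8d7c3ee4fb5fde7f0f92b8c7ffffffbe3ac75f1f628f8bafe7c4d75be36bfe3c289d2724657c55f23e32bf57fffffef883527c49a2be10d19f0a60cf862f8923a2fca951b1f0e628f82ae90ffffffbdf8bedef75ccf7d34c7bf9a3be00c725668dd2ac46d7c098bbe08c61ffffffef7aaed7f21fb3dceb95ef4672f793107bc1efbddcb9deec654f753396)))))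
  (N 1088 (N 1040 (N 1024 (L
  0xffffffc06acfa02e61f16343880dda840890060337f7018b16822a03cb9b1d5fffffff016b76960a37c5ed0f20296eb0dc42396f63a46190fa02b7f501330f0ffffffc030c3a3c889d0113ee8091b5c03efe201d7f300db14951a364042e9e3ffffff00530d91d22ec02ce2601178f009bbb803de8c01ae6e3e48a300ab318ffffffc00aca9ffe617001bea801d914012fee00162f01e40195ca374b5b1cdffffffeffdb2c7fd984c56d0ddffd69d0043fc7fe58b406500209c8112d0c727ffffffbfeaefe5908e117543b7fcddf41c504230487b2c9c7180a9ffbfe0c243fffffeff230893b232bfd8f99fee76eff4bf77f9d8a4038ffa48a8beff5bd38ffffffbfb0c0e290868ff13e0882a15403cff9fdd7eefedb047f7df2bfc2e1e3fffffefe73028a0a19bfacf7a12c82eff43f97f45823fb8fe1fd37dafeabc58ffffffc4090a9fc97c2fe5b01864e0fc789139fc77eafe22ff7f35faca851acbffffff0934177f05efbf86c020c58192744657ef97fbf8cfd9fcc7ed23c45d3ffffffbf6efa5fb97dd1e044e89e2193f76c05fb57e6fd92fe7ef5f9ca4d1a4bfffffefd6be87ebdf349c519626d862fd8b007ea97f3f68fd1fbc7e923145b3ffffffcad91b9fa966efd2b387e9dd53f38bddfa37d8fd0afb7e7db0cb0d1c13ffffff24e4607e6de2441d0adf957df2c2c707e65e14901179f977defc92f70)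
  (L
  0xffffffc1cada25f68ef2e147496c239c1c6fea0e66d517d43c86fe11c1c0c883ffffff06c32197ee3c480314e0de7af256461836d91c1f504e5ed8ef06eb498ffffffc5010ce0d06412a446c8355e0425105e0d368d0d4421835df747bd141fffffff06735f954a36418cc820cd783065b488325a2c3390821988411a14436ffffffc182cba0bf8130613488311fac174c820bd6890c641f86220fc9f11993ffffff05cbb0947a34c68b10e0b378527b46682ddd9416afbe47c8bd0583200ffffffc78d13a18e83f0774118a4a1a4156cee0a981305331d82b601c15f024bffffff27546582fa064395092288867052b2982818ec15102a0a380905740a3ffffffc12acf60976c504cb56826dae4ae11ba09380f04831c8275fdc13f01cbffffff043b2b8225b0c11ad5608f6b52b046d82118e412502208b80104f4083ffffffc0f6eaa07d69f03fb508b221c4102ea607980b03b319820d8d4a311a0bffffff036bb581bda6c0e6d3a2ba86f03ab7781a98cc0f101a0716372194573ffffffc0c6f762dd875032b34819df840d2d7a06180702f315828a04cb3d1c4bffffff02bbdc8b4a1cc0b2c8a05d7d502db5d81518ac0c10120ac8152e54743ffffffc08cc4e53c8d70293c78135c4c09edb604b6e5024b9a940233c0a2d0e3ffffff020b3c80e188c07efc2043669022c0080f5fe4076c5e5628db2edc767))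
  (N 1056 (L
  0xffffffc344d824948bf0cb3328685bcc33ed2619d81b0cdb45866606c95d185bffffff0c8b40863e054328d261927ed0c33328636064316d121898191ff4534ffffffc30ae1a45a8b7258c6185fdbd47f914e1817cf0c1b918eba2642f8cc83ffffff2dc47385c198c2eee3217b78b1ed45085d5e7c2e6e8e25085f0bcc177ffffffc2c4cc25ba8e70b736f85a5e242d6f3216779d0b2b74897a1842db06a3ffffff0aa32f942a33c2c0e1e15b7910aebca8565e9c2aee5623385b0afbe08ffffffc28ccb61518310a93858535dcc29ef2614b77b0a4b9089021742d90723ffffff2cb4718515dd4282cbe14376309c32d84fddfc27ad8e21a85909db2e4ffffffc8e5176150835098beb84ce0a426b04a4ca8c71d044b84de0a425cca83ffffff093bf5848193c24af9612d7ef094c0e848da5c4010aa12b7c10bc41d7ffffffcbf31de11e6472e7475944a34493d1822a186b2ff4788ab614c59d0e1fffffff08e38097623ac224c8e11b7ad08cbe7845dcbc7f514e57a8df08ab256ffffffc212ee26058f30853e784ca0c4204c8e10777925446184da0c420ac913ffffff07eb5b8a7a1ac220e5e0ff7b10803bc83ee07c1f0c8e3368850ef4262ffffffcc011e23008792bf46f83d5eac2690625f08ef19944283c991c1eec987ffffff16143883c5a4c1df02a56e8dd076bb3871a1241d6d1e0e86450e64241)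
  (N 1072 (L
  0xffffffcbd11da25668712ebc8898dc3c7a113e25b74312cb94897e0e44c30a9fffffff12334297aa3b44a8ee624d70b127b81892dccc492e3e25183b129c2d8ffffffc46cd063e88a31223c588f5c6447edfe23b72711cba789060d4486f7a3ffffff11333f88c615c468f1222d6df117b7d88adc74452dce23283712942f8ffffffcb811d22256d9110b41888dbf442ccfe21f6c910eb76886e0cc432d013ffffff29d46b88c216c41efc621184f109c258d722346dd11e21584f10633c0ffffffc40afda1fc673101bed882dfc440f08620182f0ffb4b8825ef44c10c1fffffff30e47a87e99acb451ca42e8af1ab445988a3dc5570da2ac82d15e4377ffffffc3f0f2e5aa8e50f733587ddd643eafbe4f08cd0f9bd096223843e2cddbffffff0f5b6e98be3e43d8fbe2108570f23358cf221c3d2dc22148570f3b364ffffffc3b6d662a886d0f13d08775d6c3c0dc21d666b0ecc228c8a2043bf04cfffffff31347b8bca1dcb191c21d375710942b8c7a204c251ea1d066b0eab381ffffffc5610de1cf6910e5c09957a36c392f661c568f0e3c1187099a439b0447ffffff0deb66987a3d4b311c65de8ed0dcbff8bb21dc376d9e1be8210db3340ffffffc35ccce6218f727dc6686d1d7468110e1d884d0d8b3598463d4366d223ffffff147434869199491917e1ab6f110342a86a607434ed1a1ad7cd1ea44f7)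
  (L
  0xffffffc6430da31c6cf26c46491722dc6bd11a6148f518fc258c8e13464b0c5fffffff18cb948c69c7c97118a3166cf31ec7d979a3b472512a3288831954415ffffffc614d923ba89b18936a8d3622461ed9e30d7ff2df4748c521ec6230f63ffffff181363936a324610d9e4bc8c5183b6a965238c60afea31587d18843e8ffffffc5feda630182517bbff8e1a24cb351c62fb82117eb6a8be61dc5e8d783ffffff178b658bce12c5d6fea38e8952e34748bbdb3c5db08e2f887917435d0ffffffc92f17e2de8091703548b861d45c6d622dc87316cb528b961cc5cf0e4bffffff2aac6c8b4e01c5aad4e2d887316bb578b41a945b70ea2e487517343a3ffffffc5870462c56bd163c008b26034596fc22c186f15f3518b35aac59f058bffffff158c248acdaec56efee2bb80b15cbea8ab9a8c5810e22b56ad15ec293ffffffc6411022a984d28746897423ac54add62aa85331247b8a9e1ac544d403ffffff19a4428a7e09c85515e5a48e514ebbe97f23c454105a2a686d14d34e0ffffffc51f0862917f12b546e8a4e05452ad5a28d86714534c8a5df545330ccbffffff140c0e8a0dfbcab51b6289813143b5589f9a645190d22857e114c4343ffffffc4e70ca2756b913bb7b89e5fa44f6de6272863137b4a89f618c671108bffffff13343189a1ad44d4f0e26e7e71363c18991a544e30ca27c8651924403))))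
  (N 1120 (N 1104 (L
  0xffffffca591aa3e179520c4558f75e947b70764068a91ecb988f59c0c7bf0387ffffff22645a8f29bfc8711623cf74d1e8c308f35cb47dd14a3d37991eac217ffffffc78f02a3c97fd1e0bf48ef9bdc78afda4e68cb1e1be4938232ccd51fd7ffffff1dec488eee1f477310a6648ff1d937a95f237cce52023b772f1dab7b4ffffffc7571123ad6fb2634638ec5c8ccdb2023a66f51d4beb8ebe0f4909178fffffff1d1bac8e95c84736dea4aa8c31cec428e860c499118e39f7791cc3790ffffffc72ae863977331c6bbe8e3e1dc86115e39387f2f24768e4624c714ddc3ffffff1c2ba38df9ba4706dd638787928a46896d239c7031063908951c4ba97ffffffc7791363746e11bbbd5960237c6f2f5a6308f933047f8dedeb46faed5fffffff2124568dcdb9c8fd17a36a6e130b47a8dbe15c6e311a36d8872664635ffffffc6d0f5a36371d1b0bc28d9221c6bf10237088f1aec2b8d69b846ccf047ffffff1aabeb8d39b7cb5d1ce5c48e91abc298d4e2246a2dd64a08c11acbea7ffffffc7551323466db1a5c418d321f4c511ee3496eb1a944592fa314981189fffffff19d36c99763fc68902e36588d1a0c228cfdb8467b09e36c88f1a1c0d8ffffffc66b0d63306d51dc44d949234c73912e3338252f74778cde09c6730c9fffffff196bcf8cbde746951123266d5325c7e8e0224cb6d1ce32987f195c3f5)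
  (L
  0xffffffc93afc64987732ee476967238c93f05a49b77d25b462928622c946fc1fffffff24b43a925610491b086488769249bed953236491ef8e48b7f3248c585ffffffc97518a48779323fc4791e9d94d1b20a4817e3241bc291f605c90b1317ffffff239c1891d5fec8eeeba4f48cd34348191c62e48dceb260e8f323cbf52ffffffc99d18e4677a3234bad91ade84c191e646475923845d9a2240c8db158fffffff22cc52916e0f4d0520645d88122fbae915e2d48a8eae46175b231bf32ffffffc89b13e44f7cf30447998623d48a6eb644a75722b45b9145d74a691a8fffffff26e4649125de4886eae58e8e1222bac99f640cc0d1e64477592203aa0ffffffccb51fa43f7a721cc4f90d1cc487af2243b7a528246790ddcd492117d7ffffff216ba690a1cbc8570d642f853218c4a98fa3ecba91d65168d1219c057ffffffc84b11e427735210bd89079cbcc6d1f25388d7211bd699a23fc8d91717ffffff32447d9075d3c83314241b72d20838c905e28c82ae9a4137a32a746c4ffffffca391a640f78b205c51942233c812f3e405731203c509009c4c81b1487ffffff1fb388991a3ec80103e5408d71fec1e8fee0ac7f2e5e66e9011ffc1f8ffffffc8b116e3ea70f2834678fc628c7e6e523ef89f1f6b968fd5e3c819151fffffff2eb4758fa61748151523f08a51f13848f9dd3482d1563e57fb27f4674))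
  (N 1136 (L
  0xffffffcc151e65917f52c6c25963e2ccb08fc658b8c934a4829626144b0efc93ffffff31a47c960dffcaff04a5818912bb3eb99c2404afb13657b82b2bcbec4ffffffcadafca5647c12b5c3495be08cae30225698db2b3be295cdfe4aeb1b5fffffff2aebec9559ef4ab70ce55f8492b0c079565f14ad11ba5638032ba46e7ffffffcaa90e655381b2a4c0e9511ed4aa2f9654b7c72a6c5f951dff4a9f1557ffffff29dc2b94f6014a7ef5e5418a733347f94d9eb4a7315a6388f92a1bf63ffffffca5b14252f7df31947c97d23bca62f6252b8d32943d594cdebca6b168bffffff28ec54947e05ccc51fe525885291bd79469eaca551aa5217b1293bf43ffffffca22f4a50c7a1287c36944e0b4a2b1265a68e532947e945e2bca33019fffffff2d4472942e0dca0f14a5098a927e3cd94162c4a06f4a50180527fc514ffffffc9dcf1a6588fd27d42293d62ec9ef02e4f37a1278c289a424149f30323ffffff275c0993b5fcc9c6fce4de787274bf59395f249cf13a4e189d3454815ffffffc9bb1664db87b26cc409a1240c9a4f0a6929052c5470935de849aaf0d3ffffff267c5c9345dec98f1324c27792f9477932625c9970624c58c3266c475ffffffc97717a4b277725cc3f92f61ecc051e24b78c125abbe92fe224983111fffffff2523ba9a0240c96107a4ab897256c0f92a60a494eef24c48c7257c208)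
  (N 1152 (L
  0xffffffccf71fe6798e933ac7799de3e4cd913267389b338c6f99be29cd1d2093ffffff33d480997221ccc71a666589b333c6b9986244cbf1f26698ad335c4e7ffffffccb71626598cd32ac7b995e3c4c951066538d1328c72993e3ecc9b1f53ffffff324c55991e29cc871e26458f731e43f99063acc7f15e64e8fd32647e4ffffffcc6b1be62e84f319c6a99da404c6f15a65e8ff318c4898e635cc771e5fffffff313c259882114ca91fa6448fb314c4498961b4c470a662b8f1316c787ffffffcc3b0a661f84734b48298662d4c2f11e61384b30ac409842114c371dc7ffffff305c7098120a4c1316a698905306c5c981e2cccfd20660f8bb31d47c7ffffffcc0304a5fa81f32147d995a3f4c0718a5ff82d2fec3598aa3dcc591edfffffff2fc41697de084ce92025f58d52f9c6397be214be304a5ec81f30d47a1ffffffcbd30c25eb85f2eec60977e11cbc31d65e58952f3c3f978e39cbb50043ffffff2ebc5197660acb9f05a5d186d2f047697562bcc811f65d38e52e64000ffffffcb830b26789012e1c10971622cb8f0ee5bf87d2de3ff972638cb9700cbffffff2dcc1d96ee0e4b5f1165b18212d9c7296de20cb6b1265e28ed2d63fc0ffffffcb5319e5ab8512d1c2996961acb651ce6508fd2d3c68974a3acb40fec3ffffff2cbc199a6a414b3308e59d8c12cdc3c9649fd4b2b0f65c88e92cfc043)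
  (L
  0xffffffcd3b20669b8e334bc7a9a663ccd1917a6958e1349c649a46334d1f2013ffffff34e4829a0630cd0716e6858c9343c5d99fe3cccf91666898b9345c652)))))))
  Tr.N Tr.L
noncomputable def tree : Tr := (.N 576 (.N 288 t0 t1) (.N 864 t2 t3))

noncomputable def wtree : WT := beta% (fun (N : Nat → WT → WT → WT) (L : Nat → List Nat → WT) (c : Nat → List
  Nat → List Nat) (n : List Nat) => (N 69 (N 34 (N 17 (N 8 (N 4 (N 2 (N 1 (L 3 (c 8 (c 3 (c 8 n)))) (L 4 (c 8
  (c 7 (c 4 (c 7 (c 4 (c 8 n)))))))) (N 3 (L 0 (c 8 (c 7 (c 0 (c 7 (c 0 (c 1 (c 7 (c 1 (c 8 n)))))))))) (L 2 (c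
  1 (c 3 (c 1 n)))))) (N 6 (N 5 (L 4 (c 1 (c 4 (c 1 n)))) (L 7 (c 1 (c 8 (c 1 (c 7 (c 1 (c 8 (c 1 n))))))))) (N
  7 (L 2 (c 5 (c 2 (c 5 n)))) (L 0 (c 5 (c 0 (c 5 n))))))) (N 12 (N 10 (N 9 (L 8 (c 5 (c 8 (c 5 (c 8 (c 5
  n)))))) (L 3 (c 7 (c 3 (c 7 n))))) (N 11 (L 8 (c 7 (c 8 (c 7 (c 8 (c 7 n)))))) (L 4 (c 7 (c 4 (c 8 (c 4 (c 8
  (c 7 n))))))))) (N 14 (N 13 (L 0 (c 7 (c 8 (c 0 (c 8 (c 1 (c 7 (c 1 (c 0 (c 7 n)))))))))) (L 7 (c 5 (c 4 (c 7
  (c 4 (c 7 (c 5 n)))))))) (N 15 (L 6 (c 7 (c 5 (c 1 (c 7 (c 1 (c 5 (c 7 (c 5 (c 1 (c 7 (c 1 (c 5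
  n))))))))))))) (N 16 (L 9 (c 5 (c 6 (c 5 (c 6 n))))) (L 4 (c 0 (c 4 (c 0 n))))))))) (N 25 (N 21 (N 19 (N 18
  (L 1 (c 0 (c 1 (c 0 (c 1 (c 0 n)))))) (L 1 (c 5 (c 1 (c 5 n))))) (N 20 (L 7 (c 5 (c 7 (c 4 (c 7 (c 4 (c 5
  n))))))) (L 6 (c 5 (c 1 (c 7 (c 1 (c 5 (c 7 (c 5 (c 1 (c 7 (c 1 (c 5 (c 7 n))))))))))))))) (N 23 (N 22 (L 6
  (c 5 (c 6 (c 5 n)))) (L 6 (c 0 (c 6 (c 0 n))))) (N 24 (L 1 (c 8 (c 1 (c 8 (c 1 (c 8 (c 1 (c 8 n)))))))) (L 0
  (c 4 (c 0 (c 4 n))))))) (N 29 (N 27 (N 26 (L 3 (c 4 (c 3 (c 4 n)))) (L 6 (c 4 (c 6 (c 4 n))))) (N 28 (L 5 (c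
  4 (c 5 (c 4 (c 5 (c 4 n)))))) (L 7 (c 1 (c 7 (c 1 (c 7 (c 1 (c 7 (c 1 n)))))))))) (N 31 (N 30 (L 6 (c 1 (c 6
  (c 1 n)))) (L 6 (c 3 (c 6 (c 2 n))))) (N 32 (L 4 (c 3 (c 4 (c 2 n)))) (N 33 (L 2 (c 3 (c 3 n))) (L 6 (c 2 (c
  6 (c 3 n)))))))))) (N 51 (N 42 (N 38 (N 36 (N 35 (L 4 (c 2 (c 4 (c 3 n)))) (L 1 (c 3 (c 1 (c 3 n))))) (N 37
  (L 0 (c 3 (c 0 (c 3 (c 0 (c 3 n)))))) (L 7 (c 1 (c 0 (c 1 (c 7 (c 1 (c 0 (c 1 n)))))))))) (N 40 (N 39 (L 6 (c
  7 (c 6 (c 7 n)))) (L 4 (c 7 (c 4 (c 5 (c 7 (c 5 (c 7 n)))))))) (N 41 (L 1 (c 4 (c 1 (c 4 n)))) (L 7 (c 4 (c 7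
  (c 5 (c 7 (c 5 (c 4 n)))))))))) (N 46 (N 44 (N 43 (L 5 (c 7 (c 4 (c 7 (c 4 (c 5 (c 7 n))))))) (L 4 (c 7 (c 5
  (c 7 (c 5 (c 4 (c 7 n)))))))) (N 45 (L 8 (c 4 (c 8 (c 7 (c 4 (c 7 (c 4 n))))))) (L 9 (c 1 (c 0 (c 1 (c 7 (c 1
  (c 0 (c 1 (c 7 n))))))))))) (N 48 (N 47 (L 9 (c 8 (c 1 (c 7 (c 1 (c 0 (c 7 (c 0 (c 7 (c 8 (c 0 n)))))))))))
  (L 1 (c 7 (c 1 (c 8 (c 1 (c 7 (c 1 (c 8 n))))))))) (N 49 (L 7 (c 3 (c 7 (c 2 n)))) (N 50 (L 2 (c 7 (c 2 (c 7
  n)))) (L 2 (c 8 (c 2 (c 8 n))))))))) (N 60 (N 55 (N 53 (N 52 (L 3 (c 5 (c 3 (c 5 n)))) (L 1 (c 2 (c 1 (c 2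
  n))))) (N 54 (L 0 (c 2 (c 0 (c 2 (c 0 (c 2 n)))))) (L 8 (c 1 (c 8 (c 1 (c 8 (c 1 (c 8 (c 1 n)))))))))) (N 57
  (N 56 (L 0 (c 6 (c 0 (c 6 n)))) (L 3 (c 6 (c 3 (c 6 n))))) (N 58 (L 4 (c 6 (c 4 (c 6 n)))) (N 59 (L 9 (c 0 (c
  5 (c 0 (c 5 n))))) (L 1 (c 6 (c 1 (c 6 n)))))))) (N 64 (N 62 (N 61 (L 5 (c 6 (c 5 (c 6 n)))) (L 7 (c 6 (c 7
  (c 6 n))))) (N 63 (L 7 (c 8 (c 0 (c 8 (c 1 (c 7 (c 1 (c 0 (c 7 (c 0 n)))))))))) (L 1 (c 8 (c 0 (c 8 (c 7 (c 0
  (c 7 (c 0 (c 1 (c 7 n)))))))))))) (N 66 (N 65 (L 9 (c 7 (c 1 (c 0 (c 7 (c 0 (c 7 (c 8 (c 0 (c 8 (c 1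
  n))))))))))) (L 5 (c 1 (c 5 (c 1 n))))) (N 67 (L 1 (c 7 (c 1 (c 7 (c 1 (c 7 (c 1 (c 7 n)))))))) (N 68 (L 9 (c
  5 (c 1 (c 7 (c 1 (c 5 (c 7 (c 6 (c 5 (c 1 (c 7 (c 1 (c 5 (c 7 n)))))))))))))) (L 2 (c 4 (c 2 (c 4
  n))))))))))) (N 104 (N 86 (N 77 (N 73 (N 71 (N 70 (L 9 (c 1 (c 3 (c 1 (c 3 n))))) (L 2 (c 6 (c 2 (c 6 n)))))
  (N 72 (L 1 (c 8 (c 1 (c 7 (c 1 (c 8 (c 1 (c 7 n)))))))) (L 0 (c 8 (c 1 (c 7 (c 1 (c 0 (c 7 (c 0 (c 7 (c 8
  n)))))))))))) (N 75 (N 74 (L 8 (c 7 (c 4 (c 7 (c 4 (c 8 (c 4 n))))))) (L 8 (c 1 (c 7 (c 1 (c 8 (c 1 (c 7 (c 1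
  n))))))))) (N 76 (L 9 (c 6 (c 4 (c 6 (c 4 n))))) (L 8 (c 3 (c 8 (c 2 n))))))) (N 81 (N 79 (N 78 (L 8 (c 2 (c
  8 (c 3 n)))) (L 7 (c 2 (c 7 (c 3 n))))) (N 80 (L 3 (c 1 (c 2 (c 1 n)))) (L 7 (c 8 (c 4 (c 8 (c 4 (c 7 (c 4
  n))))))))) (N 83 (N 82 (L 7 (c 5 (c 1 (c 7 (c 1 (c 5 (c 7 (c 5 (c 1 (c 7 (c 1 (c 5 (c 6 n))))))))))))) (L 9
  (c 1 (c 7 (c 1 (c 8 (c 1 (c 7 (c 1 (c 8 n)))))))))) (N 84 (L 8 (c 4 (c 7 (c 4 (c 7 (c 8 (c 4 n))))))) (N 85
  (L 9 (c 4 (c 7 (c 8 (c 4 (c 8 (c 4 (c 7 n)))))))) (L 9 (c 6 (c 7 (c 6 (c 7 n)))))))))) (N 95 (N 90 (N 88 (N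
  87 (L 5 (c 8 (c 5 (c 8 (c 5 (c 8 n)))))) (L 9 (c 7 (c 4 (c 7 (c 4 (c 8 (c 4 (c 8 n))))))))) (N 89 (L 1 (c 7
  (c 1 (c 0 (c 1 (c 7 (c 1 (c 0 n)))))))) (L 0 (c 1 (c 0 (c 1 (c 0 (c 1 n)))))))) (N 92 (N 91 (L 8 (c 0 (c 8 (c
  1 (c 7 (c 1 (c 0 (c 7 (c 0 (c 7 n)))))))))) (L 7 (c 0 (c 1 (c 7 (c 1 (c 8 (c 0 (c 8 (c 7 (c 0 n))))))))))) (N
  93 (L 9 (c 0 (c 8 (c 1 (c 7 (c 1 (c 0 (c 7 (c 0 (c 7 (c 8 n))))))))))) (N 94 (L 5 (c 0 (c 5 (c 0 n)))) (L 9
  (c 0 (c 8 (c 7 (c 0 (c 7 (c 0 (c 1 (c 7 (c 1 (c 8 n))))))))))))))) (N 99 (N 97 (N 96 (L 9 (c 8 (c 2 (c 8 (c 3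
  n))))) (L 7 (c 4 (c 8 (c 4 (c 8 (c 7 (c 4 n)))))))) (N 98 (L 1 (c 0 (c 7 (c 0 (c 7 (c 8 (c 0 (c 8 (c 1 (c 7
  n)))))))))) (L 8 (c 4 (c 8 (c 4 (c 7 (c 4 (c 7 n))))))))) (N 101 (N 100 (L 9 (c 8 (c 4 (c 8 (c 4 (c 7 (c 4 (c
  7 n)))))))) (L 8 (c 1 (c 7 (c 1 (c 0 (c 7 (c 0 (c 7 (c 8 (c 0 n))))))))))) (N 102 (L 8 (c 7 (c 0 (c 7 (c 0 (c
  1 (c 7 (c 1 (c 8 (c 0 n)))))))))) (N 103 (L 9 (c 7 (c 1 (c 8 (c 1 (c 7 (c 1 (c 8 (c 1 n))))))))) (L 5 (c 3 (c
  5 (c 2 n)))))))))) (N 121 (N 112 (N 108 (N 106 (N 105 (L 5 (c 2 (c 5 (c 3 n)))) (L 7 (c 0 (c 7 (c 0 (c 1 (c 7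
  (c 1 (c 8 (c 0 (c 8 n))))))))))) (N 107 (L 3 (c 0 (c 2 (c 0 (c 2 (c 0 n)))))) (L 2 (c 0 (c 2 (c 0 (c 3 (c 0
  (c 2 (c 0 n)))))))))) (N 110 (N 109 (L 2 (c 0 (c 3 (c 0 (c 3 (c 0 n)))))) (L 0 (c 7 (c 0 (c 7 (c 8 (c 0 (c 8
  (c 1 (c 7 (c 1 n))))))))))) (N 111 (L 5 (c 4 (c 7 (c 4 (c 7 (c 5 (c 7 n))))))) (L 1 (c 0 (c 1 (c 7 (c 1 (c 0
  (c 1 (c 7 n))))))))))) (N 116 (N 114 (N 113 (L 7 (c 8 (c 7 (c 8 (c 7 (c 8 n)))))) (L 7 (c 0 (c 7 (c 8 (c 0 (c
  8 (c 1 (c 7 (c 1 (c 0 n))))))))))) (N 115 (L 9 (c 7 (c 5 (c 1 (c 7 (c 1 (c 5 (c 6 (c 7 (c 5 (c 1 (c 7 (c 1 (c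
  5 n)))))))))))))) (L 5 (c 7 (c 5 (c 1 (c 7 (c 1 (c 5 (c 6 (c 7 (c 5 (c 1 (c 7 (c 1 n))))))))))))))) (N 118 (N
  117 (L 5 (c 7 (c 5 (c 7 (c 4 (c 7 (c 4 n))))))) (L 7 (c 5 (c 7 (c 5 (c 4 (c 7 (c 4 n)))))))) (N 119 (L 0 (c 7
  (c 0 (c 1 (c 7 (c 1 (c 8 (c 0 (c 8 (c 7 n)))))))))) (N 120 (L 9 (c 7 (c 5 (c 4 (c 7 (c 4 (c 7 (c 5 n))))))))
  (L 9 (c 1 (c 7 (c 1 (c 0 (c 7 (c 0 (c 7 (c 8 (c 0 (c 8 n)))))))))))))))) (N 130 (N 125 (N 123 (N 122 (L 9 (c
  7 (c 0 (c 7 (c 0 (c 1 (c 7 (c 1 (c 8 (c 0 (c 8 n))))))))))) (L 7 (c 4 (c 7 (c 8 (c 4 (c 8 (c 4 n)))))))) (N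
  124 (L 0 (c 7 (c 1 (c 7 (c 1 (c 2 (c 0 (c 3 (c 7 (c 2 (c 0 (c 3 (c 3 (c 0 (c 2 (c 7 (c 3 (c 0 (c 2 (c 0 (c 7
  n))))))))))))))))))))) (L 9 (c 6 (c 1 (c 6 (c 1 n))))))) (N 127 (N 126 (L 0 (c 1 (c 7 (c 1 (c 8 (c 0 (c 8 (c
  7 (c 0 (c 7 n)))))))))) (L 9 (c 5 (c 2 (c 5 (c 3 n)))))) (N 128 (L 4 (c 8 (c 4 (c 7 (c 4 (c 7 (c 8 n)))))))
  (N 129 (L 3 (c 2 (c 2 n))) (L 0 (c 7 (c 0 (c 3 (c 0 (c 2 (c 7 (c 3 (c 0 (c 2 (c 2 (c 0 (c 3 (c 7 (c 2 (c 0 (c
  3 (c 1 (c 7 (c 1 (c 7 n))))))))))))))))))))))))) (N 134 (N 132 (N 131 (L 5 (c 7 (c 5 (c 7 (c 5 (c 7 (c 5 (c 7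
  n)))))))) (L 7 (c 5 (c 1 (c 7 (c 1 (c 5 (c 6 (c 7 (c 5 (c 1 (c 7 (c 1 (c 5 n)))))))))))))) (N 133 (L 5 (c 1
  (c 7 (c 1 (c 5 (c 7 (c 5 (c 1 (c 7 (c 1 (c 5 (c 6 (c 7 n))))))))))))) (L 9 (c 8 (c 1 (c 7 (c 1 (c 8 (c 1 (c 7
  (c 1 n))))))))))) (N 136 (N 135 (L 9 (c 1 (c 0 (c 1 (c 0 (c 1 (c 0 n))))))) (L 9 (c 7 (c 4 (c 7 (c 8 (c 4 (c
  8 (c 4 n))))))))) (N 137 (L 9 (c 0 (c 1 (c 7 (c 1 (c 0 (c 1 (c 7 (c 1 n))))))))) (N 138 (L 4 (c 5 (c 4 (c 5
  (c 4 (c 5 n)))))) (L 5 (c 1 (c 7 (c 1 (c 5 (c 7 (c 6 (c 5 (c 1 (c 7 (c 1 (c 5 (c 7 n))))))))))))))))))))))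
  WT.N WT.L (@List.cons Nat) (@List.nil Nat)

noncomputable def stree : ST := beta% (fun (N : Nat → ST → ST → ST) (L : Nat → List Nat → List Nat → ST) (c :
  Nat → List Nat → List Nat) (n : List Nat) => (N 3 (N 1 (L 0 n n) (N 2 (L 1 n n) (L 2 n n))) (N 5 (N 4 (L 4 n
  n) (L 5 n n)) (N 6 (L 6 n n) (L 7 n n))))) ST.N ST.L (@List.cons Nat) (@List.nil Nat)

noncomputable def C : Cert where
  data := tree
  lm := 15
  rb := 254
  fb := 25
  mask := 33554431
  B := 2048
  k := 9
  N := 1154
  inv := fun x => bif Nat.beq x 0 then 0 else bif Nat.beq x 1 then 1 else bif Nat.beq x 2 then 3 else bif Nat.beq x 3 then 2 else bif Nat.beq x 4 then 4 else bif Nat.beq x 5 then 5 else bif Nat.beq x 6 then 6 else bif Nat.beq x 7 then 7 else bif Nat.beq x 8 then 8 else x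
  words := wtree
  subs := stree

def rels : List (List Nat) := beta% (fun (c : Nat → List Nat → List Nat) (n : List Nat) => ([(c 2 (c 2 (c 2
  n))), (c 1 (c 2 (c 1 (c 2 n)))), (c 4 (c 0 (c 4 (c 0 n)))), (c 4 (c 1 (c 4 (c 1 n)))), (c 4 (c 3 (c 4 (c 2
  n)))), (c 5 (c 0 (c 5 (c 0 n)))), (c 5 (c 1 (c 5 (c 1 n)))), (c 5 (c 3 (c 5 (c 2 n)))), (c 6 (c 0 (c 6 (c 0
  n)))), (c 6 (c 1 (c 6 (c 1 n)))), (c 6 (c 3 (c 6 (c 2 n)))), (c 6 (c 4 (c 6 (c 4 n)))), (c 6 (c 5 (c 6 (c 5
  n)))), (c 6 (c 7 (c 6 (c 7 n)))), (c 7 (c 3 (c 7 (c 2 n)))), (c 8 (c 3 (c 8 (c 2 n)))), (c 1 (c 0 (c 1 (c 0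
  (c 1 (c 0 n)))))), (c 0 (c 2 (c 0 (c 2 (c 0 (c 2 n)))))), (c 4 (c 5 (c 4 (c 5 (c 4 (c 5 n)))))), (c 7 (c 8 (c
  7 (c 8 (c 7 (c 8 n)))))), (c 5 (c 8 (c 5 (c 8 (c 5 (c 8 n)))))), (c 4 (c 7 (c 4 (c 7 (c 5 (c 7 (c 5 n))))))),
  (c 4 (c 7 (c 4 (c 7 (c 8 (c 4 (c 8 n))))))), (c 0 (c 3 (c 0 (c 2 (c 0 (c 3 (c 0 (c 2 n)))))))), (c 7 (c 1 (c
  0 (c 1 (c 7 (c 1 (c 0 (c 1 n)))))))), (c 7 (c 1 (c 7 (c 1 (c 7 (c 1 (c 7 (c 1 n)))))))), (c 7 (c 5 (c 7 (c 5
  (c 7 (c 5 (c 7 (c 5 n)))))))), (c 1 (c 7 (c 1 (c 8 (c 1 (c 7 (c 1 (c 8 n)))))))), (c 8 (c 1 (c 8 (c 1 (c 8 (c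
  1 (c 8 (c 1 n)))))))), (c 8 (c 7 (c 0 (c 7 (c 0 (c 1 (c 7 (c 1 (c 8 (c 0 n)))))))))), (c 7 (c 5 (c 1 (c 7 (c
  1 (c 5 (c 7 (c 5 (c 1 (c 7 (c 1 (c 5 (c 6 n))))))))))))), (c 7 (c 0 (c 7 (c 0 (c 3 (c 0 (c 2 (c 7 (c 3 (c 0
  (c 2 (c 2 (c 0 (c 3 (c 7 (c 2 (c 0 (c 3 (c 1 (c 7 (c 1 n)))))))))))))))))))))] : List (List Nat)))
  (@List.cons Nat) (@List.nil Nat)

def subw : List (List Nat) := [[0], [1], [2], [4], [5], [6], [7]]

end Cfsg.Agent.TypeO8Minus.ELaData
end

-- part: TypeO8Minus/ELaChk0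
section
set_option autoImplicit false
set_option maxRecDepth 100000

namespace Cfsg.Agent.TypeO8Minus.ELaChk0

open Cfsg.Agent.SporadicRecognition.CosetCert Cfsg.Agent.TypeO8Minus.ELaData

private theorem alC : Cfsg.Agent.SporadicRecognition.CertFast.al (Nat.succ C.lm) C.data = true := by decide +kernel

theorem c0 : Part C 0 64 51 := Cfsg.Agent.SporadicRecognition.CertFast.part_fast C alC 51 (by decide +kernel : Cfsg.Agent.SporadicRecognition.CertFast.runF C 14 16383 0x40000000000000000000000830c0c1e300040020008063048c073000000000000000000000000000100000010c0c1e30008013000832311cc002124c133054c0010acc002018c12301cc00100080020008002000832300080230008002068c1b30004002110c283060c0a3000416300080b3024c002108c00200000000004000000000000000000000083034c0e300040020008063000807300040020000002004c00000000020000002070c1d3104c002000803300040020008133074c0010acc002018c12301cc0a3000826300081030008002044c00100000010008000000000000003b300000000f4c001000800000000000ecc00000080020008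1b300041930008283060c0000000000000000000000000000001028c001098c00202cc0930008002030c00200080010f0c3930e0c0020ecc37300080d300080010008002018c12301cc363014c00200080430008033000400200040020008002004c0030008002120c00200041d300080b3024c3130fcc0c3000000000040000000383118c0000000083034c0e300040020ccc06308cc073000000000000000000000000000100000010f8c1530008013000c3230008023124c133054c0010acc333018c123000800100080020008002000c32300080230008002068c1b30004193110c28300080010008002000801300080020f500230008001098c00209cc00200083430d4c002094c15300040020008002000800200040020008002004c0020c8c002008c00200042630008273000831300080020008303054c0010008002018c12301cc00100080020008013000c00200080230008133054c001010c002018c00201cc000000000000000000000000044c0010b0c001098c2a300080930008002030c0a3000426300080b3024c0020bcc002000000200043c3000000000000000000083034c00200040020008063048c0020000000000000000000000000000000400100080020008013000c00200080230008293068c1b300041930008002060c001000800200080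13000c32300080230008001098c00209cc0930c4c1840610002094c15300040020ccc063048c0020008002084c002088c0020004002000800200081e300081f3000420308cc2430008133038c0010acc002018c12301cc002070c1d30008043000803300040020b0c002068c1b300041930008283060c00100080020008013000c00205cc0020008133054c0010008002018c00201cc002000816300081030008002044c001028c001054c00202cc0930008002030c0000000001000000000000000000000020c0d3038c0010008002018c12301cc002014c14300080430008033000400200040020008002004c0030008002008c0020194055011403500080250054005 29 536870911 0x4013938000000000008a6000000000000000000000000000000000000058188b800000005b0d0ee0000000000000000000000000086c0401557000000000000e8c0000000000000000000000000000000000000000000000007b00000000000080c00000000000000000000000000000000000000000000000000000000000000000000000000000000000000000002d300000000000000016062ee0000000000017300000000000000000000000000000000000000000000000000000000000000000000000000000000000000000000000000000000000f600000000000000000000000000000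 0 64 = 52)

theorem c1 : Part C 64 128 53 := Cfsg.Agent.SporadicRecognition.CertFast.part_fast C alC 53 (by decide +kernel : Cfsg.Agent.SporadicRecognition.CertFast.runF C 14 16383 0x4503209000200080030c8c002008c00204cc15300042b3000800200080020008002068c1b300040020008002060c08304cc153000400200080020008002028c001098c00200080020008002000800000000010000000000000000000000008002054c0010008002000812301cc00200087a4000800100080020a0c1830008053000800200080020008001000800100080020008013000800200080230008001098c2a3000800200083430d4c00204cc15300042b30008063048c0730008002068c1b30004002110c283060c08304cc15300040020008063048c002028c001098c00200080020c4c002030c00000000010000000000000000000000008002054c0010008002018c12301cc0020008704000800100084430a0c1830008053000800200084f30008001000800100080020008013000832300080230008001098c2a300080020c4c002000800204cc15300042b30008063048c0020008002068c1b300041930008002060c00000040000000000000000000000c300080000000001000000000000000000002000000000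00000000000000040000004000000000000000000000000000000204cc15300041030ccc063048c0020008002084c002088c0020004002000800200081e300081f3000420308cc243000400000000000000000000000000002c300042630a8c002024c0020a0c0020000000000400000000000000000000061404cc15300040020008063048c073128c1c3074c002010c00200cc0010008001000000000000000000000000000014cc001000800209cc093000800200086740f4c00100083930e0c0020ecc3730b0c00200081b300041930008283060c6640f4c0010f0c3930e0c0020008373000813300080010008002018c00201cc002000800200081030008002044c001028c001098c00200080930008002060c65400080010f0c3930e0c0020ecc373020c00200080010008002018c12301cc363144c0020008043000803300040020008133054c0010acc333018c00201cc00200081a306cc001064c4430a0c183020c133038c0010008333018c12301cc0a300042630008002024c3130008002000000200043c30e4c383118c3b30000002000800200040020ccc063048c073000800200080020004193110c283060c002014c002000800213cc033000400200040020008002004c0030c8c002008c00200042630a8c002024c3130a0c183134c001084c00209cc002000800200080000000001000000000000000000000020c303084c0010008002000800201cc001138c213000801300080020008002124c133054c0010acc0020008002000800100080020008002000800200080230008002068c1b30004002000800200084c300041e3000827300083130bcc0c3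 29 536870911 0x96134dc000000000000000000000000000000000000000000000000000000000000000002584d2700000000000000000000000000000000000000000000000000000005460b01aab8580d45c0000a4c00000000000000000000000000aec000000000002598000000000000001a82c870000000000000000000000000000000000000000000000000000000000000000000000000000000000000000000000000000008b11cee000000000000000000000000000000000000000000002009cdc0000000000000000000000000000000000000000000 64 64 = 54)

theorem c2 : Part C 128 192 54 := Cfsg.Agent.SporadicRecognition.CertFast.part_fast C alC 54 (by decide +kernel : Cfsg.Agent.SporadicRecognition.CertFast.runF C 14 16383 0x800200080020004002110c283060c4d3070c1d3000800213cc0020004002130c00200085630004002110c283060c0a300040020008002000831300080c300081330008001004c002018c12301cc00100000000000000000000000000000008133054c0010008333000800201cc4d3014c1d30008001064c0020008183000800200080020008002000811300042c300041a300082b300083130008002020c303054c0010008002018c12301cc002014c1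d3000804313cc00200040020004503078c00200080020c8c002000800100000000000000000000000000230b0c001098c2a30008093000842300080010f8c1a30008002000c32300080230008133054c001088c0020008002000800204cc15300041f30008063048c0730008293058c5d300080020008113000400200081a30008001064c0020a0c1830008133054c0010008002018c00201cc5a300081630008103000800200080012c9013300080010008002018c12301cc002070c002000804300080330004002028c001098c1b30008093000800200082c300080010f0c0020e0c0020ecc37300040020008563004c0030008173008c0020f4c00100083930e0c0020008373000829300081b300041930008002060c00100000000000000000000000000000d8c001098c00209cc0930c4c583164c00200080010f0c3930e0c4630ecc002000800200080010008333018c1230008ba40008002000822300080010008002134c002000800207cc001080c233090c002000815300042b30008063048c073128c1c3074c002000800200cc00100080a300040020008002024c0020008002020c00200040020e4c38300083b30dcc5330a4c00206cc001064c0020a0c1830d8c00200043c30e4c38300080020dcc002070c00200040020008063000807337d0002000800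2040c0020008113000400100000000000000000000000000000b0c001098c2a300080930c4c283030c00200081a306cc001064c44300081832510133054c0010008333018c123000800200080020008001064c4430a0c00200081c3074c00200084f300cc00100080000004002000000000000000000373000000000040000000000000000000002c30008002158c001064c4430a0c183028c001239000200080930c4c0020008000000000100000000000000000000000081332350001004c333018c12301cc00100000000000000000000000000000000000000400000000000000000000000204cc15300040020ccc0630008073000805321d00020004193110c002060c5a316cc00200080020008002044c0010b0c001058c00202cc0930c4c002030c0000000001000000000000000000000020c133054c0010008333018c12301cc002014c1d3000804313cc0330004002 29 536870911 0x17cc00000000000000000000000000000000000000000000000000000015d800000000000000000000000000000000000000000000000000000000000000000000000000000000000000000000000000000000000011015a1c000000000000000000000000000000000000000000000000000000000000000000000000000000000000000000000000005e60000000000000000000000000000000000000d016c1c4b09aae000000000000000961351c000000000005c612c268b800000000000000000000000000000000154c00000000000000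 128 64 = 55)

theorem c3 : Part C 192 256 61 := Cfsg.Agent.SporadicRecognition.CertFast.part_fast C alC 61 (by decide +kernel : Cfsg.Agent.SporadicRecognition.CertFast.runF C 14 16383 0x4002000800200080030c8c123008c0020f4c00100083930e0c4630ecc002000800200081b30004193110c28300080a30004263000827300080020d0c002475000200043c30e4c002000800200080020008002000400200080020008002028c001098c00209cc0020c4c23300084d300080010f0c39300084630ecc373000800200080010008002018c12301cc00204cc1530004043000806300080730b0c253098c002000800200080020004002000800200042b30008063048c002128c0020008002000800200cc001030c5330a4c0010f0c0020e0c0020ecc37300040020008563004c0030008473008c0020f4c00100083930e0c0020008373000851300081b300041930008002060c62300041630008002024c313044c18300085b300043c30e4c383118c3b30008002094c00200040020ccc063048c00200080020008002088c00200040020008002000800200081f3000420308cc243000400000000000000000000000000000020008002174c001064c4430a0c0020b0c0020008001040c333018c123000800204cc15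300040020ccc0630008073028c1c300080020004193110c00200080a300041630008002024c31300080c33a501330008001004c333018c1230008002070c002000800213cc03300040c300040020008563004c0030c8c17301cc0020a4c1d3104c001064c44300081830004000000000000000000000000000000204cc00200040430ccc06300080730008133054c0010008333018c123000865316cc1630008001064c4430a0c002134c4e30008002000800200040020d4c4c30c0c0020008002000420308cc2430008002054c0010acc333018c12301cc65300081a3000804313cc033000400214cc293068c1b30004193110c283060c00100000000000000000000005cc0000008133054c0010008333018c00201cc002000816300081030008002044c001020c00200080010008333018c12301cc6430008002000800213cc03300040020b0c001098c2a3000800200080020008002138c1a306cc00100080020008002130c133054c0010008002000812300080020008002000800100080020a0c002130c1c3074c00200080020008001030c4d30008002158c00100080020a0c183028c001000800200080020008002000800204cc00200040130008002048c0730008133054c0010008002000800201cc4c3180c1d300080010008002000818300085b300080020008002000811300042c300041a300082b300080020008353020c303054c0010008002000812301cc002014c1d30008043000800200040020004503084c0020008002000800200082c300042630a8c00200083130a0c0c30008303068c1b30004002110c61300084c304cc15300040020008063048c073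 29 536870911 0xa91640e000000000000000000000000000000000000000000000000000000000000000000000319800000000000000000000000000000000000000000000000000000000000001998000000000000000000000000000000000000000000000000000000000000000000000000000000000000000000000000000000000000000000000000000000000000000000000000000000000000000 192 64 = 62)

theorem c4 : Part C 256 320 61 := Cfsg.Agent.SporadicRecognition.CertFast.part_fast C alC 61 (by decide +kernel : Cfsg.Agent.SporadicRecognition.CertFast.runF C 14 16383 0x8293074c41300040020008002060c00204cc0020004043000800200080730004002000800200080021acc0020008002000815300040020ccc063048c00200085b3058c0020004193110c28300085a316cc002000800200080010008002194c69300080020008001080c23300084c3000815300042b30008002048c002130c002068c002010c002000800100080020a4c1a306cc00100080020a0c1830008133054c0010008002000800201cc002000816300081030008002044c001020c00200080010008002000812300080020008002000800200080020004002000800200086730004002110c283060c2c30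00800200041f30008063048c0730008133054c0010008333000800201cc002070c0020008001064c00200081830008002058c00200086a30c8c00200040a300041e30008002000831300080c3130c1330008001004c002018c12301cc4d3070c002000800213cc002000400200040020008563004c0030008173008c0020a4c1d3104c001064c002000818300081330008001010c333000800201cc001000826300080021a8c3130bcc023130c001098c00200080021b0c1130008002000815300040020ccc063048c0020008002058c0020004193110c28300086531a4c00200080020008001000800200085b300080020008001080c233090c4c3000815300042b30008063048c073134c002068c002010c4f3000800100080020a4c1a306cc00100084430a0c1830004000000000000000000000000000000204cc15300040020ccc00200080730008002058c002040c00200081130004083000800200040020008063048c0020008002000800200084f300080010008083014c002000800213cc033000400200044e3084c00200080020008002008c0010c0c1e30008002000832300080230004293068c1b300080030c8c002000800200082131a0c002000800100080020008002078c6730008001080c233090c00100080000000000000000005cc000000829306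8c00200041930008002060c002000815300040020ccc06300080020008002084c002088c0020004002000800200081e300081f3000420300082430008002000800200041930008283008c00200080020004002000806300080730008002000800209cc00200080020004002070c1d306cc00200080330004002020c00200080020008002000800200040a3000400206cc002024c0020008002028c001098c41309cc0930008002000800200080010f0c3930e0c0020ecc37300040020008002004c003000800201cc00100080020008013000c00205cc00200083d300043c3000838300080020dcc49304cc15300040020ccc063048c0020004000000000000000000000000000064300040020008103024c313044c002 29 536870911 0xbe6000000000000000000000000000000000000000000000000000000000000000000000000324699dc00000000000000000000000000000000000000000000000000000000000000000000000000000000000000000000000000000000000000000000d61410e0000000 256 64 = 62)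

theorem c5 : Part C 320 384 62 := Cfsg.Agent.SporadicRecognition.CertFast.part_fast C alC 62 (by decide +kernel : Cfsg.Agent.SporadicRecognition.CertFast.runF C 14 16383 0x4002000800200080020008343008c0020f4c001000839300080020008002000800200081b300040020008002000849304cc15300040020008063048c0730008002058c002040c002000811300044c3000400200081f3000831308cc0020004002000800200080020c8c002008c0020f4c001000839300084630ecc373000800200081b30004002110c283060c0010000000158c000000000011cc0000008133098c001040c333018c0020008002138c002000800200080010008002000830300080020008001080c002090c0020008002000404300080630008002028c001098c5d300080930008423030d76400080010f0c3930e0c00200083730004002000856300080030008473008c00100080020008013000c0020008002000800200043c3000838300080020dcc493000815300042b30ccc063048c0020004253000800200080030c8c473008c002000800100083930e0c4630ecc002000829300081b30004193110c28300080a30004213000800200080020d0c0020d8c4e300043c30e4c00200080020008002094c002000400200080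020008002028c001078c00200080020c4c23300084c30c0c0010f0c39300084630ecc373000830300080010008002018c12301cc0010008000158c000000c32305cc0000008053074c4130004193110c002060c002000800200040430ccc063000807300081c3074c41300084f300cc0010008002000800200040430ccc0630008073028c001098c00209cc0930c4c002000800200080010f0c3930e0c4630ecc37300040020008002004c0030c8c00200080010008002158c013000c32305cc07300040020008563004c0030c8c283008c0020008163174c001064c4430a0c00200081330008001040c333018c123000800204cc153000400200080020008073134c4e3074c00200040020008002060c00204cc15300040020008063048c073130c303078c0020004002110c283060c00204cc15300040430ccc0630008073000800200080020008002000800200040010008002158c013000c32311cc0230008293068c1b30004193110c002060c00200040021b8c002000c323044c0020008002054c0010008333018c12300080021c0c2130008223000800100083530008703078c00207cc001080c233090c00200080020008001064c4430a0c183000813300080010008333018c00201cc623000800200080020008002044c001000800200086830004002000828300082c3000800200042230008002048c0020008133054c0010008002000800201cc002094c0020008001000800200080c3028c001084c0020008002000800200084c304cc00200040130008002048c002130c1c3000800200080020008001030c0010008002158c01300080020008023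 29 536870911 0x32067d5c000000000000000000000000000000000000000000000000000000000000000000000000000000000000000000000000000000000000000000000000000000000000000003106915c000000000000000000000000000000000000000000000000000000000000000000000000000000000000000000000000000000000000000000000000000000000000000000000000000000000000000000000000000000000000000000000000000000000000000000000000000000000000000000000000000000 320 64 = 63)

theorem c6 : Part C 384 448 59 := Cfsg.Agent.SporadicRecognition.CertFast.part_fast C alC 59 (by decide +kernel : Cfsg.Agent.SporadicRecognition.CertFast.runF C 14 16383 0x44e3068c00200080030008002008c4c30004002000810300086c3044c00200080020008001040c333018c123000800200081530004002000800200080020008693058c002000400200080020008002000815300040020008063048c073190c5b3078c0020004002110c283060c00204cc15300040430ccc0020008073124c5b3068c002040c0020c8c11300040010008002158c013000c00211cc0230008293068c1b300041930008002060c001000800200080131a8c3130008002130c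001058c002040c1931b0c283000800204cc26300040020ccc0631bcc002194c002084c002088c002000434300080020f8c1e300081f3000420308cc243000800200080020004002110c283000800204cc00200040020ccc00200080020b0c71300086e3000800200080020004643000800200080020008002044c001130c05300080020008002000800100084d3014c002000800213cc00200040020008002000800200084f300cc001060c0010a4c2131a0c002000800200080020004293078c67300080020c8c002008c3630004000104c000000000000080000004000000000200000000000000000000100000000008002000000005cc0000008001000800209cc0930c4c1230dcc0020a4c1a30008001064c4430008002134c002054c0010008002000800200084c300081530004002000806300080730004053000000200000000000173000000200080020008001064c0020008183020c00200080010008333018c0020008002000800200080130008001000800200080020008002004c001080c002090c00100081530008013000c00200080230008253098c1b30008002000800200044d30008002000800200080010d0c002130c00200080020008001080c233090c002070c00200080020008002000400200081c300081b3000800200cc001000800200081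6300081030008002044c00100040000000000000000000000000001a6400040020f0c273024c0020ecc002028c001098c73309cc09300082f300099f467d000100083930e0c0020008373028c001098c2a3000809300080020009a54000800100083930e0c0020ecc373000800200085d3040c0020008113000400100080020008013000c00205cc483124c002068c0020004193110c283000849304cc00200040020ccc063048c002190c001098c41300080930c4c0020009a44000800100083930e0c4630ecc373000800200081b30004193110c283060c00100080020008002000c323048c0230004002000800200080030c8c0020008002000416306cc002024c313044c6d3000871300043c30008383118c3b3000849304cc15300040020008002048c0730008002058c002040c002000800200044d30004002000822300080020d0c002 29 536870911 0x31c6955d9033e2e0000796000000000000000000000000000000000391800000000000000000000000000000000000000000000000000000000000000000000000000000004488343800000000000000000000000000000000000000000000000000000000000000000000000000000000000000000000000000000000000000000000000000000000000000000 384 64 = 60)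

theorem c7 : Part C 448 512 62 := Cfsg.Agent.SporadicRecognition.CertFast.part_fast C alC 62 (by decide +kernel : Cfsg.Agent.SporadicRecognition.CertFast.runF C 14 16383 0x800200080020008001080c002090c0a30004263174c002024c313108c0c3809000200043c38090383118c0020dcc00100081630008103000c323000848300042530008563004c0030c8c473008c00200081a306cc001064c4430a0c0020008002054c0010008002000800201cc002000815300040020008063048c0730004002000856300080030c8c473008c65300080020008001064c4430008183000800200080010008333018c12300084d30008002000800200080010008353130c00200080020008001080c233090c00100000000000000000000000000000008053074c67300040020008002060c00100082131b8c002000800208cc0020008002000800107cc002000800201cc002070c1e3104c002000800200047d300080020008001010c002000800201cc0a300042630008273000800200080027c9000200043c30e4c00200080020dcc001000800200080130008002000859300040020008563004c0020008002000808304cc1530004002000806300080020008303000800200040021acc0020008001000800200087f3000c3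2300080230008001000800200080930c4c0020dcc0021c4c163174c001064c4430a0c0020004303068c0020008002080c2330008002000800200041030ccc063048c0020008002054c00100080020008002000800216cc1630008001000800200080020008002054c0010008002018c12300084d31a4c163000800100084430a0c0020008133054c001010c0020008002000800200080021b8c0020e0c323000800100040020008563004c0020008002008c0020a4c1a306cc001000800200081830004002078c002004c0021acc233090c00204cc26300040020ccc0631bcc002168c3e30008002004c0020004343000865300081e300081f300042030bcc0020008002000800200040020008283000800204cc0020004002000800200080020b0c00200086e300080030008002000400100000000000000000000000000000008053074c68300041930008002060c00100082131b8c002000c0020d0c02300080020008001088c333000800201cc00204cc15300040020ccc063000800200085b3000800200046a3110c0020008002070c213104c00213cc002000400200080020008001010c333000800201cc002000800200080021a8c3230008001028c001098c00209cc09300082f30009d2400080010f0c3930e0c0020ecc37300040020008002004c003000817300080010008002158c013000c00205cc002020c133054c0010008333000812301cc002138c00200080011a8c0020a0c18314cc002054c0010008333018c123000800100080020008002000c32300080230008001000800200080930c4c0020dcc0020008163174c001064c4430a0c002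 29 536870911 0x2b85889c000000000000000000000000000000000000000000000000000000000000000000000000000000000000000000000000000000000000000000000000000000000000000000000000000000000000000000000000000000000000000000000000000000000000000000000000000000002b8588dc0000000000000000000000000000000000000000000000000000000000000000000000000000000000000000000000000000000000000000000000000000000000 448 64 = 63)

theorem c8 : Part C 512 576 56 := Cfsg.Agent.SporadicRecognition.CertFast.part_fast C alC 56 (by decide +kernel : Cfsg.Agent.SporadicRecognition.CertFast.runF C 14 16383 0x8002054c00100080020008123000849304cc00200040020008063048c07300080020008002088c002000811300044c3000426319cc002000831300080c3000800200040020008002118c3b30dcc00200081a306cc00100084430a0c1830004002000800200080020c8c123008c00100080021a0c00200083230d0c0020008001078c1b300080020c4c23300080020c0c0010f0c00200084630ecc3730004000000000200000000000000000000204cc2630004223000800200080020008133098c00107cc002018c00201cc0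0200081a306cc001064c0020a0c183128c00100083c30008093000842300080a300041d31d0c002024c002108c7630b0c05300043c3000838300084730dcc2c300042631b8c2b3024c002000800200080020008563010c00200cc00100080021d4c002174c002000800200080010004753000800200080030008002000a354094c00100080130e0c4630008373000800200081b30004193110c283060c00116cc0020008393000c323048c0230004002054c002004c0030c8c12300080020a4c0010f0c0020e0c4630ecc002124c002054c0010acc002000812301cc4d3000800200080020008002000800100044e300080020008002000847300080020008001000839300080020008002000829300081b3000400200080020008493000815300042b30008063048c073130c002084c0020008002000811300040010c0c0020008002000832311cc002000800200040020e4c002118c3b30dcc0020a4c00206cc00100084430a0c1830000001000000000000000000002000000100000000000000000000000000000004002068c56300080030c8c473008c00100080020008013000c3230008023000800200081b30008002000800200040010000000158c000000000005cc000000000000000010000000000000200000020008163158c1030008002044c001000400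0000000000000000000000000036300040020008273024c3130ecc002028c001098c00200080930c4c002000a1a4000800100083930e0c4630008373028c001074c74309cc0930c4c2f3000a164014c0010f0c3930e0c4630ecc373190c001054c00200080930c4c002000800000000010000000000000000000000004002074c413004c0030c8c002008c002000400206cc002024c313044c3730004002068c00200080030c8c283008c00100081a3158c00200080020d0c0020008002084c68300040020008002060c00204cc00200042230008002000807300040020008563004c0020c8c002000800200081e319cc00100084430a0c1830008133000800107cc002018c12301cc00100000000000013000000011cc00000080020008001040c333018c00200080020008002000800200080010008023 29 536870911 0xf0c0000000000000000000000000000000000000000000000000000000000000000000000000000000000000000000000000000000000000000000000000000000000000000000000000000000000000000000000000000000000000570b13bc1c8585c0000000000000000000004548d55e512baae0000000588ae43800000000000000000000000000000000000000000012b959670000000000000000000000000000000000000000000000000000000000000000042486c5c00000000000000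 512 64 = 57)

theorem c9 : Part C 576 640 60 := Cfsg.Agent.SporadicRecognition.CertFast.part_fast C alC 60 (by decide +kernel : Cfsg.Agent.SporadicRecognition.CertFast.runF C 14 16383 0x870300086e30008001080c002008c4d30008002000800200080010008353130c00200080020008001080c233090c0021c4c00200080020008002044c0010008713000800200080020008113000400200080020008002000800200040020008002000800200084f30008001000800116cc1530008002000c3230a0c02300040000000413000800000000020000002000400200082730008002048c0020008293068c002000400200080020008002000400200082730008313048c7b30008293068c0020004002110c002060c0020a4c0020008001064c4430008002000800200080010008002000800200080020008002000400200080630008073028c0010008413010c0930008002164c00116cc002104c103000c323000800200084e3098c1b30008002000400200080020c0c26306cc0020004203000824300045b3068c5d300080030c8c0020008002138c002000800200080010008002000830300080020008001080c00200080010a4c1a3104c002000c00200080020008002084c002088c0020004002000800200081e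300081f3000420308cc243020c0020008002040c00200081130004083000816300081030008002044c0010b0c7a3058c5d300080020008113000436300040020a8c002024c0020008002028c001074c6e300080930c4c2f300085a3014c001174c3930e0c4630ecc00200080020008683088c00200040020008002000800219cc1f3000420308cc243028c001074c002000809300082f300085a3014c00100083930e0c0020ecc002124c00200080020004193110c28300080a3000826306cc001064c4430008002190c00100083c309cc0930c4c3b30dcc0a300040021d0c002024c3130ecc0c3000000000040000000000000000000000020004153174c103024c3130bcc00200088330004002004c383118c1730dcc00200080020f0c001064c44300081830008001068c6e302cc0930c4c002000a7740a4c0019dd27740e0c4639dd0183000000000000010000000000000000000020a4c0020008001064c4430bcc37300000000000000000000000000010000002014c00200083930008002048c0010004002058c2a300080030c8c002008c00100080020008002000c323044c002124c002068c00200040020008283060c0020008153000400200080020008002124c13300080010008002000812301cc0020008002000801300080020008001134c001098c6830008002000800200080020008001000804300080020008373000800200081b300040020008002060c00100080020008002000800200080230004002000aad40008002000aad40008002000421306cc00200080020d0c00200084e300043c300080020008002000849300081a3000800100084430a0c183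 29 536870911 0x3e3000000000000000000000000000000000000000000000000000000000000000000000000000000000000000000000000000000000000000000000000000000000000000000000000000000000000000000000000000000000000000000000000000000000000000000000000000000000690c42380000000000000000000000000000000000000000eec0000000854c28b8000000000000000000000000000000000000000000000000000000000000000000000000000000000000000000000000000000000000 576 64 = 61)

theorem c10 : Part C 640 704 61 := Cfsg.Agent.SporadicRecognition.CertFast.part_fast C alC 61 (by decide +kernel : Cfsg.Agent.SporadicRecognition.CertFast.runF C 14 16383 0x128c00200043c3004c0020008002008c001000800200081f300080021bcc002020c13300080010008002018c0020008001000ba44000ba44000c323e91002300085b3068c1b30004193110c283000800204cc263000400200080021bcc0020008133098c0010008002018c6f300080010008002158c00200080020008002130c002000800200040020008002060c00200080021b8c002000400200080020004002084c5630008003000800200080010000000158c002000c0630000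023190c293058c5d30004193110c002000800100082131b8c002200c0020008002128c0020008001040c333018c002000800100082130008013000c00211cc0230008002058c5d300080020008002000400204cc00200041030ccc0630008002000000000000010000000000000200000021a4c163174c1030008002044c001028c00100083c309cc09300083b300080a300042631b8c002024c0020bcc002134c00200040020e4c38300083b30dcc0a300042630008273024c0020bcc763168c00200043c30e4c38300083b300080020a4c1a306cc001064c0020a0c183020c00200080010008333000812301cc4930004002000800200083130008373124c002058c5d30004193110c28300080a300042630008002024c31300080c3000800200043c30e4c383118c3b30dcc00200080020004223000c002048c0730008002000856300040030c8c283060c000014c002000800213cc03300040020004002000800200080030c8c00200080020a4c0020008001064c44300080020004002000800200080030c8c002008c0020004163174c273024c313044c002020c002054c0010acc0930c4c12301cc493000800200041030008063048c00200045b3000800200080030c8c00200080010008002158c00200080020008023000800100080020008002000800201cc0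0200082131a0c001000800200080020004002084c6e300080020008002000800200080020004223000800200080020004002000800200080020c8c002008c00200040020008002000831300088130008002078c6730004002110c283060c002000800200041f30008063048c0730008002054c001040c093018c6f300080021c0c0021b8c002000800105cc002028c001098c0020008093000842300084d300080010f0c0130e0c00211cc02300040020008002088c0030008002008c08304cc00200040020ccc063048c073124c133098c001040c333018c123000800100080020008002000c323000802300085b3068c1b30004193110c283000800204cc263000400200080021bcc0020008133098c0010008002018c42301cc0010008002158c002000c0021bcc002134c002000800200041930008002060c00200080021b8c00200080010008002 29 536870911 0x876000000000000000000000000000000000000000000000000fc60000000000000000000000000000000000000000000000000000000000000000000000000000000000000000000000000000053ee799c0000000000000000000000000000000000000000000000000000000000000000000000000000000000000000000000000000000000000000000000000000000000000000000000000000000000000000000000000000000000000000000000000000000000000000000000000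 640 64 = 62)

theorem c11 : Part C 704 768 62 := Cfsg.Agent.SporadicRecognition.CertFast.part_fast C alC 62 (by decide +kernel : Cfsg.Agent.SporadicRecognition.CertFast.runF C 14 16383 0x8002078c67307cc001080c233090c0a3000800200088930008002044c0010b0c002054c5d300080020008113000436300040020008002024c0330008073028c002098c5d3040c0930c4c11300040a300080021b8c001064c44300080020008001000882300084f30c4c002060c0010f8c1530a8c002000c3231bcc0230008001098c002040c0930c4c2f300084d300042631a0c00200080020008002000800200085d30e4c00200086f30004001014c002000839300080020008002000800100081b3000800200083430d4c0010008002000839300080020d0c002130c001098c67300080020c4c00200080020008002174c393000c6c30008001000400200080020e4c0020c8c0020008002000400206cc002000831308cc002000400200080020e4c0020c8c173000800200080020004223000800200087d30008002000800107cc002018c0021f4c00200081630008001064c4430a0c183028c00100083c3040c0930c4c42300082c300042631b8c002024c313108c00200080020008002010c09300cc001030c4a3094c0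0100080020e0c46300083730004002058c6e3004c0030c8c473008c001138c002158c013000800211cc0230008002068c1b300040020008002060c0010c0c002158c013000832311cc0230008002068c1b30004002110c283060c0a300042630008273024c313108c76300045b3068c56300086a30008473008c64300080020008001064c4430a0c002190c0020008001000800200080020008643000800200040020008063048c0020004002084c563000800200086f300080010008213000801300080020008002028c002058c5d3040c0020008113000436300040020f0c04300080020008002028c001074c6e3000800200080020008363014c001000839300080020008002028c001074c00209cc0020008002030c5a3014c0010f0c393000800200080020008293068c1b30004002110c002000808300080020004002000806300080020008001000800200080930c4f704030c000000000100000000000000000000000080d3e09000107cc0020c8f9d401cc000000000000000000000000000400000043e30008002004c0030c8c002000800200080020008001064c443000800200078c400080020e4c0030c8f8c40008083000815300041f30008313000800200045b3068c002004c0030c8f9140008001000ba1400080020008002e05002300080010008002000800200080020008002138c2131a0c0010008002000800200080020008001088c002000800200080010008002158c0020008323e2500230008001000800200080020c4c00201cc0020c0c1e319cc00100084430a0c0020008002000800107cc002018c12300080a30004263000800200080020008002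 29 536870911 0x1cf9e667000000053c7985c00000000000000000000000000000000000000000000000000000000000000000000000000000000000000000000000000000 704 64 = 63)

theorem c12 : Part C 768 832 64 := Cfsg.Agent.SporadicRecognition.CertFast.part_fast C alC 64 (by decide +kernel : Cfsg.Agent.SporadicRecognition.CertFast.runF C 14 16383 0x124c002000800200040020008283060c0020008002000400200080020008002028c002074c1b30004002000800200084d300040021a0c04300080020008002028c0010008743000800200083b300084d300041531a0c22300080020bcc0020d8c833000400200080020008002008c00200081d30f0c00100080020008373134c001068c0020acc0020008002164c4d30a4c0010008002000800200083730008293074c00200040020008002060c00200080020008002000c002000800100044e3084c2a30008002000800200080020c0c26306cc0021a8c443000800100040020008683000800200083430008001000b8a400082230008002000802300080010008002088c00200086f300080020a4c1a3000800100080020a0c002124c00200080020004002110c283060c002000800200040020008002048c002028c002098c1b3000400211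0c002060c4c3000400219cc273000831300080c3028c001000874300080020c4c3b300084c3000415319cc1f300083130bcc0c3130c83300040020008002118c3b3008c00200081e30f0c00100084430a0c373130c001068c0020acc0020c4c002164c4c30a4c001000800200084630ecc3730008293078c0020004002110c283060c00200080020008002000832300080010004303078c2a300080020c8c0020008002138c21306cc002064c6c3044c0010004002000867300080020c8c00200082c3000800206cc001064c0020a0c00200080020008002000800200cc00100080830a4c1d3174c00200080020a0c0010008002000800209cc002000800200040021d4c0021a0c00200080010d0c002000875300086730008001080c233090c0020008002174c0020008002000418300080020008002000800200cc0011d8c00200040020008002024c3131bcc0020008001058c0020acc0930c4c1130008002094c002000800200080020008001000413300085d300080030c8c113000800204cc263000410300080020008002168c4e30004002000800200084730008002000816306cc00100080020a0c00200044e300080020e4c0020008473000800100080021a0c0130008002048c002000829300043c300080020008002000800204cc26300041030008002048c002168c30300040020008002118c4730008002000816306cc00100084430a0c002000430300080020e4c0020c8c4730008001000800219cc0130008323048c002000829300043c30008002118c3b30dcc00200040020008002024c31300080c3028c00100085d30acc0930c4c002030c002000800200040430ccc063000859300045b30008843004c0030c8c0020008002000800206cc002000800100087b3000800200081b30008001080c002090c00200082131a0c22300080010008353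 29 536870911 0 768 64 = 65)

theorem c13 : Part C 832 896 62 := Cfsg.Agent.SporadicRecognition.CertFast.part_fast C alC 62 (by decide +kernel : Cfsg.Agent.SporadicRecognition.CertFast.runF C 14 16383 0x800200080020004002110c002060c001000815319cc013000832305cc023190c00100081b300080020c4c23300080010c0c1530008013000832305cc0230004000000000000080000000000000000200082130008001064c0020a0c1830008002058c5d300086a3000800200040a300040020f0c223024c002108c0020b0c001098c6e300080930008423060c002000800200081f300083130004002190c00200082a300041930008283060c6530004263174c103024c313108c002ded00020004563ded0003018c6f30dcc00204cc00200047f3000c443048c07300085b3058c56300043330c8c283060c00000000000000000000000000040000004002058c00200081930c8c002008c0010008002158c002000800211cc023124c293068c1b300040020008283000800100081530008013000832311cc0020008293068c1b30004002110c283060c0a300042630008273024c0021bcc00200040020008002004c6a3000834300086430008002000800200080010008002190c29300080020008001080c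2330008001000800200080131a8c6b30008023190c293000800200080020004002000864300080020008002000420308cc243000800200080020008193110c002000400200080020008002064c443044c00100044e3084c0020008002000828300080010c0c1e3000800200083230a0c002000829300080020004002000800200080020a4c00200080010008443000818300044e3084c843088c002000800200080010c0c1e3104c1f30008323000800200044e3084c6830008002000800200084d300080020008002000844300080010004303078c67300080020c8c002008c4c300080020008002064c002044c001020c0020008002088c00200040020008083000800200081f3000420308cc2430008002084c002088c0020004343000800200081e300081f3000420308cc2430008002084c68300080020004002000800200081e319cc002000420308cc243190c00200085d30008002000811300040020008002000800200080020008001028c001084c6e3000800200082f300085a3138c0011a0c39300080020008002028c001078c6e300080020c4c2f300084c30c0c00119cc39300084630ecc3730008002098c00200080020008002000400200040020008002024c3130008002168c0020008002000800200081130004002014c002000839300080010008023000805300080020e4c001080c233008c64300080021b8c00213cc0330004002190c001058c00209cc0930c4c00200085a316cc00100080020e0c4630ecc0020008002058c5d30004193110c283000800100081a3000822300080020ecc0230008001000800209cc002000800200080020a4c1a3000800100080020008002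 29 536870911 0x1718000000000000000000000000000000000000000000000000000000000000000000000000f329e77000000000000000000000000000000000000000000000000000000000000000000000000000000000000000000000000000000000000000000000000000000000000000000000000000000000000000000000000000000000000000000000000000000000000000000000000000000000000000000000000000000000000000000000000000000000000000000000000000000000000000000000000000000000000000000000000000000000000 832 64 = 63)

theorem c14 : Part C 896 960 49 := Cfsg.Agent.SporadicRecognition.CertFast.part_fast C alC 49 (by decide +kernel : Cfsg.Agent.SporadicRecognition.CertFast.runF C 14 16383 0xb0c001098c6e300080020008002060c6430008002000800100084430008002190c001058c5d3040c0930c4c002000800204cc00200047f30008323000807300045b300080020008003110c113000800100082130008013000800200080020008293068c1b30004002000828300080010008002158c00200083230008023124c293068c1b30004002110c28300080a3000426300082730008002000800200080010008002000809300084230008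4c3000800206cc00200080020004763028c00100080020acc09300086f30008002000800200040430ccc002000807300045b30008002004c6a31acc1130008643000800206cc00200080010008002190c002068c1b30008001080c002000800100000000000002000000000000000008002084c002088c0020004343000800200081e319cc1f3000420308cc243194c3d300083c3040c002000811300042c30008163104c00200080020008001134c00100081b300084f30008002000800200040020008223000800200080c3020c002000800200040020008283060c4d30a4c0020004223000c002048c023028c00200086e30004193110c3b3000800000001a3000000200000000004000000400000000000000000000000000000a300040020008393024c06300080c30000000000400000000000000000000064300041d30008002024c31300080c3000000000040000000000000000000000000000001000000000000000008000000000000000010000000000000200000000000000104c00100000630008000000000000000000000000000000000040020008001158c043000c063000800200081330008001088c0030008123000800216cc002174c00100083230a0c002190c002058c00200084f300cc001030c00100080020008002000c4630a0c02300080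01068c1b302cc0930c4c2f3030c0021d4c0011b8c002000c0630008373020c133098c00109cc093000812301cc0021d4c2631b8c0010ccc3230008002000000000000000000000000000100000010f8c21319cc0131a8c002160c023eb905b30004563eb90003018c3b3000800200080020004103000c443048c002000805300085d300040020c8c1130008000014c000000000000000000004000134c001098c563000800200082f3030c000000000100000000000000000000000000000000000000000000000010000001138c002158c002000800200080020008002000800200040020008002060c0010008002210c00200080020008023190c001068c002000800200083430d4c00116cc002158c00200080020008002130c001054c00200080020c4c2f3030c0000000001000000000000000000000000000000000000000000000800100000010c0c153000801300083230008002 29 536870911 0x542ad01c000000000000000000000000000000000000000000000000000000000000000000000886ad150c380000002b4542ae0000000ad150a38000215aa17384fcf29f170000433000000000000000000000000000000000000000000000000000000000000000001e653c0e0000000000000000000000000000000008560000000568a84dde653c4e0000000000000000000000000000000000000000000568a849ea1738ae0000000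 896 64 = 50)

theorem c15 : Part C 960 1024 64 := Cfsg.Agent.SporadicRecognition.CertFast.part_fast C alC 64 (by decide +kernel : Cfsg.Agent.SporadicRecognition.CertFast.runF C 14 16383 0x8001084c0020acc002000834300080021d4c1630008103000832300080010004133084c683000800200081230008001138c213000800200080020a0c0020008001000800200080020c4c423000800200041e300082b3000831308cc0020008753058c002040c0030008113000400104cc1e319cc0020008323048c00200044e3084c843004c002000800200080010c0c1e3210c01300083230008002028c0020008002224c00200040020d4c0a300080020008893000420308cc2430008002054c683000800200040020d4c002000815319cc002000420308cc243028c002000800200040020008002060c0a300081630008002000806300080010008001098c683088c0020008343030c002138c002174c3931a8c002044c00100044e300086830008002000847300080a300042631a0c89300080020bcc002028c00200080020004002110c002060c0a300081630008002200c00200080010008001098c67307cc0020c4c2331d8c4d30008002104c00200080020004002130c0010008823000800200cc002164c0020c0c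002174c393000c6c3044c0010004303000867300080020c8c42300080a3000426319cc89300083130bcc002000800200080010008333018c1230008002000800200080020ccc06300080010008001000800200080930c4c00200085a3138c00100080020008002000800200040020008002004c0020008473008c5a30c0c00100080020008463000800200040020008002004c0020c8c473008c4d30008002000800100080020008002130c00200080020004002110c28300080020004002000800200080020008002028c00100080020acc0020008002000800200080020004043000800200080020008002054c683088c0020004343000800200081e300081f3000420308cc002000800200083c309cc33300086f300040020008263104c00200080020008001190c002000800200040020008002000836304cc002000404300083230008023028c00200084130004193018c00200080020c0c00200041f300083230a0c0020004002000867300083830c8c283000808300080020004043000831300080020008833000800107cc0020c8c00200084d3000400200080020008002000800200044e3084c002004c0020008473000800200080020008001000800200080020004053084c413004c0020008002008c001034c213000801300080020008023130c001098c563224c0020c4c002030c0010c0c002158c00200083231bcc002000800200080020004002110c002060c001014c002228c002000832308cc02300045b3000856300080020c8c233000800200081e30008001000800200081830008002074c5d300083331b0c00200040a300040020f0c1f300080020008002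 29 536870911 0 960 64 = 65)

theorem c16 : Part C 1024 1088 64 := Cfsg.Agent.SporadicRecognition.CertFast.part_fast C alC 64 (by decide +kernel : Cfsg.Agent.SporadicRecognition.CertFast.runF C 14 16383 0x8001068c683010c4f3000800200080021c0c26300040021a8c6c3048c0730004753078c0020008002080c23300080011d4c2131b8c002200c0020008023000800200082a307cc002000800200040020008002174c2230008002044c00100080020008683000800200040020008002000800219cc002000420308cc243000800200080020008002000400200080020008002000800200042030008002028c002098c5d300080930c4c00200040a30008263174c002024c313044c0010008002098c0020008002000400200080020008263000800200042030008243134c002000800200080020004002030c4c300080020008002000420308cc0c3190c001000800209cc0020008002000800116cc2130008002000800200080020004293084c0020008002000800200080010008213000800200080020d0c023134c00200080020004002000800200084c31a4c002000800213cc063000800100080010008002000800200080021d8c36300041631b8c273024c0020d0c353168c5b30004002000800300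0828300080020008163174c001000c002044c00200083e3058c002004c001000847300080a316cc1a30008103024c0330004002130c00200086e3000800200080010008002014c1e3174c0021a8c0020a0c00100040020008683004c803000800200084d300041530008273000800200080c30d8c133000400200080020008002008c00200081d3104c0010008002000802300084e30008002004c002000834300046530004002000804300080020bcc00200045b3084c0020008002000847300080010a4c2130008002000800200080020004002084c002000800200082f3008c4c30008002000800100080020a0c002134c693000800200083331b0c002000400200040020008002000831300087630008001058c6e309cc0020c4c002090c5a316cc001000800200083230a0c0020008002058c5d300040020c8c11300080020f8c1a3000801300080011bcc353028c5b3068c002040c4f30c4c00100084d300080021b8c00213cc00200045930008053084c5d300080031b0c0020004001000800219cc01300082030008002130c001054c00209cc0020c4c002164c4c304cc001000800200084630ecc0230008002078c6730004002110c283008c0020c0c00200080130008002048c001020c293074c6830008002000400200080830a4c1d319cc002000420300082430008002000800209cc0020004002000800200080020008273000420300082430008002000868300080020004002030c002000800219cc0020004203000876300084e30008002000800200043430d4c0020c0c0020008002000420308cc2430004303084c002000800200082830008002000400200080020008002108c002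 29 536870911 0 1024 64 = 65)

theorem c17 : Part C 1088 1152 64 := Cfsg.Agent.SporadicRecognition.CertFast.part_fast C alC 64 (by decide +kernel : Cfsg.Agent.SporadicRecognition.CertFast.runF C 14 16383 0x8002000800200040020008002060c2c30004002000800200080020008002000800200080020004002000800200080020008002000800100080020a0c183000800100081b300080930008002000800200041a306cc002000800200080020008002068c002000800200080010008002000400206cc002000820300080c30008001068c1b300080020008423030c4c300081a300080020008002000459300080020008002000800200080020004002000800200081030008443000800100082930008002000800200040020008002000800200080020008002044c00100080020008002040c193000811300040020a4c0020008002000400208cc002028c00200080020004002110c00200080a300080020008001064c00200080020008001000800200080020008002000800200040020008002000831300080c30d8c00200080010008002000800200080020008002000827300040021bcc0020008002098c41300080020004002000800200082630008002000420300080020008001000800200086a31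10c002000865300080020008001000800200080020004293084c0020008002000828300080020008002000400200080020008243000800200086830004193110c002000800200080020004043000800200080020008001000800209cc00200080020008001138c21300080020008002048c0020008001058c67300080020c4c00200084d3000800200040020ccc0020008002028c00200080010008002000800200080020008002158c22300080011bcc002020c002000800209cc001080c233000800200082130008002000800100080020008002098c4130008001080c002090c2c3000800206cc002000831300080010b0c00200080010008002110c00201cc00200040020008002064c6c31bcc0020008002000800109cc80300084230d4c2c30008002000800100080020008073130c00200081b30008002000800100080010a4c21319cc00200080020a0c002134c001068c00200080020008002164c65300081d31b8c00100084430008183134c002068c00200084f3000800100084c300041530008002000831300080020008002000800100083330008123030c00200080021b8c001064c44300080020008002054c0020008001000800201cc0020008002158c002000806300080010008002000800209cc0021b0c0020004002000400200082731a8c002044c0020b0c00100081b300080930c4c00200080830008153000404300080020008073188c0020008683000833300080010d4c00200041631a0c00200080021bcc002130c001000867309cc0020c4c423030c001000821300080020008002048c0020008001068c673040c00200cc002000800200082630004002024c6b30008002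 29 536870911 0 1088 64 = 65)

theorem c18 : Part C 1152 1154 2 := Cfsg.Agent.SporadicRecognition.CertFast.part_fast C alC 2 (by decide +kernel : Cfsg.Agent.SporadicRecognition.CertFast.runF C 14 16383 0x800200080020004002000800200082c30008002000800200080010008002 29 536870911 0 1152 2 = 3)

theorem all : Part C 0 1154 1071 := ((((((((((((((((((c0).append C c1).append C c2).append C c3).append C c4).append C c5).append C c6).append C c7).append C c8).append C c9).append C c10).append C c11).append C c12).append C c13).append C c14).append C c15).append C c16).append C c17).append C c18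

end Cfsg.Agent.TypeO8Minus.ELaChk0
end

-- part: TypeO8Minus/ELaAll
section
set_option autoImplicit false
set_option maxRecDepth 100000

namespace Cfsg.Agent.TypeO8Minus.ELaAll

open Cfsg.Agent.SporadicRecognition.CosetCert Cfsg.Agent.TypeO8Minus.ELaData

theorem part : Part C 0 C.N 1071 := Cfsg.Agent.TypeO8Minus.ELaChk0.all

end Cfsg.Agent.TypeO8Minus.ELaAll
end

-- part: TypeO8Minus/ELbData
section
set_option autoImplicit false
set_option maxRecDepth 100000

namespace Cfsg.Agent.TypeO8Minus.ELbData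

open Cfsg.Agent.SporadicRecognition.CosetCert

noncomputable def t0 : Tr := beta% (fun (N : Nat → Tr → Tr → Tr) (L : Nat → Tr) => (N 128 (N 64 (N 32 (N 16 (L
  0xfffffe0e009011e0c01640502f0200d00841740f016c1002e810bfffffc1bc1182241702c01e05301418e1002d41d02b81e05601d3fffff83602204002c0cd0841841001380d02580a0500340a40697fffff05f03e0780541720f02d01d02480a04d03809e0701440e3fffffe04802c0860401000402301804403008a0602901b048830bfffffc08e0600f80701f8160390100760580f00b04d83408605d3fffff82b41c01b80c0a306c1320d00d40a01a014032010070050ffffff04a83203001411a0c02141703d82c0770540620480b4040fffffe02a01c084060094030160100270200500401ac1302e020bfffffc0520400f40b01580e02100c0460380900703202405503d3fffff81c81401b01406a04c0c40900780600e80c01b00c03e030ffffff03002202f0240b40801500f02601c04a034040028064030fffffe01300802c0181040c01d01601801002e0200cc0a017012ffffffc01e0080540401301002201c0240180440300e00c01a015ffffff80500400380200e00801a01002c0200600400a0080120137fffff00800600800800c0080140100200200300400400800401f)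
  (L
  0xfffffe18210c23c18032c2006081c0ca0741900783181d06203a9fffffc17a0684402f0bf08417a104180088364220bb0801740fdffffff85c03e08485c0b80341780f02ec100690420ce0841a810affffff0b607a1040b416e0e82cc0d05b01e0c908018a10030c204fffffe0ac02815e0a05943c0af0760b10701600e02c81c0a286cffffffc2b01d029c130510140ab06c1500d82a41b0528180aa06d7fffff8548390500240a10681300502741a04f03409c02c1340d27fffff04a01209704429a1c05203709a0641120bc2841b04fc357fffffe13b0d0120080230090498301270c421617023818049018bfffffc26e1982280f04582e0840242341804082d04402e08702d3fffff84bc3204081c1220c422a1801f41503d01207f0541060a97fffff08785e0790342101704042d03b01207c0580fc0b0208163fffffe07101815c0e03f02c07b8560740500e60a01d41407284cffffffc1e61502981b03480c07004c0da0981b81303601006f04d7fffff83bc2904f8340680480c20301981203382406501c0c60927fffff02f80a0960641d81403a42706d8440bf07c1c8130388257))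
  (N 48 (L
  0xfffffe24a18823e1004803008a02c11d0b42360b84642d08b85a9fffffc21c0a84441f1218c223c1802260c84c83211b0be232179ffffff88b05d08503c10705421a170430180948621230c425618affffff1130b810507420c1684001508182e11c0c0230180458304fffffe2151682ce1e03ec140eb0580fe0b01fe1603f42c0ee0a4bfffffc3f22b85883b0ea0560f60501f21583e82b07c0561cf1453fffff83c8130ac87421a16c4242d03d42a07a0541fe1643f82c3ffffff0770241530e43ec2b87c8560788520f00a43d42a87a0547fffffe1c313c29c1c03ac110dc8501a71202fe21076852076850bfffffc366260528370da84e0e80443422385ec410e88a20ea09d3fffff8780530a186c1d914839c2885dc400cb88c0e30441cc0a0839c11ffffffffffffffffffffffffffffffffffffffff8384110fffffe0df0402781a0720500e109e18b1102e21f07004e0df09affffffc1ba0784e0330d90981b012c30a2185b43d0d70941ac125ffffff835c0e0980641a61203402383681f06e02219611831c22bffffff0c40881250c41980703582106983c0d104019e0f03541e5)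
  (L
  0xfffffe1911144722f8cc07f1948fc1991182f01305d41f0cd88c3fffffc33a2308cc5e1920fa31f1f03c629863c450ca08a17307c3fffff85bc1e1168ba3171ec61e3d05c8240c488830b1e46123c3ffffff0b583a2271706063b8bfc760b704618310c5f63a8be4747fffffe2f61cc2d01605901c0eb8781690f02d41e05983c1618dcbfffffc5c438858c2b0ea87615d0702c01d85843b0af8762b61b53fffff855c1b0ad0542051645da3985703a0ad87421b16c5ca393ffffff0a88341540a45b238882c550ab0721550e441c2b0b44707fffffe2b21b029e140530190dd07027c19c48c308afc6e0a8070bfffffc54035052c270db06e1470644e23308f46015c0da1490dd3fffff8b1c6f0a204c2be1b856a3688dc5f1328ca14106428c0e0850019ffffffffffffffffffffffffffffffffffffffff84f8190fffffe13a06027a120a484d1558d825718c45e2e8a8c6b14b8a0ffffffc26c0b84e42314c8d428e12449e3108a45c1430d22821a1ffffff84b81609884427919c4e03304cc2f09a8322641944b4323ffffff1290c61260842420b04b43109505c1280602481704b02e5)))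
  (N 96 (N 80 (L
  0xfffffe1cc12c52a26871c240e509836821c6303d8ba87214b068bfffffc388140ab86c0e28961c10906bc430c407a1e392429c1a93fffff8f30931530d62e81c8788490c30791aa10a1bf0904062c8ffffff1050922941405261a0a786a1dd1223b224040e2c06f4240fffffe1b409c5343506c4230e48a034a20c6083b8ea08e1560d8bfffffc396280a44490e309e1af08c688410c007616b0e02900cd3fffff8ebc8f1438d23a72385a8380bf07519d1021ad08c3da2a8ffffff10489a2831a0560360a34331cf91a3992303de2a06ac230fffffe3622184f4338694220de0901aa108350140e3c8b1bf912bfffffc69c4189d4660dc08e19f088348208688271c31143722213fffff86783f1348ca38e22c706450660260cd080195088338200ffffff0c908025b1906f4448dc4880c807e1e114c3261f8634220fffffe1870844a6318d9c871ae90c18a0f8318120d4c851a8908ffffffc30210092c621a49063432083081e86182319c902337201ffffff8c487a1220c217d07c376210600280d48903311fc64a3eaffffff1830ee23f18036e2085e41f0be04e1a311c6543f0c807c4)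
  (L
  0xfffffe4282884802089046011d85e23e0dc4e6331140a822114c9fffffc4be3208e84022c15244f2a04ce3288e03611a85e26b1947fffff89b46511a07e44829c882530b306f12e8c82621904621787fffff11585c22e0f87664810dca511806825518c85e5210aca37fffffe2250b44501e9084a21cd11822a0cc49a311064a120a940ffffffc4482b08785910c85422215c43e2d88805b10e0742a81ad7fffff88582c1790e621715842215084c5a10a0b42da1c48144f27fffff1010aa21d16c40c1d0b80711000b21ff1643fa1508104e1fffffe41327c5cc390a906b20493c4012747fa4e08204d0fd8541fffffc3f4158b70710fa85222116c3ee2b87e0571770e63f62697fffff888c5b1080aa2181683e21487cc560fa0ac20d0e451234a7fffff1008b220f1585e8398830390f60aa1eb1543d21487b84a1fffffe3fb26c5a4380fc49a1460d23e92647ca4c07c0490f38521fffffc3be130b206f1ee12e3d32583c42287903f0f28a61e614dffffff8f44951608dc1d80983bc290ccc7f1c99161db0a03ba162ffffff1e79282ba1b43a6288734261960fc38a2283a41387402b4))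
  (N 112 (L
  0xfffffe5092f05a62a0f249216a8944fd2ec9ea5d0b5c4b1680721fffffc58c1b0b24532751724df2e0596320b345e1670de2cf1bdffffff936cb71610a42bd0d858a371174a92639662c00e05881e2ffffff26b96c2bb144578368ad0362291504ba2c85721b8adc3b4fffffe2b30e055e278ac4491550684922bc870528fc89a1568989fffffc9a45a8a9c4e1528b03f9268860521218ae1510682a916c7fffff8a843714d8982980cc53e2691d8ac21214440c27853a27affffff2669682881288204f0a2c5420d1424682ac50a198a28561147897fffffc50824fffffffffffffffffffffffffffff1408661fffffc9345789ec4813c06428019c4fe3089f4382609664af2c57fffff91f0ac13b08e2771984de1909d06013906e4b62c893c5827fffff1370bc26a1189805992ccb213306c26817c4c61909b05f1fffffe26017c4b82292a0b124e96025e1785943789845e12c8641fffffc4a2188950441de9224912bc4ac2e89603424295c47f2b5ffffff8924301260864732b07444689385c1280664672ac8c2553ffffff21f14a2451084841789206112387027e19c8b254912ca75)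
  (L
  0xfffffe59b3588c4551654d52c59a857f34caf2690d047419b0861fffffcaea68916ca91978803351fc722458cd05219908439522d7fffff95c4d022a15032e1f8650200e208a1968a232b1047084527fffff2b799e44929c6461f8c9c7d1ef12e37d2246f6448c98425fffffe56d338888530c887c18f07e3d62586ec440dd0881908829fffffc63a3b0ed49018b07c31b1dc632280da88728c17c55a3297fffff8c4c4221d14a3141d861c1f0c444f1b010c562330aa464a7fffff2b499a434290a345f1584cc1ab10a30d1386141f0d60851fffffe55f32c85851955cca2a899254d320a8e638d688418407c1fffffc60e209088a218107a31a1ec60a260d308329e18a53630d7fffff8c707b1ce1183151e85fc1e8c044b1a31045002eca606127fffff2a198c41e284a76629408bb19e1022fd1285f41e8cf8811fffffe53931082c5014d4c329798452b304a4a600d008017c07a1fffffc5ee1e0bcc5a17a8aa2ec0e85e0398bc4731778ae3aa2393fffff9484bf1738b02e913875a471454be28697a2eb1405c81d07fffff1718762dd15c5b01c8b845916f0e22df1c45b62d0f14925))))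
  (N 192 (N 160 (N 144 (L
  0xfffffe3b823076c3d8ed05d2131443b11347764890109d2df1b47fffffc75c251338b430a1ce611398a886316a8d81d811e60b395ffffff9824e420713c3a61287583914f8c52d11ae3a913075639affffff1e09223a5208930578e8c621d091839e1247cc4c1498c02fffffe3b724073a3b10f0a51cd8b8398124740468fb0992c31a67fffffcc0271930cb31c688c39722c728290e487f1c80903961fd7fffff97e4e225e16438c228704230e2c511c48fc38711c70a3f27fffff2f99c24ab2c46f2228e04891bf0fa3e025c6f83e8e00485fffffe5ed380948580de0881b808a3771f07b04b0dd47c1b988e9fffffc6de410efc911b308836d20c6d63d8da45028717a5d23717fffff8d8c4824b15e3642086b8220d847a1af89e5dc378b886da7fffff2f29be48c2b8a205e9764de1aa89c3571e46a4220d64791fffffe5d737490056972cdc2e19b65b7368b626c8d6c781a80881fffffc69e2391d0ac1a408636c21c69a3b8d2c4c2cf1ae5983557fffff8db8871d211a365218684218d1c761a28964f62e8b186a27fffff2d49b046e2acb3a6b93e0ba19d89433d1d4670218cfc751)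
  (L
  0xfffffe6c53f882e3a1aecfd2c49a66b33f0b206a1194aa20a0b81fffffc8242c1488bf3229dc6ac3ecd467c9a34f730d1d261c27dffffff9aa0fa20791c4111a48102c1a5cf83429ec40d1a88162d27fffff3501f251c2f8864521a48f820193840016080a48101c9c2fffffe68c3dca245e9228ae3411ec3fc1608044e8ffc9120313a7fffffc7f42a1428bc33d9ea6303b0ce8799980f13061ca60e26dffffff99dcf41fa9243f01507f03599a0f232d1e03f31b07ee2baffffff3389e65042eccc6791070a11f59303e81507da460fbc982fffffe65f3c49f45d1954f02361563e41507d44c8f9c8d1f71327fffffcca47793b0b91ed8a63e325c7c2448f7c7d1ee92e3e225d7fffff98eced2731703da2587a4298f64881eb8f83d52587a84b27fffff1e80a44dc2dcc40749924ef2bb1a260238cc887718b0eb7fffffe3ce1449b05b18d0ed3119ca572340bf47118bcec3121ccffffffc79627134cb53151d66273a8ad4669798df1e69266193a5ffffff985ce81fa1343ca1c0786271590cc2f01bc3c813c78c38a7fffff1e111a3c021c77c3191e8ac1de1203b91347fc4e1520c72))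
  (N 176 (L
  0xfffffe74b44094a441298b024e0c84a32989c85c1284a624f8cc9fffffc93633925c8624c91a49018c92a52924c6c32b1e07324353fffff9d050f24690a48b270cba78121c6b24494848418c91e520ffffff39ea1c481210a96639cc50d2ac1947254309045191f8630fffffe47d1988ea4191c86223d9224792888ee351a0cf6389212bfffffce368591bc813449ec46d2608d23491aca12330c44712847fffff9c5d0a23190070b424a526014c8c237fa104642808c03107fffff37ca0e45c1fc8ae2f917ca926296645e1b88b4309324b35fffffe6f34188aa3f1158a82270be4b82c88a63691446025a1649fffffcdde8291287d2238bc44d29c9dc5c92b4b125496244c1857fffff9bad042228f84462988802f1388b82511604a02c08863027fffff21f8c243b1e887a4610d85d21c8d84942bccc8791b61014fffffe6e540c86a3c90cc9d3379e44882b88623590b85d24715c3fffffcdc28110b4782e09b46d7404d9e801740dc24195a42a1743fffff90a4602118ee42017084e4810946a23c1586953e0d807eaffffff3649fe41f1d4d3a7c10749923515641b1a48302e11c0ab1)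
  (L
  0xfffffe801490b246a1ce90d2941545241d0a58609608d329391a7fffffca4039148c9f3dba387f648cfe2911f9d213c422e6212fdffffff9fb12228e93a51b1e4a8262945cbd28a0e45191eca3e5e97fffff3f2242513270a2242969cd72860e45162f8a1e439478be3fffffe5081c0a164d9f65203d12347d647cf9c8f1dc914307978ffffffcfa28f9414992b31985031d49fe5d13f0702808ec5072e8bfffff9f2d1e27d9305e23789f24093d07027f1764f7208a0c5d9ffffff3e423a4ed25c9d23793ccb92789624ef29c9d65c93c8b95fffffe7b346c9ce4b13a0b826f0de4e52c09c6531384b82701709fffffc9b4371374953c5a2e7bd474df8839da1133db23879c465ffffff93586d26c9287a846ceea8a1bd9063af2247a1468ef08abffffff2688d64d424cf308c9e3d1837420674443c9aa5a9e15177fffffe4cc1a499e479df9163bba2a6cc3fce3c859340b43b7a28ffffffceca8993108b25f8ca4cb2cc990371318a92610ce4ca2a57fffff9d6d1225e9144be2c89643292ec6d25c9504b719896a5427fffff3a9a224ac22494e3212c4b125714e4f02e49545392c0675)))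
  (N 224 (N 208 (L
  0xfffffe5701f8de88317c0e044ea805fc388ae64a225d3f44aa7cffffffcadc3e9bc105442a7a60638cc987797d0e143fa7887d4edffffff95b07c3762085fe3890de9d18d4ed2f71c08694e50ce9c3ffffff2b40f26e640d0c29ba16d362f41be56b24cbd46fa049267fffffe8574d4ccc79159cbb2b00f25de378aca49158c7a2ed1bc9fffffcabc3c1b890242aa688534cd04494a0f92f40a24c829375ffffffa13d322de1b45561e0aba619c990c2ac95a5cc370ab63daffffff426a626dc404aa861154078423260710424b8c6d954c7a4fffffe8264a4da8801ca90c422a6054f31ca983c16c8d92da1b25fffffd07a979738dc2a515a715424a8c3c1538c82dd1b4549244ffffff9508753651fe8394b906a9696b0d82a291e5ae36104894bffffff418a5869b3e0a743a9500be2d01ae53f238a7a3b9690d75fffffe5381d0d8c7f20bd2b416a548104990049220852940b9acffffffd03e941af0fd29a0e855c32900c929cd90d2cb1aa5371dd7fffffa06d272c21a6555324a5c3a1c010829995458e350a623b27fffff406a4c6b83f100a929c110829698052a1d0af46915f0d22)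
  (L
  0xfffffe5ec220e988817c4d045b2865ef338c6e76a5ad594acab0ffffffcbc8429d090f4a7aae945558bce4997a4cd2f599a8ce515ffffffa4fd5532c1e05e32e8bb0429784922ef9985dd218bb66627fffff2eb10873e439276aa24d5534902a08e6525198a2a0a0cb7fffffe92d548b9e639728842ea9aa5d128cda0801734ca2e990ebfffffd256a89ce10d2e41a85c2210d7c7ea4514f2e39925c52193fffffa46d502de9945c028cd867e96e4d92db1085bb31cb7e4817fffff47529272c430da48024354f2d81085b8368b666416d4c83fffffe5a8204e3885a4154e47ea9a5ab23cb5a6316bcc6474292ffffffd1eea61a1cf62ce1025a62f4b46471684c52cf9065a53157fffff96688038c2148f152d1daa523594646528a8e552502c623ffffff471a9070e424b28401750dc36d2028c2510b2e619664835fffffe8dd51cb26601724db2c5100591280d687e163cc22c69049fffffd1a2a31614c236f202588280b026915f8802c1980587230bfffffa325453832108bb510d6c7e15e0802c01a657b304afa609ffffff2ba0fe6fa41d15ea197d8e13021c6577255152a1229d417))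
  (N 240 (L
  0xfffffea015a0cb26f19509832e15c65b268cd479195caf3361e4bfffffcca64b9f111d3289ca648254c9e709934cf33e1ea64b39d3fffffa789663dca3864627cd007aa6c15f455284643254c8e770ffffff31e12c7a946cc664a18e8e931c1c0636338d5c7d98f4ea5fffffe9bc584f488d1ac0fb31893699a5751309f98b8943191d83fffffd384b11e691931492664239d0c49ba551573159d662d2557fffff9f7d203c8a3063f398c4c49a171364a52ac6283a8c7c76a7fffff30e9ca78645cc3e4a98e4ed4592868724e8c364f9860930fffffe616248cf07a2741644faace8584d5280aaa77d664eeacaffffffcffc919e011630991e6413ad0749724294e30a9ce64a3bd7fffffa735643bda2a6403a8c2047a0d92d48129a612398c4a4a27fffff30f1d2770450ca0779888944502808884f4c1a4d98288f0fffffe608238d527d2715634e0ac48324b11f0a626ed614dcac0ffffffcc00459d991343a27460733cc064a9814d14d6abe9a3579ffffff97e08a3ae2245ff3391149e97ec942fe9a099757531aae3ffffff2f9112754445148a017dcd12fa99e64e3bd302ada5dd5a7)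
  (L
  0xfffffea385b8daa641b4cd9463a886d1370d9c519ca10c3972185fffffcd90509b2cc6525ae4a455c4e40859b34b4391216a365b9ffffff9b10a0363988a3f5c1476b7a8896c47028ea2f5b9030853ffffff514ada6bd30cd74501b08da48929e6bf36ce18849b04a25fffffea1d5b0d7260a4614f35b9a46b5350d64501c09083842105fffffcf048b1fe9233589d86ab27d0d49ca5b1593579da6ad3ed3fffff9a9c9e3551c89be5853aab028696b5092d49c658d3b0b13ffffff34f93a7ed489368afa1b5393511ee6a427d0e09d1a98f37fffffea155acd38629a78a134893a69a3d8d304f1a58a234a1ec9fffffcd164e1f9521456284970564d1c4f9a84f945828668f3c5ffffffa83d6a3441ae68a2acd024e1a189e34c9f06842b0d267c27fffff3c9a307dc480cf44d99fcee44027898256ccfa7799f8f55fffffe676268cf27427cd654f4acca0c5a5408b427e1674f52c8ffffffcce04c9f491f44127899c574ce67899d49b44327a6a53e5ffffffa81d69333998662264cdc5219acf0334934665294cda782ffffff32f1307cc479310ada26d3f3309366723cd13ca01a40f77))))))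
  Tr.N Tr.L
noncomputable def t1 : Tr := beta% (fun (N : Nat → Tr → Tr → Tr) (L : Nat → Tr) => (N 384 (N 320 (N 288 (N 272
  (L
  0xfffffe74a2c0e9a701d450657830674f410f5a8dade5915b6b20ffffffce80571d0cdf5b0b1eb53638e8a5a9d1d033a4a06afe611ffffff9cf0ad39f9bab4b63567ec621413258430cafc611056813ffffff59cb1673936ce76601cc0ad39b986808494e6a809cccaf4fffffeb10618e5a6c9cacc8405a4a7242b4e4e651ca500397a007fffffce34559c74d8596b14b23624e3e5a1c84ff3919feb0e619ffffff9c58aa38c9acb19621626c3a0712757c308b076190327f3ffffff580b0a70f354e14551c50c73889928484c0e1a7e9c4cac5fffffeaf5610e0e692129303829826fe2a8e02611c0cfc3849f87fffffcdf0549becd1572b06758444ed4899bf4b756eb04ad5605ffffff9bc8a837a9a075044158ec01d811237b96cabf5fd56ebf3ffffff37714e6f133d552be9db1133e023a75644553ebe2a5d7b7fffffe6ea298dda671d8912545af47ab46ce9c882a057953caf0ffffffcdc8521b9ccd538aeea675d8e8c879ba4b53a421ea245b1ffffff9b80a3371996a615d54b2ba28c96e4982a4a265b1054873ffffff529ae66dd324dbe699b58a34602886db354e68869b64a54)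
  (L
  0xfffffe7e03a8fba7a9f60bc3f0a38aa05f172cc99f6d1d3ef240bfffffcfa05d9f4cf35522f8bb8654faa8f1f5cbc5552fa7f3489ffffff9f28ba3e69e2b9c64d58abf9f3cbc3ea23eaca600fd490bffffff3e49727c53bcf8e8a1ef0b73e1a227c1414fb4901efd164fffffe9fe59cf74771ee0bf3f1240bd265d5bcc11ed4b73dda383fffffcf685c1ea8ed3d396c7b245cf5c881eb1043fc2467b04617fffffa729633d29d87fc48cf465e2ed9955602fe7a02d8f4c8d0ffffff4ebac079b3acf2e5a9e7d1653a2eeb6863cf328c9e74b75fffffe7943d4f24751e55153c716aa685d96b0c71e41183d7a369fffffcf188a1e1ce93c516e7b146d5d4c1aa417a3c497e7842d43fffff9e0cfb3c09ce77d2d0f3c8ca9397259a31477f458f7c8eaffffff4f8aca77c398f2c8c1dd8b45232e2b28624ef48a9de4b64fffffe78d45cee2729f191d3ba16cacc60155cbe9dccbc3b71681fffffcec8599d9ce354a2f476d414ed25b9dad075e7b2ebc1659ffffff9d68b23ae9c4763411564be9d7cb63b0a0cbb365574aca3ffffff3a91627553855a4c01d65073aba0a7c247572ac9ae25927))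
  (N 304 (L
  0xfffffec4169d17ca2212d0842219084942508e64a4414f48729e9fffffd07863a4b95244827699057107e65a10529421a4888f4f5ffffffaa19795262e48383190c89ba4214e41d9ce90653982cd02ffffff61cb4ca485c50be9b20d0c648029a8373991fca6b0119f4fffffe83031542cb5b0c5a5615b488fa53106672308da3610b44ffffffd574bf2901704171889684d17e0cd26a15e6083408f452d7fffffb06da151e2de9654cd058622fa19943da70c0667d1dca527fffff413990a345b981ed0300d9f42025e82332d040622094c61fffffe81e30d454b6affd9e5fdb3abe0661678c5afe59c5fbb36ffffffd0346123494656db02b726415f4c220750a493264aee60dffffffa030c150f2d8bed6697c6cca03d2440898881532d02666bffffff5eeb3091653d00860a0290c404a1a80730d178a22311445fffffe8003011bca3a6915e43c27080331101c9321092f43ba74ffffffcffe739fecfb3fea347f52fd504bcade9913fca367f748d3fffff9facbe3f71f2bd665d512bc9fc1213f917ea8e5e8fe88fbffffff3f197a7e63dd5c4c12df9913f417e7ef4895ccc19fa51e7)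
  (L
  0xfffffe8b850d5a0c02294e144e1a08a34f514272a27cf14922a09fffffd84cd1ab097f4b92b289a3c51327626615d44b1a09745647fffffa9097055c2fc95a561252a831c5b049c2a69635611286807fffff446a74aac5f510867a22ce24449ca8a250110e79a2392f5fffffea6c5d9544be220cf34d92be98456d1027aa1f8cf4db2be3fffffd8d6d7aa617b448a5e9a65791249a3051a04d5abc87c33c3fffffa2313d5492f487538d0dc6721cce945a2868713e50ec9227fffff5282e4a845e533caea1b0f94b72b286b3ed0d06726815d1fffffec656b94f4bc26395c43ca4887a4a97d4cca6555c43319c1fffffd85cd229c97743019a8654b92a4aba18ceb4a82aebf46697fffffaa9d7c5352ec85e4b50b466a5215642e9d49465597c8cca7fffff42b198a085a587cd3316dad4a12aa8593a18a6d63145ab7fffffebfc6754c4baa150cb4b4a56c126811269dafb99a49e2a8bfffffd5b0c0a969744b225485232d810cfa6495c5f333293654d3fffffa138ca48e2a0b8c64957abf2c2986428a1c92749d590c03ffffff426192a545cd83cd0b12daa62234eb04615892d4b11da87)))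
  (N 352 (N 336 (L
  0xfffffe91a36923a9925e15a49427c91f5252426ea48d46492a80ffffffd9fadfa45d2548c9f890c36522a6da44cfd488a6090f4c13fffffae19915983149043612acaba42ce7484a5c9074b9980dc2ffffff679b7cb2a62529aab23f0d84819cc9014b51fe96b1e1b04fffffe8f635d420b5339dbd66fb788f93911f696333dbb666b74ffffffd762ca2c69884781ac9675511e6a0b1f1b165d3708f54ad7fffffb315b958b30e96054d1d86b25795864a366c746c11de9527fffff4759b2b0c619972dc31d9b04739ba91e5411c86b23a4d81fffffe8e2355604c2b2c5b7656b6ca565cd910d9326db564cb68ffffffd1b86a237d245e232ca7f5e11c27f28816c4992a4a8c5e9ffffffa340d3469a4e8da5052b8ac23554546b9ac9225411b2a1bffffff4641a4af6611900d8b235b34659ac8d451919a6ea33cdf7fffffec856c917e9822e8d24632008c335518280a2f525462a4abfffffd172a02ba1834571a28b738116a9d22cce94589ee8d85197fffffb159ac5703048ad3dd30cada2acee4d72be8a8345314ad8ffffff52e2e8ad66051b6a325e95a63db628f252d2fead2298d10)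
  (L
  0xfffffe9d64653b6b12781664ea1f4d5171da8ae32749644dc1c81fffffda5ce22f61974da9f29b34f135ea126c4ee4d61c69b74f07fffffad198c5e132c9a549134e9da6a52b5f93349aa4ed3447187fffff66b376bbc65533e9ca674f34cca7e99b3b132c712685391fffffeb2062174cca263d384c8a5e9934cd814cfa651384c61c41fffffd6b8c72e79934c49e29875093067aa6153c4c01c298b5087fffffb435c05c53249795412f6a0b2f1b84beaa897e5052ec7087fffff59b314b826452e69fa5c4f74b69f696f4e52d47025d53f1fffffeca16d16dcc8256d3e4aea8cc926cd2bea525893e4ac1c01fffffd9c8de2d918f4a71be9575392aa75a54d374a8a6ec826c57fffffae89935ad31c94c5352886fa52cea4a4a6c9474d991cd9a7fffff49f1bca025a19f4df34ddc54a09d09434d5a4ee23495c37fffffecae6d9698c6a4e8dd4b329697c56997cdc31f9b149ea68bfffffd79acb2d118c4b0a949343752729f31c9b06483669374cd3fffffa4b0dc497a5ea9d5ed754ca24c5025182dc93351d560bebffffff4951b6b3a62d994dcb46dc25162dad006fda0ee0b415c07))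
  (N 368 (L
  0xfffffea434f948295a8f8fe5322eadaa73d790cb3769d358f310bfffffdbceea28f52a52fae8a3a3f9b3ce729f5786e63a4b1461d3fffffa8e50051aa52dd974db92e928c552519a04a2e3f946e7f8ffffff5141faa2b4a1948da36f5d168137ea2d545b66e832d1b77fffffea1c3f143e933695cf6ccb9ca2151d4467f289d02512a06ffffffd4287c285d2c66d376d5671d432b5286cfa67437ad91735ffffffa838f6508a98c2868da90e3284cfa50c2d6c32695b12e63ffffff5031e4a094d5ae4e4b4d5c4505ad0a0d3d1a70e2b605cb7fffffea003c1406aab591c862cb58a053d1414b4b171ad6bcb94ffffffd3fe8e27ed664feac49f43a18bcd6b4f1c54fc9e89f75853fffffa78cee4fd2ce9e15813d07a34a9c462a3589de3a13cab18ffffff4f822a9ee5913e47a27b1616b5b92d5f7213ceb12770e80fffffe9cc3993deb2a744e84e7ac6c3a6999e8df274d604f59e8ffffffd3968d2725614e21c89ce591868d2b3b9bd4e39f49e45997fffffa70ceb4ed2c09fc59d3807230b1a46713789e65953b27d27fffff4de9d89c858d37e7d27b565669376c2468d3747227d9671)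
  (L
  0xfffffeaf260d5a2a02b4d1156320cacf5f559a8a2b2d1e564a649fffffd9e0deab0d3f5c0322ac44795828d2ed19555f20cb846447fffffaaed2b55ca7cb706415789937f5d65a1318b7764156c8307fffff55aaf4aad4f555082aacd12557a28ace6015568faac5525fffffeaa64d95469e2a951f5ea32eb9864d542902a79055ed32e3fffffda44e12a653b54e2a4bc6659534bab781d35e5b2ca964143fffffaad17d549a74a9544d514822a4517576306a8f48951aa3a7fffff543a5ca854e5774caaa21225be322a8348d500822ef9951fffffecb66dd4f69c2ea19453f28ea7c5bdb40e72ebd9453c2081fffffdab8e3a9cd37538206a775c96ccc7a9d5195b131edae73d7fffffa9b53c535a6ca6e5c54cc81ad598e534a30b54639b34e727fffff6e23a2a634d14c0812995706ef3a6a9b5edb4ce7ad398d5fffffea5d5054b699a9796f52c204dce749758ca3671ce5a03189fffffd4a480a955316f73a8d12701914d9295d486f9baad1c709ffffffa94539526a5ca4a3fd4ecbbacc98a527a2cb2e629bc4e9affffff6bb392a494b54debb2910ff593312a47455648c4b729d24))))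
  (N 448 (N 416 (N 400 (L
  0xfffffec006796deac2dc57e5b9a4ee1e7616eac3add97e5b62201fffffda9ce32d95575b021eb6b6296d28cad9d775b1aeee1675d7fffffad755b5adaacb5e6256a487ad65185abaecb555d9c34ec27fffff71c3b4b4d551694872d45885c8324e4476dc1cebad3d755fffffeb4757968aa9ad218759f21cb435f9bfceb3871d85a0ae89fffffd67086aced517293b8c6e6bd67a942f799872bbbad146a9ffffffacdd59598a9cb2c42d6d4c7acd516599ae4b2f5c9c8cedaffffff6b4390b2b5356bec72c890b594a2ab275c564ab8b821d64fffffeb21571636a5ac610a5a831ab1d605c18ebb8f9db58fae0bfffffdc96ee2c5d4a5a4b18b124296e8c83881d87003acb155bd3fffffac450c586a92e3d76dc04eb2c250e585a64b0642961e858ffffff580212b035218d0d738c5da582a62c4269dc4eecb2999e7fffffeaf44215eea2b841d770cbb0af94295f693abf50e57fa1effffffd5e6c02ba54357220eaf14415dabd2bad17573a42aef49d7fffffb509c5570a84ae3485734c9ab7d1c5e832eadc41d740c98ffffff56ca66ad75055b493ae3992705baeb1c621726c92b51070)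
  (L
  0xfffffee6e781bb8e9b0392960cb34c154ed8269a30452b60ba5cbfffffdc28ebb749d2606332c024a5816ae302533603a54c054b53fffffb00590651368bfe4a1838d0b9c9e17273b8d9673594ec2affffff5fea68dc2745898d52fe9287353c0c6c6bdd0cf1b951dc4fffffee8d791b70e83651cd741bc6e58775cc8efafe12866c3763fffffd9569c32c9b765530ae50771952d0b9e9e266e374bf64a03fffffb819d66d439ebec499830d02fcd5e5f8a56bef4d17ea9baffffff73cbc4da273981acfaf89265f5a70be94a97ce99af95364fffffebdc4959fcdfb9c5e1734bc0bdf62d7c294398ddf730bbcffffffd8c4d6af655f5eba44bd55f17a2c12f4d1c5e7226bdb5f07fffffaf31535e1abcbc551d78ebdaf25706d639ebca5ed7808987fffff61b34abbd575776bcaee51f5daafebb7469764892efd791fffffebb052d74eae2ea5785d5aa4bad5d1ba0e92eb9785d22241fffffd746ab2e7d5b5cea3cb9b60972e902e657c5ca222ba16087fffffb139aa5c5ab4b8d4c971ec0b909db5c8b1ab926057108887fffff5c3a9cb83565702bfadfd215bda46b7d5e56f0882e157f1))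
  (N 432 (L
  0xfffffedb073dc08eb325db363ba92c7354d8e09f31d54a63ca9a4d166a18d49dfffffffffffec6f62d8dacefffffffffffffffffdd950cdb19138fffffec69617fffffb19da1fffffffffffffffffbffffff631b2ed2c7118c2d231693569d38ac5f59d8bab437e9d54fffffec57509a7ce2b529c662c2d0c55599a50e23149356843823fffffdde2f8b609cb75c3d4df6755dc6f83b75ef685380c504d43fffffb13d92687380c4d67589498bb49ed71a3b4d8672da2ac5a7fffff76dbdcdf8755d28f2b611cb7143b2ecc7b189098b4c1c41fffffed194eda3ce138e9da68c316d17675cd8f034c9c36232621fffffd880983219b27403c4ed17b5886c2b11531765bd8ec97adffffffb0e12d6ba392c3f4d587ad2b3d9be61dac8d46719d6af53ffffff61bb2acd46ed8609630f1a667637ac3558d866b536e9d05fffffec2f4ddab4e3b181ad615258ce06f185ab13581c87543d09fffffd84e9fb3a9bd614ad4d6272184ab0b341bb611258c9c6d47fffffbacde96c939adb6741d4ef43a6de774cbccc9e6d18409607fffff60d254de875183e98b0759e73e3c4c666b9d1ef2b8c9da7)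
  (L
  0xfffffed0c569a1ed53719d1689ae6f167d1a22db342dab6822a21fffffd9f8a7b3fd9879c3ecf9b7f9a02a8b40d6d7c5bfaf7f7f1ffffffb3c94d6b3390cfb5559f2deb3d56467bb4cd5471dedefdbffffff678afeceb68d9cca633e1be677ac6ced6959d2b5b8b9d95fffffece555da98e33501c566f298ce35899c2d235b9c97ab3f29fffffd9aeaeb355a566dad6d707259a2d1b34d61667298cd96707fffffbd8dfa6c5398e2a765eaafcbd1df87483cacdd66d998a607fffff662294e4c771996a8b325b7663b68f327d9d3cf3b6f9d17fffffef1c7d1c80edb2e149661b62cbf55197aad32ed4b660a9cbfffffd96ebc32cd9b658290cc86e5bd4ea3c99f56c7398cb55b57fffffb2bd5471b3b4d20709958a43441c078c3e8ee67c1be0ea27fffff79ebeee2c765b18e63ba1f07823e6df4755934a43275a31fffffeca0561946cf32956d6f63a8f347d998cdcb27da264c2901fffffde5efb3889d864b360c8c51592aa5324d58648aa6c8f5593fffffb21144643b4ef1f7d5e26fa322548645ae6f017cddf2f93ffffff6ea3a4e1275d902a2b309b863ea96c7a5058feaa320d572)))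
  (N 480 (N 464 (L
  0xfffffefd5809b72ce36dda275d3d4db5705f18feb6c96d6ddb4a3fffffdb62d836a59a6d22d8de474db5acb36ad706d3aeadaf5dd7fffffbca1f56d1b32dd7749b30b63685786cfaded9d5d1b36bb27fffff7e1c00d93689b2ace3a49e57ad3f2fc8805b2ecf36416b0fffffeee17bdb16dd3635b5752bceef47c5d58f4363db76c42d41fffffdea6fc360dab745bc6d856a5ef4fdbd99fa6c3b54d805a43fffffbb05e66bdb86eea7c1afae0bb1de975f3d4d7f709af0b407fffff6bbae2d75699ae6b4b5c5bb6b6b90d6a595adede3a11e32fffffed69625acedf3595686b1b46d5e595ad8e4b585a47763e07fffffdababbb56da46acb88d575adaa6e33541606aab7ce96794bfffffb53d8f6a6b78d4b6b1a92b53511606a938ed47699d44f39ffffff6a1b04d3f6b1a82de34d95569eaced3b6b5a72b4b979dd4fffffed2f57da5ad6b561c769a2d2d296b1a56b3349955698b523fffffdf8b00b5e9ca7b93f6e5a775f6b003a21e3699b50d245543fffffb48d7b68fb50d216d9a34a8b701d17d13fcd7e729a3ab9a7fffff7d5bfee5c775d40f3b5f1ca7c73fadb4741a0ca8b425ac1)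
  (L
  0xfffffee6f681f48ff3b59ed734330e6d6a1cd6cebee2007f04049fffffddf8f93e49fd7e7402fba801ccace399ddd731330f087cc7fffffbc31f37c03f8fae7fdfb9013fa20379f3eef0f7c9cc0cc07fffff800c0ae5d705ebefcb96dc37333bee59671cacc5b97dc51fffffee4a61dc9adcb94d8b728b36e4f679ce8f0bd61f972ab3affffffddb0f6b905b871e30ce4975dc8ac6b90d9271fb10e476297fffffb8e58d71bb6ce3b6a1c60c2b8d5aa76a3daf767edc66d0a7fffff7f8c08e2d6d5c56dd3dd1fb7673d8e296a5c4cc2b8bdbd1fffffee76785c46d9b895d670c308e2161dc3ec838758c70db1c9fffffdc2acfb84db1708b08e4876dc1ac4382981707b1ae1763cbfffffb81d9a702b60e24761c06c337fd8c6fe2fce0161dc12c497fffff7f1c06df96a5d62f437ddab6fab6af027cdbe4b9b7edad1fffffede65bdbd2d0b7bd736f6b68f247d5bd6dbbaa9e86f8b6cffffffdf50ff3775a06ec2dcde573dbc2bdb77d756edae0de35c97fffffb755b16e9b3edd6739b90b73745946e7ae8dcd5bdb96b8a7fffff6e2aeadc3675b8ee036f16d7d03fcdc1709d78f536fdb94))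
  (N 496 (L
  0xfffffeeee7a1ee0fdbbadca774b6aee57bddc4d5bb9db6776b905fffffddc0e63d91fa76fbd2f117cddb8d5bb91f078a3e8fc0800ffffffbb69a97f2406f2b7ca01102bfda047c13f8fb07fde5afabffffff76cbb6f1a7d1daef03b41a776abb4ed36a9ed4fd3d09f74fffffef847f1e0cf9bd31f87b43f4ecd6a5d9eecbb29a77ca3fa3fffffdf2cfebbe9f27f6406f457ddfb5013eb1ff7c3bf8ec869c3fffffbb15e775bbc6eb96add76e83afdca761bd2ebd745d68d307fffff759344fbe801dbcf7be65fd7613d4ec6729f3cff3db1fa7fffffeeef7c1d5ef2bac1d5753344ead731de4f8baadd4754b489fffffdd88f53d71f9750b82ea4731d3af33a69a274fb72ea3718bfffffbb01ca7e3402f907f5decf8ba61a274e3cef3a7d9ea0fc1ffffff7be3f6eae7a1d2ad4ba4dcd748b74f487e1d1cd0ba5dc71fffffee8c671fad013fea047c4bf9006815dfef93d01f77ce3fcffffffdec2fcbad9ea745396e82671d12e1beda00743b3ae857253fffffb9e1997913eae8169dcfef0b9ed9b73eb42f4a7e1fdd01bffffff73bbb0f307d9ce0cc39f9e273abb8e73679fa100bec9ff5)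
  (N 512 (L
  0xfffffefc2735f7ef4bef5fa7ddbbefb778df68e1bee5e07e0bde5fffffdf54e0c00a057d7bbcfea80df5af5bf62027d8bdcfb3785ffffffbea5d37d2bc0fa77d1f34dfbe8dc27d0ba2f9f7a5f3af227fffff7cbbd6f9377df22f33e61e97c6ba0f8f705f14dfbe55ec1fffffef857b1f02ef402a057c43c8f837b9fe9023e19eb7bf37e1fffffdefaf2bdc5f07b9b86f75765ef2fd3dedcb7bbbb4f6e6f83fffffbd89ba7b2bdefbc801ed2f63d9dcb7bc3f6f6b7b5edaf4bffffff7b03c6f5d79debceebd51ba7e5402f5b735eb2ee3d5dbc4fffffef5272de9ef8bd35ec7e6402f49795e8cdd3d2de27a8bcc5fffffde78dabfca047ef404f447ade7eef3f9a037a0bc8f437b5ffffffbcb9b3798bc2f396fde6efabccdb979ab68f3b79a01d02bffffff794b9cf23789e3cd93cd9f6793b6ef25751e42f8bcb1ee5fffffef1d6e1e36f6be99fe789364f196d9e2ee03c55ef7ff4089fffffde1aef3c1dec785be2f107bde06eabc15b5780364f0977c7fffffbbf5df77dbd6f2a7b9ff1023bf9e480240af0e779df0d907fffff778356f4e7e1e14f9bbdde6779bd0ef5731e40fabf4a017)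
  (L
  0x7fffff8003bb0037fe016fe4025ee802be500779201b01c03df67fffffeff0765fe6fbbfede47fcbe4ff57f1feef73ff6027ffbe8ffffffdfc4eabf95ee7f6bd6feb7fdfcefbbfa5de80640afef789ffffffbf51d07ebbc8fdf7ddfbaef3f65ff7edbd6ffc811fc2f03ffffff7e2386fc7799f9eefbf35f87e4b9afcb7e5fa2f0bf4df17)))))))
  Tr.N Tr.L
noncomputable def tree : Tr := (.N 256 t0 t1)

noncomputable def wtree : WT := beta% (fun (N : Nat → WT → WT → WT) (L : Nat → List Nat → WT) (c : Nat → List
  Nat → List Nat) (n : List Nat) => (N 43 (N 21 (N 10 (N 5 (N 2 (N 1 (L 0 (c 6 (c 0 (c 6 n)))) (L 1 (c 6 (c 1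
  (c 6 n))))) (N 3 (L 3 (c 6 (c 3 (c 6 n)))) (N 4 (L 4 (c 6 (c 4 (c 6 n)))) (L 5 (c 6 (c 5 (c 6 n))))))) (N 7
  (N 6 (L 2 (c 7 (c 2 (c 7 n)))) (L 6 (c 7 (c 6 (c 7 n))))) (N 8 (L 2 (c 1 (c 3 (c 1 n)))) (N 9 (L 0 (c 1 (c 7
  (c 1 (c 0 (c 1 (c 7 (c 1 n)))))))) (L 1 (c 0 (c 1 (c 0 (c 1 (c 0 n)))))))))) (N 15 (N 12 (N 11 (L 3 (c 4 (c 3
  (c 4 n)))) (L 3 (c 5 (c 3 (c 5 n))))) (N 13 (L 7 (c 4 (c 7 (c 4 (c 5 (c 7 (c 5 n))))))) (N 14 (L 5 (c 4 (c 7
  (c 4 (c 7 (c 5 (c 7 n))))))) (L 4 (c 5 (c 4 (c 5 (c 4 (c 5 n))))))))) (N 18 (N 16 (L 6 (c 0 (c 6 (c 0 n))))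
  (N 17 (L 6 (c 1 (c 6 (c 1 n)))) (L 0 (c 1 (c 0 (c 1 (c 0 (c 1 n)))))))) (N 19 (L 6 (c 4 (c 6 (c 4 n)))) (N 20
  (L 6 (c 5 (c 6 (c 5 n)))) (L 7 (c 4 (c 7 (c 5 (c 7 (c 5 (c 4 n)))))))))))) (N 32 (N 26 (N 23 (N 22 (L 2 (c 3
  (c 3 n))) (L 1 (c 3 (c 1 (c 3 n))))) (N 24 (L 0 (c 3 (c 0 (c 3 (c 0 (c 3 n)))))) (N 25 (L 0 (c 4 (c 0 (c 4
  n)))) (L 1 (c 4 (c 1 (c 4 n))))))) (N 29 (N 27 (L 5 (c 0 (c 5 (c 0 n)))) (N 28 (L 1 (c 5 (c 1 (c 5 n)))) (L 0
  (c 5 (c 0 (c 5 n)))))) (N 30 (L 5 (c 1 (c 5 (c 1 n)))) (N 31 (L 1 (c 7 (c 1 (c 7 (c 1 (c 7 (c 1 (c 7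
  n)))))))) (L 6 (c 3 (c 6 (c 2 n)))))))) (N 37 (N 34 (N 33 (L 6 (c 2 (c 6 (c 3 n)))) (L 2 (c 4 (c 2 (c 4
  n))))) (N 35 (L 5 (c 3 (c 5 (c 2 n)))) (N 36 (L 2 (c 5 (c 2 (c 5 n)))) (L 3 (c 7 (c 3 (c 7 n))))))) (N 40 (N
  38 (L 8 (c 1 (c 0 (c 1 (c 0 (c 1 (c 0 n))))))) (N 39 (L 8 (c 0 (c 6 (c 0 (c 6 n))))) (L 3 (c 1 (c 2 (c 1
  n)))))) (N 41 (L 2 (c 0 (c 3 (c 0 (c 3 (c 0 n)))))) (N 42 (L 7 (c 1 (c 7 (c 1 (c 2 (c 0 (c 3 (c 7 (c 2 (c 0
  (c 3 (c 3 (c 0 (c 2 (c 7 (c 3 (c 0 (c 2 (c 0 (c 7 (c 0 n))))))))))))))))))))) (L 1 (c 7 (c 1 (c 7 (c 0 (c 7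
  (c 0 (c 3 (c 0 (c 2 (c 7 (c 3 (c 0 (c 2 (c 2 (c 0 (c 3 (c 7 (c 2 (c 0 (c 3 n))))))))))))))))))))))))))) (N 65
  (N 54 (N 48 (N 45 (N 44 (L 7 (c 1 (c 7 (c 1 (c 7 (c 1 (c 7 (c 1 n)))))))) (L 5 (c 2 (c 5 (c 3 n))))) (N 46 (L
  7 (c 5 (c 7 (c 5 (c 4 (c 7 (c 4 n))))))) (N 47 (L 5 (c 7 (c 5 (c 7 (c 4 (c 7 (c 4 n))))))) (L 7 (c 5 (c 7 (c
  4 (c 7 (c 4 (c 5 n)))))))))) (N 51 (N 49 (L 5 (c 7 (c 5 (c 1 (c 7 (c 1 (c 5 (c 7 (c 6 (c 5 (c 1 (c 7 (c 1
  n))))))))))))) (N 50 (L 7 (c 1 (c 0 (c 1 (c 7 (c 1 (c 0 (c 1 n)))))))) (L 4 (c 7 (c 4 (c 5 (c 7 (c 5 (c 7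
  n))))))))) (N 52 (L 4 (c 0 (c 4 (c 0 n)))) (N 53 (L 4 (c 1 (c 4 (c 1 n)))) (L 8 (c 4 (c 0 (c 4 (c 0
  n))))))))) (N 59 (N 56 (N 55 (L 5 (c 7 (c 5 (c 4 (c 7 (c 4 (c 7 n))))))) (L 4 (c 7 (c 4 (c 7 (c 5 (c 7 (c 5
  n)))))))) (N 57 (L 5 (c 4 (c 5 (c 4 (c 5 (c 4 n)))))) (N 58 (L 4 (c 3 (c 4 (c 2 n)))) (L 4 (c 2 (c 4 (c 3
  n))))))) (N 62 (N 60 (L 7 (c 3 (c 7 (c 2 n)))) (N 61 (L 7 (c 2 (c 7 (c 3 n)))) (L 1 (c 2 (c 1 (c 2 n)))))) (N
  63 (L 0 (c 2 (c 0 (c 2 (c 0 (c 2 n)))))) (N 64 (L 4 (c 7 (c 5 (c 7 (c 5 (c 4 (c 7 n))))))) (L 1 (c 7 (c 1 (c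
  0 (c 1 (c 7 (c 1 (c 0 n))))))))))))) (N 76 (N 70 (N 67 (N 66 (L 5 (c 1 (c 7 (c 1 (c 5 (c 6 (c 7 (c 5 (c 1 (c
  7 (c 1 (c 5 (c 7 n))))))))))))) (L 0 (c 3 (c 7 (c 2 (c 0 (c 3 (c 3 (c 0 (c 2 (c 7 (c 3 (c 0 (c 2 (c 0 (c 7 (c
  0 (c 7 (c 1 (c 7 (c 1 (c 2 n)))))))))))))))))))))) (N 68 (L 0 (c 7 (c 1 (c 7 (c 1 (c 2 (c 0 (c 3 (c 7 (c 2 (c
  0 (c 3 (c 3 (c 0 (c 2 (c 7 (c 3 (c 0 (c 2 (c 0 (c 7 n))))))))))))))))))))) (N 69 (L 3 (c 2 (c 2 n))) (L 7 (c
  6 (c 7 (c 6 n))))))) (N 73 (N 71 (L 1 (c 7 (c 0 (c 7 (c 0 (c 3 (c 0 (c 2 (c 7 (c 3 (c 0 (c 2 (c 2 (c 0 (c 3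
  (c 7 (c 2 (c 0 (c 3 (c 1 (c 7 n))))))))))))))))))))) (N 72 (L 0 (c 7 (c 0 (c 7 (c 1 (c 7 (c 1 (c 2 (c 0 (c 3
  (c 7 (c 2 (c 0 (c 3 (c 3 (c 0 (c 2 (c 7 (c 3 (c 0 (c 2 n))))))))))))))))))))) (L 7 (c 1 (c 2 (c 0 (c 3 (c 7
  (c 2 (c 0 (c 3 (c 3 (c 0 (c 2 (c 7 (c 3 (c 0 (c 2 (c 0 (c 7 (c 0 (c 7 (c 1 n))))))))))))))))))))))) (N 74 (L
  3 (c 0 (c 2 (c 0 (c 2 (c 0 n)))))) (N 75 (L 4 (c 5 (c 7 (c 5 (c 7 (c 4 (c 7 n))))))) (L 1 (c 0 (c 1 (c 7 (c 1
  (c 0 (c 1 (c 7 n)))))))))))) (N 81 (N 78 (N 77 (L 7 (c 1 (c 5 (c 7 (c 5 (c 1 (c 7 (c 1 (c 5 (c 6 (c 7 (c 5 (c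
  1 n))))))))))))) (L 7 (c 1 (c 5 (c 6 (c 7 (c 5 (c 1 (c 7 (c 1 (c 5 (c 7 (c 5 (c 1 n)))))))))))))) (N 79 (L 7
  (c 0 (c 3 (c 0 (c 2 (c 7 (c 3 (c 0 (c 2 (c 2 (c 0 (c 3 (c 7 (c 2 (c 0 (c 3 (c 1 (c 7 (c 1 (c 7 (c 0
  n))))))))))))))))))))) (N 80 (L 8 (c 5 (c 0 (c 5 (c 0 n))))) (L 7 (c 2 (c 0 (c 3 (c 1 (c 7 (c 1 (c 7 (c 0 (c
  7 (c 0 (c 3 (c 0 (c 2 (c 7 (c 3 (c 0 (c 2 (c 2 (c 0 (c 3 n)))))))))))))))))))))))) (N 84 (N 82 (L 3 (c 7 (c 3
  (c 0 (c 2 (c 2 (c 0 (c 3 (c 7 (c 2 (c 0 (c 3 (c 1 (c 7 (c 1 (c 7 (c 0 (c 7 (c 0 (c 3 (c 0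
  n))))))))))))))))))))) (N 83 (L 2 (c 3 (c 0 (c 2 (c 7 (c 3 (c 0 (c 2 (c 0 (c 7 (c 0 (c 7 (c 1 (c 7 (c 1 (c 2
  (c 0 (c 3 (c 7 (c 2 (c 0 n))))))))))))))))))))) (L 7 (c 0 (c 7 (c 0 (c 3 (c 0 (c 2 (c 7 (c 3 (c 0 (c 2 (c 2
  (c 0 (c 3 (c 7 (c 2 (c 0 (c 3 (c 1 (c 7 (c 1 n))))))))))))))))))))))) (N 85 (L 5 (c 1 (c 7 (c 1 (c 5 (c 7 (c
  5 (c 1 (c 7 (c 1 (c 5 (c 6 (c 7 n))))))))))))) (N 86 (L 7 (c 0 (c 7 (c 1 (c 7 (c 1 (c 2 (c 0 (c 3 (c 7 (c 2
  (c 0 (c 3 (c 3 (c 0 (c 2 (c 7 (c 3 (c 0 (c 2 (c 0 n))))))))))))))))))))) (L 0 (c 3 (c 0 (c 2 (c 7 (c 3 (c 0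
  (c 2 (c 2 (c 0 (c 3 (c 7 (c 2 (c 0 (c 3 (c 1 (c 7 (c 1 (c 7 (c 0 (c 7 n))))))))))))))))))))))))))))) WT.N
  WT.L (@List.cons Nat) (@List.nil Nat)

noncomputable def stree : ST := beta% (fun (N : Nat → ST → ST → ST) (L : Nat → List Nat → List Nat → ST) (c :
  Nat → List Nat → List Nat) (n : List Nat) => (N 2 (N 1 (L 0 n n) (L 1 n n)) (N 3 (L 2 n n) (N 4 (L 4 n n) (L
  5 n n))))) ST.N ST.L (@List.cons Nat) (@List.nil Nat)

noncomputable def C : Cert where
  data := tree
  lm := 15
  rb := 211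
  fb := 23
  mask := 8388607
  B := 1024
  k := 8
  N := 517
  inv := fun x => bif Nat.beq x 0 then 0 else bif Nat.beq x 1 then 1 else bif Nat.beq x 2 then 3 else bif Nat.beq x 3 then 2 else bif Nat.beq x 4 then 4 else bif Nat.beq x 5 then 5 else bif Nat.beq x 6 then 6 else bif Nat.beq x 7 then 7 else x
  words := wtree
  subs := stree

def rels : List (List Nat) := beta% (fun (c : Nat → List Nat → List Nat) (n : List Nat) => ([(c 2 (c 2 (c 2
  n))), (c 1 (c 2 (c 1 (c 2 n)))), (c 4 (c 0 (c 4 (c 0 n)))), (c 4 (c 1 (c 4 (c 1 n)))), (c 4 (c 3 (c 4 (c 2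
  n)))), (c 5 (c 0 (c 5 (c 0 n)))), (c 5 (c 1 (c 5 (c 1 n)))), (c 5 (c 3 (c 5 (c 2 n)))), (c 6 (c 0 (c 6 (c 0
  n)))), (c 6 (c 1 (c 6 (c 1 n)))), (c 6 (c 3 (c 6 (c 2 n)))), (c 6 (c 4 (c 6 (c 4 n)))), (c 6 (c 5 (c 6 (c 5
  n)))), (c 6 (c 7 (c 6 (c 7 n)))), (c 7 (c 3 (c 7 (c 2 n)))), (c 1 (c 0 (c 1 (c 0 (c 1 (c 0 n)))))), (c 0 (c 2
  (c 0 (c 2 (c 0 (c 2 n)))))), (c 4 (c 5 (c 4 (c 5 (c 4 (c 5 n)))))), (c 4 (c 7 (c 4 (c 7 (c 5 (c 7 (c 5
  n))))))), (c 0 (c 3 (c 0 (c 2 (c 0 (c 3 (c 0 (c 2 n)))))))), (c 7 (c 1 (c 0 (c 1 (c 7 (c 1 (c 0 (c 1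
  n)))))))), (c 7 (c 1 (c 7 (c 1 (c 7 (c 1 (c 7 (c 1 n)))))))), (c 7 (c 5 (c 7 (c 5 (c 7 (c 5 (c 7 (c 5
  n)))))))), (c 7 (c 5 (c 1 (c 7 (c 1 (c 5 (c 7 (c 5 (c 1 (c 7 (c 1 (c 5 (c 6 n))))))))))))), (c 7 (c 0 (c 7 (c
  0 (c 3 (c 0 (c 2 (c 7 (c 3 (c 0 (c 2 (c 2 (c 0 (c 3 (c 7 (c 2 (c 0 (c 3 (c 1 (c 7 (c 1
  n)))))))))))))))))))))] : List (List Nat))) (@List.cons Nat) (@List.nil Nat)

def subw : List (List Nat) := [[0], [1], [2], [4], [5]]

end Cfsg.Agent.TypeO8Minus.ELbData
end

-- part: TypeO8Minus/ELbChk0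
section
set_option autoImplicit false
set_option maxRecDepth 100000

namespace Cfsg.Agent.TypeO8Minus.ELbChk0

open Cfsg.Agent.SporadicRecognition.CosetCert Cfsg.Agent.TypeO8Minus.ELbData

private theorem alC : Cfsg.Agent.SporadicRecognition.CertFast.al (Nat.succ C.lm) C.data = true := by decide +kernel

theorem c0 : Part C 0 64 62 := Cfsg.Agent.SporadicRecognition.CertFast.part_fast C alC 62 (by decide +kernel : Cfsg.Agent.SporadicRecognition.CertFast.runF C 13 8191 0x149840c004002139800800211315983cc0040021218a0c004001000818c004002001014c004002000818c004002001014c00400216980080020e305980083661c3061800808600105180083261830008008606002001014c3660020008008004323001014c00400216980080020e305988cc3661c30618008086001051884c326183001000800400213981cc0020020000000000000000000000000100080086c6002121814c0040020008008004002121814c0040020008008004002001000800400200100080020e30010008004002001000834600100100080040020008008004002001014c00400200100080020e300108cc3661c3001000844600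1001084c32618316984cc0020e305980083661c3061848c3460010518008326183000818c004002001014c004002000818c004002001014c00400216984cc0020e305988cc3661c3061848c1a6001051884c326183001040c00400213981cc00200200000000000000000000000001000818c004002121814c004002000818c004002121814c004002000818c004002001000800400200104cc0020e30010008004002001048c3460010010008004002000818c004002001014c00400200104cc0020e300108cc3661c3001048c446001001084c3261830008008004002001014c3c608300100080020e305980080041c300100083a600105180080041830008008004002121814c00400200100080020e305988cc3660020010008346001051884c326002001000800400200100040040020010008004002000854c2c6173000818c004002001014c3c608300104cc0020e305980080041c3001048c3a60010518008004183000818c004002121814c00400200104cc0020e305988cc366002001048c346001051884c326002001080c004002001000400400200107cc004002000854c2c617300100080020e305980083661c30a180080860010518008326183001000800400200101cc0021130010008004002001000802600100104cc0020e305980083661c3061848c1a60010518008326183001040c00400200101cc00208300103cc00400200100081260010008008004002001014c004002000818c004002001014c00400200100040860330118008026003001000808a035001009402a005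 11 2047 0x26300000000000000000000000000000000000000000256000000000000000000000000000000000000000000000000000000000000000000000000000000000000000000000000000 0 64 = 63)

theorem c1 : Part C 64 128 63 := Cfsg.Agent.SporadicRecognition.CertFast.part_fast C alC 63 (by decide +kernel : Cfsg.Agent.SporadicRecognition.CertFast.runF C 13 8191 0x103cc004002001000800400100104cc0020e305980080041c3001048c3a6001051800800418300104cc0020e305988cc366002001048c346001051884c32600200107cc00200200108cc2c61c3001048c446001001084c326183001040c586002139800800208300103cc004002001000812600100104cc0020e300108cc3661c317987cc004001001084c2c6183001040c0043a3139800800208300103cc0040020010008126001001000800400105180080041c3001000800400200100080040010010008002002059800800418300100087060020010008004001000800800400200100083c608300100080020e305988cc0040020010008346001051884c0040020010008004001051884c366002001000800400213981cc002002001000800200205988cc326002001000870633313981cc0020020000008000000000000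000000116980080020e300100083661c306180085860010010008326183001000800400200100080020020010008004002001014c5460010008008586002001000800400200080080043a3001000800400216980080020e300108cc3661c30618008446001001084c3261831498008004002139800800211315980080040021218a0c0040010008008446002001014c0040020008008004393001014c00400200100080020020598008004083001048c5c6001051800836618300104cc00437300101cc00200200103cc3a6002001000800400100104cc0020e305980083261c317980080040010518008326083159848c70600200101cc00200200103cc0040020010008004001000818c00400200100083c608300104cc0020e305988cc004002001048c3a6001051884c004002001000800200205988cc1261c3001048c5c6001051884c3261c3001040c34600213981cc002083001018c004373001000812600100104cc0020e305988cc36618317999d0004001051884c126674001040c00433313981cc00208318983cc706343001000812600116984cc0020e300100083661c3061848c5860010010008326183001040c004002001000800200200103cc004002001014c546001000818c0040020010008004002000818c004002001000800400216984cc0020e300108cc3661c3061848c446001001084c326183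 11 2047 0x6ac00000000000000000000000000000000000000000000000000000000000000000000000000000000000000000000000000000000000 64 64 = 64)

theorem c2 : Part C 128 192 64 := Cfsg.Agent.SporadicRecognition.CertFast.part_fast C alC 64 (by decide +kernel : Cfsg.Agent.SporadicRecognition.CertFast.runF C 13 8191 0x1048c706333000854c2c600200080083a6002121814c806003001000800400200100040040020010008004002000854c0041730008008004343121814c806003001000870600200100040040020010008706002000854c00417316980080020e300100083661c3061800858600100100083261830008008004002121814c0041c30008008004002121814c0041830008008004002121814c3c60020008008004002121814c3c600200100080020e300100080040020010008346001001000800400200100080020e300108cc0040020010008346001001084c004002001000800400100100083661830010008004002001000800200200100080040020598008026001001000800200200100083261c3001000870600200100080020020010008004002051800802600100100080020e305980080041c300100083a6001051800800418300100080020e305988cc3660020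010008346001051884c3260020010008004001001084c36618300100080040021398008002113001000800400200108cc004001001000800200200108cc3261c3001000870600213980080021130010008004002001084c004001000818c3a6002121814c8061130010008004001051884c004002001080c3a6002001000400400200107cc3a6002000854c004173000818c004343121814c806113001000800234305988cc004002001080c004343001000400400200107cc004343000854c00417316984cc0020e300100083661c3061848c5860010010008326183000818c004002121814c0041c3000818c004002121814c004183000818c004002121814c3c600200104cc004001051884c004002001000800437300100047a63e30010008004373000854c2c6173000818c004002121814c3c6002001048c00234305988cc0040021e1800870600200100047a63e31d98008706002000854c2c617300104cc0020e30010008004002001048c346001001000800400200104cc0020e300108cc004002001048c346001001084c004002001080c00200200100087a61c3001048c5860010010008326183001040c446002001000800200200103cc004002001000800400100104cc0020e300100083661c3179880c00400100100087a6183001040c0043930010008002002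 11 2047 0 128 64 = 65)

theorem c3 : Part C 192 256 64 := Cfsg.Agent.SporadicRecognition.CertFast.part_fast C alC 64 (by decide +kernel : Cfsg.Agent.SporadicRecognition.CertFast.runF C 13 8191 0x241800800400200100047a63e3000800800400212180083c60830008008004002121814c00400300100080020330518008366002001000870600200100047a63e3061848c00400113981cc0041830008008606002121814c366183000818c3a6002001000832600200100080040010010008004002000818c606343001014c3664230010008004001001084c00418316984cc00234313981cc0041c30008008004002121814c326183000818c606343001000836643300100080023430010008004002000818c3a6002001014c326002001000800234300108cc0041c3001048c0040010010008366002159840c00400213981cc00211300104cc0020020010008326183159840c70600213981cc00211316984cc00200205988cc366002061848c346001051884c32600215983cc826373059884c004001000818c6c6002121814c00400216984cc0020e305988cc366183001048c004001051884c32600200103cc7063f305188cc004001000818c004002121814c004002000818c5c6002001000800400200081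8c0040e30010008004002000818c5c6002001084c004002000818c0040e300108cc004002000818c004002001000800443300104cc0040010010008004002000818c00400212181cc3c64730010008002002001054c004002001048c346001059884c00400200100083a6002001000400400218987cc586002000854c004002000818c0040020010008004113001048c0023430010008004002000818c004002121814c00447300104cc0020e305188cc0040020010008004001001054c0040020010008706343001000400400200107cc0043a3000854c004002000818c0043f31218008004002000818c6c60021218008004002000818c0043f3051814c004002000818c6c6002059814c004002000818c00400212180083c643300104cc0040010518008004183000818c004002139814c8c6002001080c0020022218008366002001048c34600105188cc326002241880c44600200100047a63e300104cc346002000854c2c6002000818c00400212180083c6083001048c00234305980080041c3000818c004002121814c00400200104cc0020e3059884c366002001080c0040012218008326002001080c00439300100047a63e3 11 2047 0 192 64 = 65)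

theorem c4 : Part C 256 320 64 := Cfsg.Agent.SporadicRecognition.CertFast.part_fast C alC 64 (by decide +kernel : Cfsg.Agent.SporadicRecognition.CertFast.runF C 13 8191 0x179848c0040010010008004433159840c3a639300101cc00211306183cc346002001084c00400100104cc002002001084c004113169840c004343139800800211300103cc00433305988cc004001179848c00400100108cc004083061840c3a63a3139800800211300103cc346002051884c00400116984cc00200205980083661c3001048c5860010518008326183000818c6c6002121800800400216984cc00200205980083661c3271848c3460010518a0c326183000818c3460021398008004183000818c6c6002121814c00400200104cc0040010010008326183000818c346333001000800400226984cc0020e305980083661c3001048c0040010518008326183000818c004002121800800400227184cc0020e30598a0c3661c3001048c0040010518008326183001040c0040021218008002002000818c004002121814c004002000818c00433312180080261c3000818c0040020010008004002001048c0023a300100083661c3000818c346333001014c8c6002001000800400113981cc00418300080083a6002001000832600200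08008606343001014c366003001000800234313981cc0041c30008008606343001000836643300080083a6002001014c326002001000800400100100083660020a1800800400213981cc00211300100080020020010008326002179800870600213981cc002113001000800200205988cc3660020010008086001051884c3261c32298008086373059884c00400100100080020e305988cc3661830010008004001051884c326002001000870603305188cc00400100080085c6002001000800400200080080040e3001000800400200080085c6002001084c00400200080080040e300108cc00400200080080040020010008004433000800800400212181cc3c6002001000800400100108cc00400218980080040020008008004002000800800400200100080041130008008004002121814c0040020010008002343001084c0040020010008706002000800800400200080080043f3121800800400200080086c6002121800800400200080080043f3051814c00400200080086c6002059814c004002000800800400212180083c64330008008004002139814c8c600300100080040010598008326002 11 2047 0 256 64 = 65)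

theorem c5 : Part C 320 384 64 := Cfsg.Agent.SporadicRecognition.CertFast.part_fast C alC 64 (by decide +kernel : Cfsg.Agent.SporadicRecognition.CertFast.runF C 13 8191 0x1798008004001001000800400217980083a639300101cc0021130010008346033001084c0040010010008002002001084c0040021e1800800434313980080021130a1800808633301188cc004001179800800400100108cc00400200100083a63a313980080021131798008346033011884c0040011e1800800200205980083661c3001000858600105180083261830a1800800200205980083661c300100080860010518a0c32618300080086c63f3121800800418300100080020e305980083661c31e18008004001051800832618300100080020e30598a0c3661c3001000800400105180083261830010008004002001000800200200080086c600212180080041c30008008004002001000800400200080086063a300100083660020008008606393001014c366002000800858600200100083260020008008446002001014c3260020010008004001051884c004002001048c0044a313981cc002002189840c82634300100080040010008008004002121814c00400200100080024a305988cc004083001048c706001051884c12600200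104cc00400213981cc00218326180083a63430010008966001159840c004002001000800200216983cc00400200108cc366001159840c004002001000800200206183cc004002001084c326001169840c004002001000800200200103cc0040020598008366001061840c004002001000800200200103cc004002051800832600116984cc0020020010008004173159848c3a60010010008004183000818c6c6002001000800400216984cc0020e324988cc2c6002001048c004001001054c326002000800800433300101cc0041c3000818c6c6002121814c004002000800834633300100080040020010008004001001000800400215984cc0020e300100080041c3001048c0040010010008004173000818c004002001000800400200104cc002002001054c366002001048c446001249884c2c6002001040c0043a3001014c002002000818c004002121814c0040020008008346002001014c3c6183000800834633300100083c6002000818c586002001014c0040020010008002343001000800400200104cc0020020010008004433159840c00434300101cc00211316983cc00433300108cc004001 11 2047 0 320 64 = 65)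

theorem c6 : Part C 384 448 62 := Cfsg.Agent.SporadicRecognition.CertFast.part_fast C alC 62 (by decide +kernel : Cfsg.Agent.SporadicRecognition.CertFast.runF C 13 8191 0x18980085c6002051800800400100080086c6002001000800400200087cc00400200100082c600200100080024a3001000800411300107cc70600100100082c618300100080043a3001000800200200103cc3a600200101cc004001000818c004002001014c2c618316984cc002002001000800400200100080024a312188cc806002001048c706001121884c2c6433001040c3463a313981cc00200218980080044a3121814c004001001048c346001001000800400200080080040020010008004002169880c0040e30010004004002061880c00400200100040040020008000000002001000000000000080000040000010000000000001040c0040010518008004113001048c44639300101cc00208300103cc3463430010008126001001018c004001051884c806002001040c3a633313981cc002083d72048c5c7ae4d72084c126001000818c6c60020010008004002000880c00400212180087a6002001040c0024a30598008004113001080c70600105180087a618300104cc00439300101cc00208300103cc3a6002001000812600100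0818c004002121814c00418316984cc00200200100080040021e1848c3460010010008004002001018c0024a3059814c806002001048c706001051814c326433001040c34600213981cc002083d6a04cf5a84a3d6a014c1260011e184cc0020e30010008004002001048c0040010010008004002000818c00400200100080040020a180080040020010008002002229800800400200108cc026001179800800400200100080020022298008004002001084c026001001000800400200100080020020a18008004002059800802600100100080040020010008002002179800800400205180080260011d98008002002001000800417300100083a600100100080041830a1800800200224988cc2c60020010008346001001054c32600200080086c63f3001014c00400300100080020e300100080041c31d98008004001001000800417300100080020e3001054c3660020010008004001249884c2c600200100080043a3001000800200200080086c6002001014c00400300080085860020010008004002001000800200200100080040020a1800800434300101cc002113001000808633300108cc004001 11 2047 0xd4e798000000000000000000000000000000000000000000000000000000000000000000000000000000000000000000000000000000000000000000000000000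 384 64 = 63)

theorem c7 : Part C 448 512 64 := Cfsg.Agent.SporadicRecognition.CertFast.part_fast C alC 64 (by decide +kernel : Cfsg.Agent.SporadicRecognition.CertFast.runF C 13 8191 0x2a980080040020010004004002000818c0044a3001014c004002001000800400100100080040020010008004393001000800200200100086c63f3001014c0260010010008004002001000800400100080085860020010a0c004002271800834600112180080040022a980080043f30010004004002000818c6c6333001014c0040020008008004002001000800443300100080024a300100080041c300100087060010010008004433001000800439300100080020020010008a864a3121814c8c6001000880c60600200100083664331d983cc0040020010004004002169818c004002000854c326173000818c0044a31218a0c3c6002001048c00400100100083c6433149840c5864a3001000800211315983cc6c6002121814c00400100100080040020010008004001000880c446002289948c3264330010008346001001014c004002149848c0043430010004004002281818c3a63f3000854c3c61732a9848c004002001054c002002000818c6c600212180083c618300103cc346001001054c00400200084cc00400200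100082c6563001018c0024a300100083c6433001048c70600100100082c6563149840c1a63a3001000800208329983cc6c64a3121814c00400100100080040021398008002002000800800400200108cc3260020a1800800200200100080040020010008004001001084c126002001000800433313980080020021798008004001001000800400200100080040e3001000400400200100085c60020010004004002001000800400200101cc002002000800800400205980083260020a1800800200200100080040020010008346001001000800400200100080040010518008126002001000800433300101cc00200200100080020e30010008004002179800800400100100080040020010008004343051814c0040010010008004002121884c0040010010008004002249814c00400100100085860020010a0c004001001000800400200100040041830010008004002000854c004173001000800400200100040040830010008004002000854c004173001000800400100100080041130010008586393001000800200200103cc346343001084c0040010010008004001051884c806002001040c58633313981cc002002 11 2047 0 448 64 = 65)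

theorem c8 : Part C 512 517 5 := Cfsg.Agent.SporadicRecognition.CertFast.part_fast C alC 5 (by decide +kernel : Cfsg.Agent.SporadicRecognition.CertFast.runF C 13 8191 0x8008004002001000800400200080080040020010008004002000800800400200100083c6002000800800400200100083c600200080080040020010008004002 11 2047 0 512 5 = 6)

theorem all : Part C 0 517 512 := ((((((((c0).append C c1).append C c2).append C c3).append C c4).append C c5).append C c6).append C c7).append C c8

end Cfsg.Agent.TypeO8Minus.ELbChk0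
end

-- part: TypeO8Minus/ELbAll
section
set_option autoImplicit false
set_option maxRecDepth 100000

namespace Cfsg.Agent.TypeO8Minus.ELbAll

open Cfsg.Agent.SporadicRecognition.CosetCert Cfsg.Agent.TypeO8Minus.ELbData

theorem part : Part C 0 C.N 512 := Cfsg.Agent.TypeO8Minus.ELbChk0.all

end Cfsg.Agent.TypeO8Minus.ELbAll
end

-- part: TypeO8Minus/ELcData
section
set_option autoImplicit false
set_option maxRecDepth 100000

namespace Cfsg.Agent.TypeO8Minus.ELcData

open Cfsg.Agent.SporadicRecognition.CosetCert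

noncomputable def tree : Tr := (.L 0x3ff257643a2d067f27fe3cbb6eb95aacd4ffa29ecac5a29138bff2cb14f683399ad7fe9414928a4421d27fcc632108642209f)

noncomputable def wtree : WT := beta% (fun (N : Nat → WT → WT → WT) (L : Nat → List Nat → WT) (c : Nat → List
  Nat → List Nat) (n : List Nat) => (N 3 (N 1 (L 0 (c 4 (c 0 (c 4 n)))) (N 2 (L 1 (c 4 (c 1 (c 4 n)))) (L 3 (c
  4 (c 3 (c 4 n)))))) (N 5 (N 4 (L 0 (c 5 (c 0 (c 5 n)))) (L 1 (c 5 (c 1 (c 5 n))))) (N 6 (L 3 (c 5 (c 3 (c 5
  n)))) (L 5 (c 4 (c 5 (c 4 (c 5 (c 4 n)))))))))) WT.N WT.L (@List.cons Nat) (@List.nil Nat)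

noncomputable def stree : ST := (.N 1 (.L 0 [] []) (.N 2 (.L 1 [] []) (.L 2 [] [])))

noncomputable def C : Cert where
  data := tree
  lm := 15
  rb := 67
  fb := 9
  mask := 511
  B := 8
  k := 6
  N := 6
  inv := fun x => bif Nat.beq x 0 then 0 else bif Nat.beq x 1 then 1 else bif Nat.beq x 2 then 3 else bif Nat.beq x 3 then 2 else bif Nat.beq x 4 then 4 else bif Nat.beq x 5 then 5 else x
  words := wtree
  subs := stree

def rels : List (List Nat) := beta% (fun (c : Nat → List Nat → List Nat) (n : List Nat) => ([(c 2 (c 2 (c 2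
  n))), (c 1 (c 2 (c 1 (c 2 n)))), (c 4 (c 0 (c 4 (c 0 n)))), (c 4 (c 1 (c 4 (c 1 n)))), (c 4 (c 3 (c 4 (c 2
  n)))), (c 5 (c 0 (c 5 (c 0 n)))), (c 5 (c 1 (c 5 (c 1 n)))), (c 5 (c 3 (c 5 (c 2 n)))), (c 1 (c 0 (c 1 (c 0
  (c 1 (c 0 n)))))), (c 0 (c 2 (c 0 (c 2 (c 0 (c 2 n)))))), (c 4 (c 5 (c 4 (c 5 (c 4 (c 5 n)))))), (c 0 (c 3 (c
  0 (c 2 (c 0 (c 3 (c 0 (c 2 n))))))))] : List (List Nat))) (@List.cons Nat) (@List.nil Nat)

def subw : List (List Nat) := [[0], [1], [2]]

end Cfsg.Agent.TypeO8Minus.ELcData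
end

-- part: TypeO8Minus/ELcChk0
section
set_option autoImplicit false
set_option maxRecDepth 100000

namespace Cfsg.Agent.TypeO8Minus.ELcChk0

open Cfsg.Agent.SporadicRecognition.CosetCert Cfsg.Agent.TypeO8Minus.ELcData

private theorem alC : Cfsg.Agent.SporadicRecognition.CertFast.al (Nat.succ C.lm) C.data = true := by decide +kernel

theorem c0 : Part C 0 6 6 := Cfsg.Agent.SporadicRecognition.CertFast.part_fast C alC 6 (by decide +kernel : Cfsg.Agent.SporadicRecognition.CertFast.runF C 7 127 0x405182260f1814608983020a98286cc082a60a1b30405182260c1020494a85 1 1 0 0 6 = 7)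

theorem all : Part C 0 6 6 := c0

end Cfsg.Agent.TypeO8Minus.ELcChk0
end

-- part: TypeO8Minus/ELcAll
section
set_option autoImplicit false
set_option maxRecDepth 100000

namespace Cfsg.Agent.TypeO8Minus.ELcAll

open Cfsg.Agent.SporadicRecognition.CosetCert Cfsg.Agent.TypeO8Minus.ELcData

theorem part : Part C 0 C.N 6 := Cfsg.Agent.TypeO8Minus.ELcChk0.all

end Cfsg.Agent.TypeO8Minus.ELcAll
end

-- part: TypeO8Minus/ELdData
section
set_option autoImplicit false
set_option maxRecDepth 100000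

namespace Cfsg.Agent.TypeO8Minus.ELdData

open Cfsg.Agent.SporadicRecognition.CosetCert

noncomputable def tree : Tr := beta% (fun (N : Nat → Tr → Tr → Tr) (L : Nat → Tr) => (N 32 (N 16 (L
  0xfffcb8f2b18c075e78bfff2718b502a2171d3fffd59c526c98923183fff334531a4a648450fffd19837491171f103fff1c286431e110962fffc5431b2c6054054ffff3c50e9325384c30fffc4870f08a4f3648bfff0d084482f40c913fffcb10283c2c224387fff0a101c1172888d2fffc141091474b2030ffff1a2c58a03045091fffc4080e1c30601043fff0814184040c082f)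
  (L
  0xfffe0e7665d8d297ac7fff62662685f467ed1fffe3e9a2ba7ad5d403fff9ab24ea96ad6cf0fffd61b553969392a8bfff51395dc54523a93fffd2cd4e462e85060ffff88a185f4935c631fffd21245321674f68bfff65820a74331e651fffda617c99e25412c3fff7491b62708cfca0fffcf933b254db6c88bfff3924f545971a213fffce0c476192035203fff4d68d0d607cc470))
  (N 48 (L
  0xfffec71ae8eae2c5d47fffaa96df2a7872f61fffe85ea4a75f8a6b0ffffd4e30f59d7a81f1fffe72a9977477a5b8bfffc9db3b795766201fffe51d9bb323691703fffa3ba41ec2d635b0fffe29f876631abed0bfff815e1208662f333fffded67e86e728090ffffb6caa6f7759e971fffdda27356cf17f98bfffadc2c316f55c991fffdb957592b306b503fff7d99a96a8bd9d30)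
  (L
  0xffffa74ece7bbbf0e0ffffe6eb8f3edf3a372ffff8b3e5ef839ddc83fffebf3734dfeb6710ffff5b5d3b762eeff0bfffcdaf436d2b39fb3ffff3f7caaf1eaccbc7fffc4b7578c1a71b01ffff6f9eaf3033bda03fffe4ef87abfd2ee70fffee2fb596ea6dee8bfffaf8ecb0b4936b93))))
  Tr.N Tr.L

noncomputable def wtree : WT := beta% (fun (N : Nat → WT → WT → WT) (L : Nat → List Nat → WT) (c : Nat → List
  Nat → List Nat) (n : List Nat) => (N 6 (N 3 (N 1 (L 2 (c 3 (c 3 n))) (N 2 (L 1 (c 2 (c 1 (c 2 n)))) (L 1 (c 3
  (c 1 (c 3 n)))))) (N 4 (L 1 (c 0 (c 1 (c 0 (c 1 (c 0 n)))))) (N 5 (L 3 (c 0 (c 2 (c 0 (c 2 (c 0 n)))))) (L 2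
  (c 0 (c 3 (c 0 (c 3 (c 0 n))))))))) (N 9 (N 7 (L 3 (c 2 (c 2 n))) (N 8 (L 0 (c 2 (c 0 (c 2 (c 0 (c 2 n))))))
  (L 2 (c 1 (c 3 (c 1 n)))))) (N 10 (L 3 (c 1 (c 2 (c 1 n)))) (N 11 (L 0 (c 1 (c 0 (c 1 (c 0 (c 1 n)))))) (L 0
  (c 3 (c 0 (c 3 (c 0 (c 3 n))))))))))) WT.N WT.L (@List.cons Nat) (@List.nil Nat)

noncomputable def stree : ST := (.L 4 [] [])

noncomputable def C : Cert where
  data := tree
  lm := 15
  rb := 74
  fb := 14
  mask := 16383
  B := 64
  k := 4
  N := 60
  inv := fun x => bif Nat.beq x 0 then 0 else bif Nat.beq x 1 then 1 else bif Nat.beq x 2 then 3 else bif Nat.beq x 3 then 2 else x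
  words := wtree
  subs := stree

def rels : List (List Nat) := [[2,2,2], [1,2,1,2], [1,0,1,0,1,0], [0,2,0,2,0,2], [0,3,0,2,0,3,0,2]]

end Cfsg.Agent.TypeO8Minus.ELdData
end

-- part: TypeO8Minus/ELdChk0
section
set_option autoImplicit false
set_option maxRecDepth 100000

namespace Cfsg.Agent.TypeO8Minus.ELdChk0

open Cfsg.Agent.SporadicRecognition.CosetCert Cfsg.Agent.TypeO8Minus.ELdData

private theorem alC : Cfsg.Agent.SporadicRecognition.CertFast.al (Nat.succ C.lm) C.data = true := by decide +kernel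

theorem c0 : Part C 0 60 60 := Cfsg.Agent.SporadicRecognition.CertFast.part_fast C alC 60 (by decide +kernel : Cfsg.Agent.SporadicRecognition.CertFast.runF C 8 255 0x102020202011302020302016302330102010273010202b3630201020203010243020201025333010201020201020202630201a3020301a30102230202830102020113739302010202030201630202010201020201020202010223020283010202011373930201020203020163020201630201a3020301a34302020102530201020102020103020201022302028301a302011373930201a343020201025302010201130201032302020302016302020102010202010302020202020143020201025302010201020201030202020233010201130201032302020201020201130201032302020201020202020102020202 1 1 0 0 60 = 61)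

theorem all : Part C 0 60 60 := c0

end Cfsg.Agent.TypeO8Minus.ELdChk0
end

-- part: TypeO8Minus/ELdAll
section
set_option autoImplicit false
set_option maxRecDepth 100000

namespace Cfsg.Agent.TypeO8Minus.ELdAll

open Cfsg.Agent.SporadicRecognition.CosetCert Cfsg.Agent.TypeO8Minus.ELdData

theorem part : Part C 0 C.N 60 := Cfsg.Agent.TypeO8Minus.ELdChk0.all

end Cfsg.Agent.TypeO8Minus.ELdAll
end

-- part: TypeO8Minus/Rel
section
/-!
A presentation of `Ω₈⁻(2)` on eight letters `t w r | k n | z s | m`: the group generated by any elements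
satisfying the relations has order at most `197406720 = 1071 · 512 · 6 · 60`.

In the natural module with basis `e₁ e₂ e₃ f₁ f₂ f₃ g h`: `z = T(e₁,e₂)`, `k = T(e₁,f₂)`, `s = T(e₂,f₃)`,
`t = T(e₃,g+h)`, `n = (e₁e₂)(f₁f₂)`, `m = (e₂e₃)(f₂f₃)`, `w = (e₃f₃)(gh)`, `r` of order 3 on `⟨g,h⟩`;
`⟨t,w,r⟩ = A₅`, `⟨k,n⟩ = S₃`, `⟨t,w,r,k,n,z,s⟩ = C(z) = 2^{1+8}(S₃ × A₅)`.
-/

set_option autoImplicit false
set_option maxRecDepth 100000

namespace Cfsg.Agent.TypeO8Minus.Rel

open Cfsg.Agent.SporadicRecognition Cfsg.Agent.SporadicRecognition.CosetCert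
  Cfsg.Agent.SporadicRecognition.CosetChain

/-- The relations inside the centralizer of `z`. -/
structure RelsC {G : Type*} [Group G] (t w r k n z s : G) : Prop where
  t2 : t * t = 1
  w2 : w * w = 1
  k2 : k * k = 1
  n2 : n * n = 1
  z2 : z * z = 1
  s2 : s * s = 1
  r3 : r * r * r = 1
  wr : (w * r) ^ 2 = 1
  wt : (w * t) ^ 3 = 1
  tr : (t * r) ^ 3 = 1
  trtr : (t * r⁻¹ * t * r) ^ 2 = 1
  kn : (k * n) ^ 3 = 1
  kt : (k * t) ^ 2 = 1
  kw : (k * w) ^ 2 = 1
  kr : k * r⁻¹ * k * r = 1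
  nt : (n * t) ^ 2 = 1
  nw : (n * w) ^ 2 = 1
  nr : n * r⁻¹ * n * r = 1
  zt : (z * t) ^ 2 = 1
  zw : (z * w) ^ 2 = 1
  zr : z * r⁻¹ * z * r = 1
  zk : (z * k) ^ 2 = 1
  zn : (z * n) ^ 2 = 1
  zs : (z * s) ^ 2 = 1
  sr : s * r⁻¹ * s * r = 1
  ks : k * s * k * s * (n * s * n) = 1
  swt : (s * w * t * w) ^ 2 = 1
  sw : (s * w) ^ 4 = 1
  sn : (s * n) ^ 4 = 1
  five : s * (t * s * t) * (r⁻¹ * t * r * s * r⁻¹ * t * r) * (r * t * r⁻¹ * s * r * t * r⁻¹) *
    (w * s * w) = 1
  zz : (s * n * w * s * w * n) ^ 2 = z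

/-- All relations. -/
structure Rels {G : Type*} [Group G] (t w r k n z s m : G) : Prop extends RelsC t w r k n z s where
  m2 : m * m = 1
  sm : (s * m) ^ 3 = 1
  nm : (n * m) ^ 3 = 1
  mr : m * r⁻¹ * m * r = 1
  ksm : k * s * k * s * (m * k * m) = 1
  wsm : (w * s * w * m) ^ 2 = 1
  mw : (m * w) ^ 4 = 1
  last : m * (s * (t * s * t) * (w * s * w)) * m * t = 1

/-- numbering of the letters -/
def lt {G : Type*} [Group G] (t w r k n z s m : G) : ℕ → G
  | 0 => t
  | 1 => w
  | 2 => r
  | 3 => r⁻¹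
  | 4 => k
  | 5 => n
  | 6 => z
  | 7 => s
  | _ => m


section upper

variable {G : Type*} [Group G] {t w r k n z s m : G}

theorem inv_a (h : Rels t w r k n z s m) : ∀ x, x < ELaData.C.k → ELaData.C.inv x < ELaData.C.k ∧
    lt t w r k n z s m x * lt t w r k n z s m (ELaData.C.inv x) = 1 := by
  intro x hx
  have hx' : x < 9 := hx
  interval_cases x
  · exact ⟨by decide, h.t2⟩
  · exact ⟨by decide, h.w2⟩
  · exact ⟨by decide, mul_inv_cancel r⟩
  · exact ⟨by decide, inv_mul_cancel r⟩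
  · exact ⟨by decide, h.k2⟩
  · exact ⟨by decide, h.n2⟩
  · exact ⟨by decide, h.z2⟩
  · exact ⟨by decide, h.s2⟩
  · exact ⟨by decide, h.m2⟩

theorem inv_b (h : Rels t w r k n z s m) : ∀ x, x < ELbData.C.k → ELbData.C.inv x < ELbData.C.k ∧
    lt t w r k n z s m x * lt t w r k n z s m (ELbData.C.inv x) = 1 := by
  intro x hx
  have hx' : x < 8 := hx
  interval_cases x
  · exact ⟨by decide, h.t2⟩
  · exact ⟨by decide, h.w2⟩
  · exact ⟨by decide, mul_inv_cancel r⟩
  · exact ⟨by decide, inv_mul_cancel r⟩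
  · exact ⟨by decide, h.k2⟩
  · exact ⟨by decide, h.n2⟩
  · exact ⟨by decide, h.z2⟩
  · exact ⟨by decide, h.s2⟩

theorem inv_c (h : Rels t w r k n z s m) : ∀ x, x < ELcData.C.k → ELcData.C.inv x < ELcData.C.k ∧
    lt t w r k n z s m x * lt t w r k n z s m (ELcData.C.inv x) = 1 := by
  intro x hx
  have hx' : x < 6 := hx
  interval_cases x
  · exact ⟨by decide, h.t2⟩
  · exact ⟨by decide, h.w2⟩
  · exact ⟨by decide, mul_inv_cancel r⟩
  · exact ⟨by decide, inv_mul_cancel r⟩
  · exact ⟨by decide, h.k2⟩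
  · exact ⟨by decide, h.n2⟩

theorem inv_d (h : Rels t w r k n z s m) : ∀ x, x < ELdData.C.k → ELdData.C.inv x < ELdData.C.k ∧
    lt t w r k n z s m x * lt t w r k n z s m (ELdData.C.inv x) = 1 := by
  intro x hx
  have hx' : x < 4 := hx
  interval_cases x
  · exact ⟨by decide, h.t2⟩
  · exact ⟨by decide, h.w2⟩
  · exact ⟨by decide, mul_inv_cancel r⟩
  · exact ⟨by decide, inv_mul_cancel r⟩

theorem rels_ev (h : Rels t w r k n z s m) :
    ∀ x ∈ ELaData.rels, ev (lt t w r k n z s m) x = 1 := by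
  intro x hx
  simp only [ELaData.rels, List.mem_cons, List.not_mem_nil, or_false] at hx
  rcases hx with rfl | rfl | rfl | rfl | rfl | rfl | rfl | rfl | rfl | rfl | rfl | rfl | rfl | rfl | rfl | rfl | rfl | rfl | rfl | rfl | rfl | rfl | rfl | rfl | rfl | rfl | rfl | rfl | rfl | rfl | rfl | rfl
  · simpa [ev, lt, pow_succ, mul_assoc] using h.r3
  · simpa [ev, lt, pow_succ, mul_assoc] using h.wr
  · simpa [ev, lt, pow_succ, mul_assoc] using h.kt
  · simpa [ev, lt, pow_succ, mul_assoc] using h.kw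
  · simpa [ev, lt, pow_succ, mul_assoc] using h.kr
  · simpa [ev, lt, pow_succ, mul_assoc] using h.nt
  · simpa [ev, lt, pow_succ, mul_assoc] using h.nw
  · simpa [ev, lt, pow_succ, mul_assoc] using h.nr
  · simpa [ev, lt, pow_succ, mul_assoc] using h.zt
  · simpa [ev, lt, pow_succ, mul_assoc] using h.zw
  · simpa [ev, lt, pow_succ, mul_assoc] using h.zr
  · simpa [ev, lt, pow_succ, mul_assoc] using h.zk
  · simpa [ev, lt, pow_succ, mul_assoc] using h.zn
  · simpa [ev, lt, pow_succ, mul_assoc] using h.zs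
  · simpa [ev, lt, pow_succ, mul_assoc] using h.sr
  · simpa [ev, lt, pow_succ, mul_assoc] using h.mr
  · simpa [ev, lt, pow_succ, mul_assoc] using h.wt
  · simpa [ev, lt, pow_succ, mul_assoc] using h.tr
  · simpa [ev, lt, pow_succ, mul_assoc] using h.kn
  · simpa [ev, lt, pow_succ, mul_assoc] using h.sm
  · simpa [ev, lt, pow_succ, mul_assoc] using h.nm
  · simpa [ev, lt, pow_succ, mul_assoc] using h.ks
  · simpa [ev, lt, pow_succ, mul_assoc] using h.ksm
  · simpa [ev, lt, pow_succ, mul_assoc] using h.trtr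
  · simpa [ev, lt, pow_succ, mul_assoc] using h.swt
  · simpa [ev, lt, pow_succ, mul_assoc] using h.sw
  · simpa [ev, lt, pow_succ, mul_assoc] using h.sn
  · simpa [ev, lt, pow_succ, mul_assoc] using h.wsm
  · simpa [ev, lt, pow_succ, mul_assoc] using h.mw
  · simpa [ev, lt, pow_succ, mul_assoc] using h.last
  · have h1 : (s * n * w * s * w * n) ^ 2 * z = 1 := by rw [h.zz, h.z2]
    simpa [ev, lt, pow_succ, mul_assoc] using h1
  · simpa [ev, lt, pow_succ, mul_assoc] using h.five

theorem card_d (h : Rels t w r k n z s m) :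
    Finite (Subgroup.closure (lt t w r k n z s m '' {x | x < 4})) ∧
    Nat.card (Subgroup.closure (lt t w r k n z s m '' {x | x < 4})) ≤ 60 * 1 := by
  have := card_step ELdData.C (lt t w r k n z s m) ELdData.rels [] ⊥ (inv_d h)
    (fun x hx _ => rels_ev h x ((show ∀ x ∈ ELdData.rels, x ∈ ELaData.rels by decide) x hx))
    (by simp) (Cfsg.Agent.SporadicRecognition.HypFast.check_fast (by decide +kernel)) ELdAll.part inferInstance
  have h1 : Nat.card (⊥ : Subgroup G) = 1 := by simp
  rw [h1] at this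
  exact this

theorem card_c (h : Rels t w r k n z s m) :
    Finite (Subgroup.closure (lt t w r k n z s m '' {x | x < 6})) ∧
    Nat.card (Subgroup.closure (lt t w r k n z s m '' {x | x < 6})) ≤ 6 * (60 * 1) := by
  have := card_step ELcData.C (lt t w r k n z s m) ELcData.rels ELcData.subw
    (Subgroup.closure (lt t w r k n z s m '' {x | x < 4})) (inv_c h)
    (fun x hx _ => rels_ev h x ((show ∀ x ∈ ELcData.rels, x ∈ ELaData.rels by decide) x hx))
    (fun x hx _ => sub_letters _ 4 ELcData.subw (by decide) x hx) (Cfsg.Agent.SporadicRecognition.HypFast.check_fast (by decide +kernel))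
    ELcAll.part (card_d h).1
  exact ⟨this.1, this.2.trans (Nat.mul_le_mul_left _ (card_d h).2)⟩

theorem card_b (h : Rels t w r k n z s m) :
    Finite (Subgroup.closure (lt t w r k n z s m '' {x | x < 8})) ∧
    Nat.card (Subgroup.closure (lt t w r k n z s m '' {x | x < 8})) ≤ 512 * (6 * (60 * 1)) := by
  have := card_step ELbData.C (lt t w r k n z s m) ELbData.rels ELbData.subw
    (Subgroup.closure (lt t w r k n z s m '' {x | x < 6})) (inv_b h)
    (fun x hx _ => rels_ev h x ((show ∀ x ∈ ELbData.rels, x ∈ ELaData.rels by decide) x hx))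
    (fun x hx _ => sub_letters _ 6 ELbData.subw (by decide) x hx) (Cfsg.Agent.SporadicRecognition.HypFast.check_fast (by decide +kernel))
    ELbAll.part (card_c h).1
  exact ⟨this.1, this.2.trans (Nat.mul_le_mul_left _ (card_c h).2)⟩

theorem card_a (h : Rels t w r k n z s m) :
    Finite (Subgroup.closure (lt t w r k n z s m '' {x | x < 9})) ∧
    Nat.card (Subgroup.closure (lt t w r k n z s m '' {x | x < 9})) ≤
      1071 * (512 * (6 * (60 * 1))) := by
  have := card_step ELaData.C (lt t w r k n z s m) ELaData.rels ELaData.subw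
    (Subgroup.closure (lt t w r k n z s m '' {x | x < 8})) (inv_a h)
    (fun x hx _ => rels_ev h x hx)
    (fun x hx _ => sub_letters _ 8 ELaData.subw (by decide) x hx) (Cfsg.Agent.SporadicRecognition.HypFast.check_fast (by decide +kernel))
    ELaAll.part (card_b h).1
  exact ⟨this.1, this.2.trans (Nat.mul_le_mul_left _ (card_b h).2)⟩

/-- the set of generators -/
def gens {G : Type*} (t w r k n z s m : G) : Set G := {t, w, r, k, n, z, s, m}

theorem closure_eq (t w r k n z s m : G) :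
    Subgroup.closure (lt t w r k n z s m '' {x | x < 9}) = Subgroup.closure (gens t w r k n z s m) := by
  apply le_antisymm
  · rw [Subgroup.closure_le]
    rintro _ ⟨x, hx, rfl⟩
    have hx' : x < 9 := hx
    have H : ∀ y ∈ gens t w r k n z s m, y ∈ Subgroup.closure (gens t w r k n z s m) :=
      fun y hy => Subgroup.subset_closure hy
    interval_cases x
    · exact H _ (by simp [gens, lt])
    · exact H _ (by simp [gens, lt])
    · exact H _ (by simp [gens, lt])
    · exact Subgroup.inv_mem _ (H r (by simp [gens]))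
    · exact H _ (by simp [gens, lt])
    · exact H _ (by simp [gens, lt])
    · exact H _ (by simp [gens, lt])
    · exact H _ (by simp [gens, lt])
    · exact H _ (by simp [gens, lt])
  · rw [Subgroup.closure_le]
    have H : ∀ x, x < 9 → lt t w r k n z s m x ∈
        Subgroup.closure (lt t w r k n z s m '' {x | x < 9}) :=
      fun x hx => Subgroup.subset_closure ⟨x, hx, rfl⟩
    intro y hy
    simp only [gens, Set.mem_insert_iff, Set.mem_singleton_iff] at hy
    rcases hy with rfl | rfl | rfl | rfl | rfl | rfl | rfl | rfl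
    · exact H 0 (by norm_num)
    · exact H 1 (by norm_num)
    · exact H 2 (by norm_num)
    · exact H 4 (by norm_num)
    · exact H 5 (by norm_num)
    · exact H 6 (by norm_num)
    · exact H 7 (by norm_num)
    · exact H 8 (by norm_num)

/-- **The order of a group with these relations is at most `|Ω₈⁻(2)| = 197406720`.** -/
theorem card_closure_le (h : Rels t w r k n z s m) :
    Finite (Subgroup.closure (gens t w r k n z s m)) ∧
    Nat.card (Subgroup.closure (gens t w r k n z s m)) ≤ 197406720 := by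
  rw [← closure_eq]
  exact ⟨(card_a h).1, (card_a h).2.trans (by norm_num)⟩

end upper

end Cfsg.Agent.TypeO8Minus.Rel
end

private theorem dce_ba766b01e502 : _root_.True := by
  try have : _root_.True := by simp only [_root_.Cfsg.Agent.TypeO8Minus.Rel.lt.eq_8]
  try have : _root_.True := by simp only [_root_.Cfsg.Agent.TypeO8Minus.Rel.lt.eq_4]
  try have : _root_.True := by simp only [_root_.Cfsg.Agent.TypeO8Minus.Rel.lt.eq_2]
  try have : _root_.True := by simp only [_root_.Cfsg.Agent.TypeO8Minus.ELaData.rels.eq_1]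
  try have : _root_.True := by simp only [_root_.Cfsg.Agent.TypeO8Minus.Rel.gens.eq_1]
  try have : _root_.True := by simp only [_root_.Cfsg.Agent.TypeO8Minus.Rel.lt.eq_6]
  try have : _root_.True := by simp only [_root_.Cfsg.Agent.TypeO8Minus.Rel.lt.eq_1]
  try have : _root_.True := by simp only [_root_.Cfsg.Agent.TypeO8Minus.Rel.lt.eq_3]
  try have : _root_.True := by simp only [_root_.Cfsg.Agent.TypeO8Minus.Rel.lt.eq_5]
  try have : _root_.True := by simp only [_root_.Cfsg.Agent.TypeO8Minus.Rel.lt.eq_7]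
  try have : _root_.True := by simp only [_root_.Cfsg.Agent.TypeO8Minus.Rel.lt.eq_9]
  exact _root_.True.intro
end

-- part: TypeOMinusEight/Swap
section
prune_inst 0x1000000000000000000058001000004140000900000000010000240020402000000000000001000000080000000004000000000000000000000000000000000000002020000a000200000000080000000000000000000000000000000000000000000000
set_option linter.all false
open scoped Cfsg.Agent.FastGrp

-- part: TypeO8Minus/Model
section
/-!
Explicit generators of `Ω₈⁻(2)` satisfying the relations of `Rel.lean`.  Vectors are coded by numbers `< 256`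
(bits `e₁ e₂ e₃ f₁ f₂ f₃ g h`).
-/

set_option autoImplicit false
set_option maxRecDepth 100000

namespace Cfsg.Agent.TypeO8Minus.Model

open QuadraticMap Cfsg.Agent.LieClassical.OrthCore Cfsg.Agent.LieClassical.OrthForms
  Cfsg.Agent.SporadicRecognition.CosetCert

abbrev Ix : Type := (Fin 3 ⊕ Fin 3) ⊕ Fin 2
abbrev V : Type := Ix → ZMod 2

/-- the quadratic form `x₁y₁ + x₂y₂ + x₃y₃ + z₁² + z₁z₂ + z₂²` -/
abbrev Qm : QuadraticForm (ZMod 2) V := minusForm 3 (ZMod 2) 1 1

def bz (b : Bool) : ZMod 2 := cond b 1 0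

theorem bz_xor (a b : Bool) : bz (a ^^ b) = bz a + bz b := by revert a b; decide
theorem bz_and (a b : Bool) : bz (a && b) = bz a * bz b := by revert a b; decide
theorem bz_sq (a : Bool) : bz a ^ 2 = bz a := by revert a; decide
theorem bz_inj {a b : Bool} (h : bz a = bz b) : a = b := by revert a b; decide
theorem bz_eq_zero {a : Bool} : bz a = 0 ↔ a = false := by revert a; decide

/-- position of a coordinate -/
def idx : Ix → ℕ
  | .inl (.inl i) => i
  | .inl (.inr i) => 3 + i
  | .inr j => 6 + j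

/-- the vector with code `c` -/
def vec (c : ℕ) : V := fun i => bz (c.testBit (idx i))

theorem vec_xor (a b : ℕ) : vec (a ^^^ b) = vec a + vec b := by
  funext i
  simp only [vec, Nat.testBit_xor, bz_xor, Pi.add_apply]

theorem vec_zero : vec 0 = 0 := by
  funext i
  simp [vec, bz]

/-- the quadratic form on codes -/
def qn (c : ℕ) : Bool :=
  (c.testBit 0 && c.testBit 3) ^^ ((c.testBit 1 && c.testBit 4) ^^ ((c.testBit 2 && c.testBit 5) ^^
    (c.testBit 6 ^^ ((c.testBit 6 && c.testBit 7) ^^ c.testBit 7))))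

/-- the bilinear form on codes -/
def Bn (a b : ℕ) : Bool := qn (a ^^^ b) ^^ (qn a ^^ qn b)

theorem Q_vec (c : ℕ) : Qm (vec c) = bz (qn c) := by
  rw [coe_minusForm, Cfsg.Agent.LieClassical.OrthForms.quadFormMinus_apply, Fin.sum_univ_three]
  simp only [vec, idx, qn, bz_xor, bz_and, bz_sq, one_mul]
  norm_num only [Fin.coe_ofNat_eq_mod, Nat.testBit_zero, add_zero]
  ring

theorem polar_vec (a b : ℕ) : polar Qm (vec a) (vec b) = bz (Bn a b) := by
  rw [polar, ← vec_xor, Q_vec, Q_vec, Q_vec, Bn]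
  generalize qn (a ^^^ b) = x
  generalize qn a = y
  generalize qn b = u
  revert x y u
  decide

/-- coordinate of a position -/
def pos (i : Fin 8) : Ix :=
  ![.inl (.inl 0), .inl (.inl 1), .inl (.inl 2), .inl (.inr 0), .inl (.inr 1), .inl (.inr 2), .inr 0, .inr 1] i

theorem idx_pos : ∀ i : Fin 8, idx (pos i) = i := by decide

theorem idx_lt : ∀ i : Ix, idx i < 8 := by decide

theorem pos_idx : ∀ i : Ix, pos ⟨idx i, idx_lt i⟩ = i := by decide

theorem exists_vec (v : V) : ∃ c < 256, v = vec c := by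
  classical
  refine ⟨Nat.ofBits (fun i : Fin 8 => decide (v (pos i) = 1)), Nat.ofBits_lt_two_pow _, ?_⟩
  funext i
  rw [vec, Nat.testBit_ofBits_lt _ _ (idx_lt i), pos_idx]
  generalize v i = x
  revert x
  decide

theorem vec_inj {a b : ℕ} (ha : a < 256) (hb : b < 256) (h : vec a = vec b) : a = b := by
  apply Nat.eq_of_testBit_eq
  intro j
  by_cases hj : j < 8
  · have := congrFun h (pos ⟨j, hj⟩)
    simp only [vec, idx_pos] at this
    exact bz_inj this
  · have h8 : 2 ^ 8 ≤ 2 ^ j := Nat.pow_le_pow_right (by norm_num) (by omega)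
    rw [Nat.testBit_lt_two_pow (lt_of_lt_of_le ha h8), Nat.testBit_lt_two_pow (lt_of_lt_of_le hb h8)]

/-! ### Siegel transformations on codes -/

def sie (u w c : ℕ) : ℕ :=
  c ^^^ ((bif Bn u c then w else 0) ^^^ ((bif Bn w c then u else 0) ^^^
    (bif qn w && Bn u c then u else 0)))

theorem smul_vec (b : Bool) (c : ℕ) : bz b • vec c = vec (bif b then c else 0) := by
  cases b <;> simp [bz, vec_zero]

theorem vadd_self (x : V) : x + x = 0 := by
  funext i
  exact CharTwo.add_self_eq_zero _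

theorem neg_vec (x : V) : -x = x := by
  rw [neg_eq_iff_add_eq_zero]
  exact vadd_self x

theorem siegel_vec {u w : ℕ} (hu : Qm (vec u) = 0) (hw : polar Qm (vec u) (vec w) = 0) (c : ℕ) :
    siegel Qm (vec u) (vec w) hu hw (vec c) = vec (sie u w c) := by
  rw [siegel_apply, polar_vec, polar_vec, Q_vec, ← bz_and, smul_vec, smul_vec, smul_vec, sie,
    vec_xor, vec_xor, vec_xor, sub_eq_add_neg, sub_eq_add_neg, neg_vec, neg_vec, add_assoc, add_assoc]

/-- `T(u,w)` -/
noncomputable def T (u w : ℕ) (h : (!(qn u) && !(Bn u w)) = true) : V ≃ₗ[ZMod 2] V :=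
  siegel Qm (vec u) (vec w)
    (by rw [Q_vec]; rw [Bool.and_eq_true, Bool.not_eq_true', Bool.not_eq_true'] at h; rw [h.1]; rfl)
    (by rw [polar_vec]; rw [Bool.and_eq_true, Bool.not_eq_true', Bool.not_eq_true'] at h; rw [h.2]; rfl)

theorem T_mem (u w : ℕ) (h : (!(qn u) && !(Bn u w)) = true) : T u w h ∈ E Qm := siegel_mem_E _ _

theorem T_vec (u w : ℕ) (h : (!(qn u) && !(Bn u w)) = true) (c : ℕ) :
    T u w h (vec c) = vec (sie u w c) := siegel_vec _ _ c

theorem mul_vec {f g : V ≃ₗ[ZMod 2] V} {c d e : ℕ} (hf : f (vec d) = vec e)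
    (hg : g (vec c) = vec d) : (f * g) (vec c) = vec e := by
  rw [← hf, ← hg]
  rfl

/-! ### The generators -/

noncomputable def tM : V ≃ₗ[ZMod 2] V := T 4 192 rfl
noncomputable def wM : V ≃ₗ[ZMod 2] V := T 4 192 rfl * (T 32 192 rfl * T 4 192 rfl)
noncomputable def rM : V ≃ₗ[ZMod 2] V := T 4 64 rfl * (T 32 64 rfl * (T 4 64 rfl * wM))
noncomputable def kM : V ≃ₗ[ZMod 2] V := T 1 16 rfl
noncomputable def nM : V ≃ₗ[ZMod 2] V := T 1 16 rfl * (T 2 8 rfl * T 1 16 rfl)
noncomputable def zM : V ≃ₗ[ZMod 2] V := T 1 2 rfl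
noncomputable def sM : V ≃ₗ[ZMod 2] V := T 2 32 rfl
noncomputable def mM : V ≃ₗ[ZMod 2] V := T 2 32 rfl * (T 4 16 rfl * T 2 32 rfl)

/-- image of a code under the linear map with packed columns `M` -/
def app (M c : ℕ) : ℕ :=
  Nat.rec 0 (fun i a => a ^^^ (bif c.testBit i then (M >>> (8 * i)) &&& 255 else 0)) 8

/-- tables of the letters -/
def tab (x : ℕ) : ℕ :=
  bif Nat.beq x 0 then 9530993468927902209 else bif Nat.beq x 1 then 4647719282348655105 else bif Nat.beq x 2 then 4665764467181879809 else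
  bif Nat.beq x 3 then 13871122105527173633 else bif Nat.beq x 4 then 9241421688858739457 else bif Nat.beq x 5 then 9241421654364782850 else
  bif Nat.beq x 6 then 9241421692918825473 else bif Nat.beq x 7 then 9241421826029388289 else 9241404165123605505

/-- letters on codes, as composites of Siegel transformations -/
def sem (x c : ℕ) : ℕ :=
  bif Nat.beq x 0 then sie 4 192 c else
  bif Nat.beq x 1 then sie 4 192 (sie 32 192 (sie 4 192 c)) else
  bif Nat.beq x 2 then sie 4 64 (sie 32 64 (sie 4 64 (sie 4 192 (sie 32 192 (sie 4 192 c))))) else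
  bif Nat.beq x 4 then sie 1 16 c else
  bif Nat.beq x 5 then sie 1 16 (sie 2 8 (sie 1 16 c)) else
  bif Nat.beq x 6 then sie 1 2 c else
  bif Nat.beq x 7 then sie 2 32 c else
  sie 2 32 (sie 4 16 (sie 2 32 c))

theorem allB_sound {n : ℕ} {P : ℕ → Bool} (h : (List.range n).all P = true) : ∀ i < n, P i = true :=
  fun i hi => List.all_eq_true.1 h i (List.mem_range.2 hi)

private noncomputable def frc (x : ℕ) (k : ℕ → ℕ) : ℕ := Nat.rec (k 0) (fun n _ => k (Nat.succ n)) x

private theorem frc_eq (x : ℕ) (k : ℕ → ℕ) : frc x k = k x := by cases x <;> rfl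

private noncomputable def frb (x : ℕ) (k : ℕ → Bool) : Bool := Nat.rec (k 0) (fun n _ => k (Nat.succ n)) x

private theorem frb_eq (x : ℕ) (k : ℕ → Bool) : frb x k = k x := by cases x <;> rfl

private noncomputable def BnF (a b : ℕ) : Bool := frb (a ^^^ b) qn ^^ (frb a qn ^^ frb b qn)

private noncomputable def sieF (u w c : ℕ) : ℕ :=
  c ^^^ ((bif BnF u c then w else 0) ^^^ ((bif BnF w c then u else 0) ^^^
    (bif frb w qn && BnF u c then u else 0)))

private theorem sieF_eq (u w c : ℕ) : sieF u w c = sie u w c := by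
  delta sieF BnF
  simp only [frb_eq]
  rfl

private noncomputable def semF (x c : ℕ) : ℕ :=
  bif Nat.beq x 0 then frc c (sieF 4 192) else
  bif Nat.beq x 1 then frc (frc (frc c (sieF 4 192)) (sieF 32 192)) (sieF 4 192) else
  bif Nat.beq x 2 then frc (frc (frc (frc (frc (frc c (sieF 4 192)) (sieF 32 192)) (sieF 4 192)) (sieF 4 64))
    (sieF 32 64)) (sieF 4 64) else
  bif Nat.beq x 4 then frc c (sieF 1 16) else
  bif Nat.beq x 5 then frc (frc (frc c (sieF 1 16)) (sieF 2 8)) (sieF 1 16) else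
  bif Nat.beq x 6 then frc c (sieF 1 2) else
  bif Nat.beq x 7 then frc c (sieF 2 32) else
  frc (frc (frc c (sieF 2 32)) (sieF 4 16)) (sieF 2 32)

private theorem semF_eq (x c : ℕ) : semF x c = sem x c := by
  delta semF
  simp only [frc_eq, sieF_eq]
  rfl

private noncomputable def _root_.Cfsg.Agent.LsF.f291079_0 : {f // @Cfsg.Agent.TypeO8Minus.Model.qn = f} := ⟨_, by first | (delta Cfsg.Agent.TypeO8Minus.Model.qn; rewrite [Cfsg.Agent.LsF.and_eq, Cfsg.Agent.LsF.testBit_eq, Cfsg.Agent.LsF.bxor_eq]; exact rfl) | exact rfl⟩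
private noncomputable def _root_.Cfsg.Agent.LsF.f291079_1 : {f // @Cfsg.Agent.TypeO8Minus.Model.BnF = f} := ⟨_, by first | (delta Cfsg.Agent.TypeO8Minus.Model.BnF; rewrite [Cfsg.Agent.LsF.f291079_0.2, Cfsg.Agent.LsF.nxor_pat, Cfsg.Agent.LsF.bxor_eq]; exact rfl) | exact rfl⟩
private noncomputable def _root_.Cfsg.Agent.LsF.f291079_2 : {f // @Cfsg.Agent.TypeO8Minus.Model.sieF = f} := ⟨_, by first | (delta Cfsg.Agent.TypeO8Minus.Model.sieF; rewrite [Cfsg.Agent.LsF.f291079_1.2, Cfsg.Agent.LsF.f291079_0.2, Cfsg.Agent.LsF.nxor_pat, Cfsg.Agent.LsF.and_eq, Cfsg.Agent.LsF.cond_eq]; exact rfl) | exact rfl⟩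
private noncomputable def _root_.Cfsg.Agent.LsF.f291079_3 : {f // @Cfsg.Agent.TypeO8Minus.Model.semF = f} := ⟨_, by first | (delta Cfsg.Agent.TypeO8Minus.Model.semF; rewrite [Cfsg.Agent.LsF.f291079_2.2, Cfsg.Agent.LsF.cond_eq]; exact rfl) | exact rfl⟩
private noncomputable def _root_.Cfsg.Agent.LsF.f291079_4 : {f // @Cfsg.Agent.TypeO8Minus.Model.app = f} := ⟨_, by first | (delta Cfsg.Agent.TypeO8Minus.Model.app; rewrite [Cfsg.Agent.LsF.nmul_pat, Cfsg.Agent.LsF.nand_pat, Cfsg.Agent.LsF.nxor_pat, Cfsg.Agent.LsF.nshr_pat, Cfsg.Agent.LsF.cond_eq, Cfsg.Agent.LsF.testBit_eq]; exact rfl) | exact rfl⟩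
private noncomputable def _root_.Cfsg.Agent.LsF.f291079_5 : {f // @Cfsg.Agent.TypeO8Minus.Model.tab = f} := ⟨_, by first | (delta Cfsg.Agent.TypeO8Minus.Model.tab; rewrite [Cfsg.Agent.LsF.cond_eq]; exact rfl) | exact rfl⟩
theorem sem_eq : ∀ x < 9, ∀ c < 256, (Nat.beq x 3 || Nat.beq (sem x c) (app (tab x) c)) = true := by
  intro x hx c hc
  have : (List.range 9).all (fun x => (List.range 256).all fun c =>
      Nat.beq x 3 || Nat.beq (semF x c) (app (tab x) c)) = true := by ((try (rewrite [Cfsg.Agent.LsF.f291079_3.2, Cfsg.Agent.LsF.f291079_4.2, Cfsg.Agent.LsF.f291079_5.2, Cfsg.Agent.LsF.or_eq, Cfsg.Agent.LsF.all_eq, Cfsg.Agent.LsF.range_eq])); decide +kernel)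
  rw [← semF_eq]
  exact allB_sound (allB_sound this x hx) c hc

theorem app_lt : ∀ x < 9, ∀ c < 256, Nat.blt (app (tab x) c) 256 = true := by
  intro x hx c hc
  have : (List.range 9).all (fun x => (List.range 256).all fun c =>
      Nat.blt (app (tab x) c) 256) = true := by ((try (rewrite [Cfsg.Agent.LsF.f291079_4.2, Cfsg.Agent.LsF.f291079_5.2, Cfsg.Agent.LsF.all_eq, Cfsg.Agent.LsF.range_eq])); decide +kernel)
  exact allB_sound (allB_sound this x hx) c hc

theorem app_inv : ∀ c < 256, Nat.beq (app (tab 2) (app (tab 3) c)) c = true := by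
  intro c hc
  have : (List.range 256).all (fun c => Nat.beq (app (tab 2) (app (tab 3) c)) c) = true := by
    decide +kernel
  exact allB_sound this c hc

/-- the letters -/
noncomputable abbrev ltM : ℕ → (V ≃ₗ[ZMod 2] V) := Rel.lt tM wM rM kM nM zM sM mM

theorem sem_vec_w (c : ℕ) : wM (vec c) = vec (sem 1 c) :=
  mul_vec (T_vec _ _ _ _) (mul_vec (T_vec _ _ _ _) (T_vec _ _ _ _))

theorem sem_vec_r (c : ℕ) : rM (vec c) = vec (sem 2 c) :=
  mul_vec (T_vec _ _ _ _) (mul_vec (T_vec _ _ _ _) (mul_vec (T_vec _ _ _ _) (sem_vec_w c)))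

theorem sem_vec_n (c : ℕ) : nM (vec c) = vec (sem 5 c) :=
  mul_vec (T_vec _ _ _ _) (mul_vec (T_vec _ _ _ _) (T_vec _ _ _ _))

theorem sem_vec_m (c : ℕ) : mM (vec c) = vec (sem 8 c) :=
  mul_vec (T_vec _ _ _ _) (mul_vec (T_vec _ _ _ _) (T_vec _ _ _ _))

theorem sem_key {y : ℕ} (hy : y < 9) (hy3 : y ≠ 3) {c : ℕ} (hc : c < 256) :
    sem y c = app (tab y) c := by
  have := sem_eq y hy c hc
  rw [Bool.or_eq_true] at this
  rcases this with h | h
  · exact absurd (Nat.eq_of_beq_eq_true h) hy3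
  · exact Nat.eq_of_beq_eq_true h

theorem lt_vec {x : ℕ} (hx : x < 9) {c : ℕ} (hc : c < 256) : ltM x (vec c) = vec (app (tab x) c) := by
  by_cases h3 : x = 3
  · subst h3
    have h1 : app (tab 3) c < 256 := Nat.le_of_ble_eq_true (app_lt 3 hx c hc)
    have h2 := sem_vec_r (app (tab 3) c)
    rw [sem_key (by norm_num) (by norm_num) h1, Nat.eq_of_beq_eq_true (app_inv c hc)] at h2
    show rM⁻¹ (vec c) = _
    rw [← h2]
    exact LinearEquiv.symm_apply_apply rM _
  · rw [← sem_key hx h3 hc]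
    interval_cases x
    · exact T_vec 4 192 rfl c
    · exact sem_vec_w c
    · exact sem_vec_r c
    · exact absurd rfl h3
    · exact T_vec 1 16 rfl c
    · exact sem_vec_n c
    · exact T_vec 1 2 rfl c
    · exact T_vec 2 32 rfl c
    · exact sem_vec_m c

/-- image of a code under a word -/
def wd (w : List ℕ) (c : ℕ) : ℕ := w.foldr (fun x a => app (tab x) a) c

theorem wd_lt {w : List ℕ} (hw : ∀ x ∈ w, x < 9) {c : ℕ} (hc : c < 256) : wd w c < 256 := by
  induction w with
  | nil => exact hc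
  | cons x w ih =>
    exact Nat.le_of_ble_eq_true (app_lt x (hw x (by simp)) _ (ih fun y hy => hw y (by simp [hy])))

theorem ev_vec {w : List ℕ} (hw : ∀ x ∈ w, x < 9) {c : ℕ} (hc : c < 256) :
    ev ltM w (vec c) = vec (wd w c) := by
  induction w with
  | nil => rfl
  | cons x w ih =>
    have hw' : ∀ y ∈ w, y < 9 := fun y hy => hw y (by simp [hy])
    rw [ev_cons, LinearEquiv.mul_apply, ih hw', lt_vec (hw x (by simp)) (wd_lt hw' hc)]
    rfl

theorem ext_code {f g : V ≃ₗ[ZMod 2] V} (h : ∀ i < 8, f (vec (1 <<< i)) = g (vec (1 <<< i))) : f = g := by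
  have h2 : ∀ i : Ix, vec (1 <<< (idx i)) = Pi.single i 1 := by
    intro i
    funext j
    revert i j
    decide
  apply LinearEquiv.toLinearMap_injective
  apply LinearMap.pi_ext'
  intro i
  ext
  simp only [LinearMap.comp_apply, LinearMap.single_apply]
  have := h (idx i) (idx_lt i)
  rw [h2 i] at this
  exact congrFun this _

/-- equality of words -/
theorem ev_eq_of_check {u w : List ℕ}
    (h : (u.all (fun x => Nat.blt x 9) && (w.all (fun x => Nat.blt x 9) &&
      (List.range 8).all fun i => Nat.beq (wd u (1 <<< i)) (wd w (1 <<< i)))) = true) :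
    ev ltM u = ev ltM w := by
  rw [Bool.and_eq_true, Bool.and_eq_true] at h
  obtain ⟨h1, h2, h3⟩ := h
  have h1' : ∀ x ∈ u, x < 9 := fun x hx => Nat.le_of_ble_eq_true (List.all_eq_true.1 h1 x hx)
  have h2' : ∀ x ∈ w, x < 9 := fun x hx => Nat.le_of_ble_eq_true (List.all_eq_true.1 h2 x hx)
  apply ext_code
  intro i hi
  have hc : 1 <<< i < 256 := by interval_cases i <;> decide
  rw [ev_vec h1' hc, ev_vec h2' hc, Nat.eq_of_beq_eq_true (allB_sound h3 i hi)]

theorem rels : Rel.Rels tM wM rM kM nM zM sM mM where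
  t2 := by
    have := ev_eq_of_check (u := [0,0]) (w := []) (by decide +kernel)
    simpa only [ev, List.map_cons, Rel.lt, List.map_nil, List.prod_cons, List.prod_nil, mul_one] using this
  w2 := by
    have := ev_eq_of_check (u := [1,1]) (w := []) (by decide +kernel)
    simpa only [ev, List.map_cons, Rel.lt, List.map_nil, List.prod_cons, List.prod_nil, mul_one] using this
  k2 := by
    have := ev_eq_of_check (u := [4,4]) (w := []) (by decide +kernel)
    simpa only [ev, List.map_cons, Rel.lt, List.map_nil, List.prod_cons, List.prod_nil, mul_one] using this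
  n2 := by
    have := ev_eq_of_check (u := [5,5]) (w := []) (by decide +kernel)
    simpa only [ev, List.map_cons, Rel.lt, List.map_nil, List.prod_cons, List.prod_nil, mul_one] using this
  z2 := by
    have := ev_eq_of_check (u := [6,6]) (w := []) (by decide +kernel)
    simpa only [ev, List.map_cons, Rel.lt, List.map_nil, List.prod_cons, List.prod_nil, mul_one] using this
  s2 := by
    have := ev_eq_of_check (u := [7,7]) (w := []) (by decide +kernel)
    simpa only [ev, List.map_cons, Rel.lt, List.map_nil, List.prod_cons, List.prod_nil, mul_one] using this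
  r3 := by
    have := ev_eq_of_check (u := [2,2,2]) (w := []) (by decide +kernel)
    simpa only [mul_assoc, ev, List.map_cons, Rel.lt, List.map_nil, List.prod_cons, List.prod_nil, mul_one] using this
  wr := by
    have := ev_eq_of_check (u := [1,2,1,2]) (w := []) (by decide +kernel)
    simpa only [pow_succ, pow_zero, one_mul, mul_assoc, ev, List.map_cons, Rel.lt, List.map_nil, List.prod_cons,
        List.prod_nil, mul_one] using this
  wt := by
    have := ev_eq_of_check (u := [1,0,1,0,1,0]) (w := []) (by decide +kernel)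
    simpa only [pow_succ, pow_zero, one_mul, mul_assoc, ev, List.map_cons, Rel.lt, List.map_nil, List.prod_cons,
        List.prod_nil, mul_one] using this
  tr := by
    have := ev_eq_of_check (u := [0,2,0,2,0,2]) (w := []) (by decide +kernel)
    simpa only [pow_succ, pow_zero, one_mul, mul_assoc, ev, List.map_cons, Rel.lt, List.map_nil, List.prod_cons,
        List.prod_nil, mul_one] using this
  trtr := by
    have := ev_eq_of_check (u := [0,3,0,2,0,3,0,2]) (w := []) (by decide +kernel)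
    simpa only [mul_assoc, pow_succ, pow_zero, one_mul, ev, List.map_cons, Rel.lt, List.map_nil, List.prod_cons,
        List.prod_nil, mul_one] using this
  kn := by
    have := ev_eq_of_check (u := [4,5,4,5,4,5]) (w := []) (by decide +kernel)
    simpa only [pow_succ, pow_zero, one_mul, mul_assoc, ev, List.map_cons, Rel.lt, List.map_nil, List.prod_cons,
        List.prod_nil, mul_one] using this
  kt := by
    have := ev_eq_of_check (u := [4,0,4,0]) (w := []) (by decide +kernel)
    simpa only [pow_succ, pow_zero, one_mul, mul_assoc, ev, List.map_cons, Rel.lt, List.map_nil, List.prod_cons,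
        List.prod_nil, mul_one] using this
  kw := by
    have := ev_eq_of_check (u := [4,1,4,1]) (w := []) (by decide +kernel)
    simpa only [pow_succ, pow_zero, one_mul, mul_assoc, ev, List.map_cons, Rel.lt, List.map_nil, List.prod_cons,
        List.prod_nil, mul_one] using this
  kr := by
    have := ev_eq_of_check (u := [4,3,4,2]) (w := []) (by decide +kernel)
    simpa only [mul_assoc, ev, List.map_cons, Rel.lt, List.map_nil, List.prod_cons, List.prod_nil, mul_one] using this
  nt := by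
    have := ev_eq_of_check (u := [5,0,5,0]) (w := []) (by decide +kernel)
    simpa only [pow_succ, pow_zero, one_mul, mul_assoc, ev, List.map_cons, Rel.lt, List.map_nil, List.prod_cons,
        List.prod_nil, mul_one] using this
  nw := by
    have := ev_eq_of_check (u := [5,1,5,1]) (w := []) (by decide +kernel)
    simpa only [pow_succ, pow_zero, one_mul, mul_assoc, ev, List.map_cons, Rel.lt, List.map_nil, List.prod_cons,
        List.prod_nil, mul_one] using this
  nr := by
    have := ev_eq_of_check (u := [5,3,5,2]) (w := []) (by decide +kernel)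
    simpa only [mul_assoc, ev, List.map_cons, Rel.lt, List.map_nil, List.prod_cons, List.prod_nil, mul_one] using this
  zt := by
    have := ev_eq_of_check (u := [6,0,6,0]) (w := []) (by decide +kernel)
    simpa only [pow_succ, pow_zero, one_mul, mul_assoc, ev, List.map_cons, Rel.lt, List.map_nil, List.prod_cons,
        List.prod_nil, mul_one] using this
  zw := by
    have := ev_eq_of_check (u := [6,1,6,1]) (w := []) (by decide +kernel)
    simpa only [pow_succ, pow_zero, one_mul, mul_assoc, ev, List.map_cons, Rel.lt, List.map_nil, List.prod_cons,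
        List.prod_nil, mul_one] using this
  zr := by
    have := ev_eq_of_check (u := [6,3,6,2]) (w := []) (by decide +kernel)
    simpa only [mul_assoc, ev, List.map_cons, Rel.lt, List.map_nil, List.prod_cons, List.prod_nil, mul_one] using this
  zk := by
    have := ev_eq_of_check (u := [6,4,6,4]) (w := []) (by decide +kernel)
    simpa only [pow_succ, pow_zero, one_mul, mul_assoc, ev, List.map_cons, Rel.lt, List.map_nil, List.prod_cons,
        List.prod_nil, mul_one] using this
  zn := by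
    have := ev_eq_of_check (u := [6,5,6,5]) (w := []) (by decide +kernel)
    simpa only [pow_succ, pow_zero, one_mul, mul_assoc, ev, List.map_cons, Rel.lt, List.map_nil, List.prod_cons,
        List.prod_nil, mul_one] using this
  zs := by
    have := ev_eq_of_check (u := [6,7,6,7]) (w := []) (by decide +kernel)
    simpa only [pow_succ, pow_zero, one_mul, mul_assoc, ev, List.map_cons, Rel.lt, List.map_nil, List.prod_cons,
        List.prod_nil, mul_one] using this
  sr := by
    have := ev_eq_of_check (u := [7,3,7,2]) (w := []) (by decide +kernel)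
    simpa only [mul_assoc, ev, List.map_cons, Rel.lt, List.map_nil, List.prod_cons, List.prod_nil, mul_one] using this
  ks := by
    have := ev_eq_of_check (u := [4,7,4,7,5,7,5]) (w := []) (by decide +kernel)
    simpa only [mul_assoc, ev, List.map_cons, Rel.lt, List.map_nil, List.prod_cons, List.prod_nil, mul_one] using this
  swt := by
    have := ev_eq_of_check (u := [7,1,0,1,7,1,0,1]) (w := []) (by decide +kernel)
    simpa only [mul_assoc, pow_succ, pow_zero, one_mul, ev, List.map_cons, Rel.lt, List.map_nil, List.prod_cons,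
        List.prod_nil, mul_one] using this
  sw := by
    have := ev_eq_of_check (u := [7,1,7,1,7,1,7,1]) (w := []) (by decide +kernel)
    simpa only [pow_succ, pow_zero, one_mul, mul_assoc, ev, List.map_cons, Rel.lt, List.map_nil, List.prod_cons,
        List.prod_nil, mul_one] using this
  sn := by
    have := ev_eq_of_check (u := [7,5,7,5,7,5,7,5]) (w := []) (by decide +kernel)
    simpa only [pow_succ, pow_zero, one_mul, mul_assoc, ev, List.map_cons, Rel.lt, List.map_nil, List.prod_cons,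
        List.prod_nil, mul_one] using this
  five := by
    have := ev_eq_of_check (u := [7,0,7,0,3,0,2,7,3,0,2,2,0,3,7,2,0,3,1,7,1]) (w := []) (by decide +kernel)
    simpa only [mul_assoc, ev, List.map_cons, Rel.lt, List.map_nil, List.prod_cons, List.prod_nil, mul_one] using this
  zz := by
    have := ev_eq_of_check (u := [7,5,1,7,1,5,7,5,1,7,1,5]) (w := [6]) (by decide +kernel)
    simpa only [mul_assoc, pow_succ, pow_zero, one_mul, ev, List.map_cons, Rel.lt, List.map_nil, List.prod_cons,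
        List.prod_nil, mul_one] using this
  m2 := by
    have := ev_eq_of_check (u := [8,8]) (w := []) (by decide +kernel)
    simpa only [ev, List.map_cons, Rel.lt, List.map_nil, List.prod_cons, List.prod_nil, mul_one] using this
  sm := by
    have := ev_eq_of_check (u := [7,8,7,8,7,8]) (w := []) (by decide +kernel)
    simpa only [pow_succ, pow_zero, one_mul, mul_assoc, ev, List.map_cons, Rel.lt, List.map_nil, List.prod_cons,
        List.prod_nil, mul_one] using this
  nm := by
    have := ev_eq_of_check (u := [5,8,5,8,5,8]) (w := []) (by decide +kernel)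
    simpa only [pow_succ, pow_zero, one_mul, mul_assoc, ev, List.map_cons, Rel.lt, List.map_nil, List.prod_cons,
        List.prod_nil, mul_one] using this
  mr := by
    have := ev_eq_of_check (u := [8,3,8,2]) (w := []) (by decide +kernel)
    simpa only [mul_assoc, ev, List.map_cons, Rel.lt, List.map_nil, List.prod_cons, List.prod_nil, mul_one] using this
  ksm := by
    have := ev_eq_of_check (u := [4,7,4,7,8,4,8]) (w := []) (by decide +kernel)
    simpa only [mul_assoc, ev, List.map_cons, Rel.lt, List.map_nil, List.prod_cons, List.prod_nil, mul_one] using this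
  wsm := by
    have := ev_eq_of_check (u := [1,7,1,8,1,7,1,8]) (w := []) (by decide +kernel)
    simpa only [mul_assoc, pow_succ, pow_zero, one_mul, ev, List.map_cons, Rel.lt, List.map_nil, List.prod_cons,
        List.prod_nil, mul_one] using this
  mw := by
    have := ev_eq_of_check (u := [8,1,8,1,8,1,8,1]) (w := []) (by decide +kernel)
    simpa only [pow_succ, pow_zero, one_mul, mul_assoc, ev, List.map_cons, Rel.lt, List.map_nil, List.prod_cons,
        List.prod_nil, mul_one] using this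
  last := by
    have := ev_eq_of_check (u := [8,7,0,7,0,1,7,1,8,0]) (w := []) (by decide +kernel)
    simpa only [mul_assoc, ev, List.map_cons, Rel.lt, List.map_nil, List.prod_cons, List.prod_nil, mul_one] using this

end Cfsg.Agent.TypeO8Minus.Model
end

-- part: TypeO8Minus/Gener
section
/-!
The eight explicit elements generate `E Qm = Ω₈⁻(2)`.
-/

set_option autoImplicit false
set_option maxRecDepth 100000

namespace Cfsg.Agent.TypeO8Minus.Gener

open QuadraticMap Cfsg.Agent.LieClassical.OrthCore Cfsg.Agent.LieClassical.OrthForms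
  Cfsg.Agent.SporadicRecognition.CosetCert Cfsg.Agent.TypeO8Minus.Model

/-- words mapping `e₁` to the singular vector with code `c` -/
def orb : List (List ℕ) := [
  [], [], [5], [4,5], [8,5], [8,4,5], [7,8,5], [7,8,4,5], [5,8,1,8,5], [], [5,8,1,8,4,5], [], 
  [5,8,1,7,8,5], [], [5,8,1,7,8,4,5], [], [8,1,8,5], [8,1,8,4,5], [], [], [8,1,7,8,5], 
  [8,1,7,8,4,5], [], [], [4,5,8,1,8,5], [], [], [4,5,8,1,8,4,5], [4,5,8,1,7,8,5], [], [], 
  [4,5,8,1,7,8,4,5], [1,8,5], [1,8,4,5], [1,7,8,5], [1,7,8,4,5], [], [], [], [], [5,7,8,1,8,5], 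
  [], [5,7,8,1,8,4,5], [], [], [5,7,8,1,7,8,5], [], [5,7,8,1,7,8,4,5], [7,8,1,8,5], 
  [7,8,1,8,4,5], [], [], [], [], [7,8,1,7,8,5], [7,8,1,7,8,4,5], [7,4,5,8,1,8,5], [], [], 
  [7,4,5,8,1,8,4,5], [], [4,5,7,8,1,7,8,5], [7,4,5,8,1,7,8,5], [], [], [], [], [], [], [], [], 
  [], [], [5,8,0,2,0,1,8,5], [], [5,8,0,2,0,1,8,4,5], [], [5,8,7,0,2,0,1,8,5], [], 
  [5,8,7,0,2,0,1,8,4,5], [], [], [8,0,2,0,1,8,5], [8,0,2,0,1,8,4,5], [], [], [8,7,0,2,0,1,8,5], 
  [8,7,0,2,0,1,8,4,5], [], [4,5,8,0,2,0,1,8,5], [4,5,8,0,2,0,1,8,4,5], [], [], 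
  [4,5,8,7,0,2,0,1,8,5], [4,5,8,7,0,2,0,1,8,4,5], [], [], [], [], [], [0,2,0,1,8,5], 
  [0,2,0,1,8,4,5], [7,0,2,0,1,8,5], [7,0,2,0,1,8,4,5], [], [5,7,8,0,2,0,1,8,5], [], 
  [5,7,8,0,2,0,1,8,4,5], [5,0,2,0,7,8,1,8,5], [], [5,0,2,0,7,8,1,8,4,5], [], [], [], 
  [7,8,0,2,0,1,8,5], [7,8,0,2,0,1,8,4,5], [0,2,0,7,8,1,8,5], [0,2,0,7,8,1,8,4,5], [], [], [], 
  [7,4,5,8,0,2,0,1,8,5], [7,4,5,8,0,2,0,1,8,4,5], [], [0,2,0,7,4,5,8,1,8,5], [], [], 
  [0,2,0,7,4,5,8,1,8,4,5], [], [], [], [], [], [], [], [], [], [5,8,2,0,1,8,5], [], 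
  [5,8,2,0,1,8,4,5], [], [5,8,7,2,0,1,8,5], [], [5,8,7,2,0,1,8,4,5], [], [], [8,2,0,1,8,5], 
  [8,2,0,1,8,4,5], [], [], [8,7,2,0,1,8,5], [8,7,2,0,1,8,4,5], [], [4,5,8,2,0,1,8,5], 
  [4,5,8,2,0,1,8,4,5], [], [], [4,5,8,7,2,0,1,8,5], [4,5,8,7,2,0,1,8,4,5], [], [], [], [], [], 
  [2,0,1,8,5], [2,0,1,8,4,5], [7,2,0,1,8,5], [7,2,0,1,8,4,5], [], [5,7,8,2,0,1,8,5], [], 
  [5,7,8,2,0,1,8,4,5], [5,2,0,7,8,1,8,5], [], [5,2,0,7,8,1,8,4,5], [], [], [], [7,8,2,0,1,8,5], 
  [7,8,2,0,1,8,4,5], [2,0,7,8,1,8,5], [2,0,7,8,1,8,4,5], [], [], [], [7,4,5,8,2,0,1,8,5], 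
  [7,4,5,8,2,0,1,8,4,5], [], [2,0,7,4,5,8,1,8,5], [], [], [2,0,7,4,5,8,1,8,4,5], [], [], [], [], 
  [], [], [], [], [], [5,8,0,1,8,5], [], [5,8,0,1,8,4,5], [], [5,8,7,0,1,8,5], [], 
  [5,8,7,0,1,8,4,5], [], [], [8,0,1,8,5], [8,0,1,8,4,5], [], [], [8,7,0,1,8,5], [8,7,0,1,8,4,5], 
  [], [4,5,8,0,1,8,5], [4,5,8,0,1,8,4,5], [], [], [4,5,8,7,0,1,8,5], [4,5,8,7,0,1,8,4,5], [], [], 
  [], [], [], [0,1,8,5], [0,1,8,4,5], [7,0,1,8,5], [7,0,1,8,4,5], [], [5,7,8,0,1,8,5], [], 
  [5,7,8,0,1,8,4,5], [5,0,7,8,1,8,5], [], [5,0,7,8,1,8,4,5], [], [], [], [7,8,0,1,8,5], 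
  [7,8,0,1,8,4,5], [0,7,8,1,8,5], [0,7,8,1,8,4,5], [], [], [], [7,4,5,8,0,1,8,5], 
  [7,4,5,8,0,1,8,4,5], [], [0,7,4,5,8,1,8,5], [], [], [0,7,4,5,8,1,8,4,5]]

/-- words for `T(e₁, b)`, `b` a basis vector -/
def base : List (List ℕ) := [[], [6], [8,6,8], [], [4], [5,7,5], [3,5,8,0,8,5,2], [2,5,8,0,8,5,3]]

def sw (w : ℕ) : List ℕ := (List.range 8).flatMap fun i => bif w.testBit i then base.getD i [] else []

/-- the group generated by the letters -/
noncomputable abbrev X : Subgroup (V ≃ₗ[ZMod 2] V) :=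
  Subgroup.closure (Rel.gens tM wM rM kM nM zM sM mM)

theorem ltM_mem {x : ℕ} (hx : x < 9) : ltM x ∈ X := by
  rw [X, ← Rel.closure_eq]
  exact Subgroup.subset_closure ⟨x, hx, rfl⟩

theorem ev_mem {w : List ℕ} (hw : ∀ x ∈ w, x < 9) : ev ltM w ∈ X := by
  induction w with
  | nil => exact X.one_mem
  | cons x w ih =>
    rw [ev_cons]
    exact X.mul_mem (ltM_mem (hw x (by simp))) (ih fun y hy => hw y (by simp [hy]))

theorem all_lt {w : List ℕ} (h : (w.all fun x => Nat.blt x 9) = true) : ∀ x ∈ w, x < 9 :=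
  fun x hx => Nat.le_of_ble_eq_true (List.all_eq_true.1 h x hx)

private noncomputable def wdF (w : List ℕ) (c : ℕ) : ℕ :=
  List.rec c (fun x _ a => Nat.rec (app (tab x) 0) (fun n _ => app (tab x) (Nat.succ n)) a) w

private theorem wdF_eq (w : List ℕ) (c : ℕ) : wdF w c = wd w c := by
  induction w with
  | nil => rfl
  | cons x w ih =>
    show Nat.rec (app (tab x) 0) (fun n _ => app (tab x) (Nat.succ n)) (wdF w c) = app (tab x) (wd w c)
    rw [ih]
    cases wd w c <;> rfl

private noncomputable def _root_.Cfsg.Agent.LsF.f291079_6 : {f // @Cfsg.Agent.TypeO8Minus.Gener.wdF = f} := ⟨_, by first | (delta Cfsg.Agent.TypeO8Minus.Gener.wdF; rewrite [Cfsg.Agent.LsF.f291079_4.2, Cfsg.Agent.LsF.f291079_5.2]; exact rfl) | exact rfl⟩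
theorem orb_check : ∀ c < 256, (qn c || (Nat.beq c 0 || (((orb.getD c []).all fun x => Nat.blt x 9) &&
    Nat.beq (wd (orb.getD c []) 1) c))) = true := by
  intro c hc
  have : (List.range 256).all (fun c => (qn c || (Nat.beq c 0 ||
      (((orb.getD c []).all fun x => Nat.blt x 9) && Nat.beq (wdF (orb.getD c []) 1) c)))) = true := by
    ((try (rewrite [Cfsg.Agent.LsF.f291079_0.2, Cfsg.Agent.LsF.f291079_6.2, Cfsg.Agent.LsF.and_eq, Cfsg.Agent.LsF.or_eq, Cfsg.Agent.LsF.all_eq, Cfsg.Agent.LsF.range_eq, Cfsg.Agent.LsF.getD_eq])); decide +kernel)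
  rw [← wdF_eq]
  exact allB_sound this c hc

private noncomputable def _root_.Cfsg.Agent.LsF.f291079_7 : {f // @Cfsg.Agent.TypeO8Minus.Gener.sw = f} := ⟨_, by first | (delta Cfsg.Agent.TypeO8Minus.Gener.sw; rewrite [Cfsg.Agent.LsF.cond_eq, Cfsg.Agent.LsF.testBit_eq, Cfsg.Agent.LsF.flatMap_eq, Cfsg.Agent.LsF.range_eq, Cfsg.Agent.LsF.getD_eq]; exact rfl) | exact rfl⟩
private noncomputable def _root_.Cfsg.Agent.LsF.f291079_8 : {f // @Cfsg.Agent.TypeO8Minus.Model.Bn = f} := ⟨_, by first | (delta Cfsg.Agent.TypeO8Minus.Model.Bn; rewrite [Cfsg.Agent.LsF.f291079_0.2, Cfsg.Agent.LsF.nxor_pat, Cfsg.Agent.LsF.bxor_eq]; exact rfl) | exact rfl⟩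
private noncomputable def _root_.Cfsg.Agent.LsF.f291079_9 : {f // @Cfsg.Agent.TypeO8Minus.Model.sie = f} := ⟨_, by first | (delta Cfsg.Agent.TypeO8Minus.Model.sie; rewrite [Cfsg.Agent.LsF.f291079_8.2, Cfsg.Agent.LsF.f291079_0.2, Cfsg.Agent.LsF.nxor_pat, Cfsg.Agent.LsF.and_eq, Cfsg.Agent.LsF.cond_eq]; exact rfl) | exact rfl⟩
theorem sw_check : ∀ w < 256, (w.testBit 3 || (((sw w).all fun x => Nat.blt x 9) &&
    (List.range 8).all fun i => Nat.beq (wd (sw w) (1 <<< i)) (sie 1 w (1 <<< i)))) = true := by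
  intro w hw
  have : (List.range 256).all (fun w => (w.testBit 3 || (((sw w).all fun x => Nat.blt x 9) &&
      (List.range 8).all fun i => Nat.beq (wdF (sw w) (1 <<< i)) (sie 1 w (1 <<< i))))) = true := by
    ((try (rewrite [Cfsg.Agent.LsF.f291079_7.2, Cfsg.Agent.LsF.f291079_6.2, Cfsg.Agent.LsF.f291079_9.2, Cfsg.Agent.LsF.nshl_pat, Cfsg.Agent.LsF.and_eq, Cfsg.Agent.LsF.or_eq, Cfsg.Agent.LsF.testBit_eq, Cfsg.Agent.LsF.all_eq, Cfsg.Agent.LsF.range_eq])); decide +kernel)
  simp only [wdF_eq] at this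
  exact allB_sound this w hw

theorem Bn_one_check : ∀ w < 256, (w.testBit 3 == Bn 1 w) = true := by
  intro w hw
  have : (List.range 256).all (fun w => (w.testBit 3 == Bn 1 w)) = true := by
    decide +kernel
  exact allB_sound this w hw

theorem siegel_one_mem {w : V} (hu : Qm (vec 1) = 0) (hw : polar Qm (vec 1) w = 0) :
    siegel Qm (vec 1) w hu hw ∈ X := by
  obtain ⟨c, hc, rfl⟩ := exists_vec w
  have h1 := hw
  rw [polar_vec, bz_eq_zero, ← eq_of_beq (Bn_one_check c hc)] at h1
  have h2 := sw_check c hc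
  rw [h1, Bool.false_or, Bool.and_eq_true] at h2
  have h3 := all_lt h2.1
  have : siegel Qm (vec 1) (vec c) hu hw = ev ltM (sw c) := by
    apply ext_code
    intro i hi
    have hi' : 1 <<< i < 256 := by interval_cases i <;> decide
    rw [ev_vec h3 hi', siegel_vec, Nat.eq_of_beq_eq_true (allB_sound h2.2 i hi)]
  rw [this]
  exact ev_mem h3

theorem exists_map {u : V} (hu : Qm u = 0) (hu0 : u ≠ 0) : ∃ g ∈ X, g (vec 1) = u := by
  obtain ⟨c, hc, rfl⟩ := exists_vec u
  rw [Q_vec, bz_eq_zero] at hu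
  have hc0 : Nat.beq c 0 = false := by
    rcases h : Nat.beq c 0 with _ | _
    · rfl
    · exfalso
      apply hu0
      rw [Nat.eq_of_beq_eq_true h, vec_zero]
  have h2 := orb_check c hc
  rw [hu, hc0, Bool.false_or, Bool.false_or, Bool.and_eq_true] at h2
  have h3 := all_lt h2.1
  refine ⟨_, ev_mem h3, ?_⟩
  rw [ev_vec h3 (by norm_num), Nat.eq_of_beq_eq_true h2.2]

theorem X_le : X ≤ E Qm := by
  rw [X, Subgroup.closure_le]
  have hT := T_mem
  have hw : wM ∈ E Qm := mul_mem (T_mem _ _ _) (mul_mem (T_mem _ _ _) (T_mem _ _ _))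
  intro y hy
  simp only [Rel.gens, Set.mem_insert_iff, Set.mem_singleton_iff] at hy
  rcases hy with rfl | rfl | rfl | rfl | rfl | rfl | rfl | rfl
  · exact T_mem _ _ _
  · exact hw
  · exact mul_mem (T_mem _ _ _) (mul_mem (T_mem _ _ _) (mul_mem (T_mem _ _ _) hw))
  · exact T_mem _ _ _
  · exact mul_mem (T_mem _ _ _) (mul_mem (T_mem _ _ _) (T_mem _ _ _))
  · exact T_mem _ _ _
  · exact T_mem _ _ _
  · exact mul_mem (T_mem _ _ _) (mul_mem (T_mem _ _ _) (T_mem _ _ _))

theorem siegel_mem {u w : V} (hu : Qm u = 0) (hw : polar Qm u w = 0) :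
    siegel Qm u w hu hw ∈ X := by
  by_cases hu0 : u = 0
  · subst hu0
    have : siegel Qm 0 w hu hw = 1 := by
      ext v
      rw [siegel_apply, polar_zero_left, smul_zero, zero_smul, smul_zero]
      simp
    rw [this]
    exact X.one_mem
  · obtain ⟨g, hg, rfl⟩ := exists_map hu hu0
    have hgO : g ∈ O Qm := E_le_O (X_le hg)
    have h1 : Qm (vec 1) = 0 := by rw [← mem_O.1 hgO]; exact hu
    have h2 : g (g⁻¹ w) = w := LinearEquiv.apply_symm_apply g w
    have h3 : polar Qm (vec 1) (g⁻¹ w) = 0 := by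
      rw [← polar_map hgO, h2]; exact hw
    have h4 := siegel_conj hgO h1 h3 hu (by rw [h2]; exact hw)
    have h5 : siegel Qm (g (vec 1)) w hu hw = g * siegel Qm (vec 1) (g⁻¹ w) h1 h3 * g⁻¹ := by
      rw [h4]
      congr 1
      exact h2.symm
    rw [h5]
    exact X.mul_mem (X.mul_mem hg (siegel_one_mem h1 h3)) (X.inv_mem hg)

/-- **The eight elements generate `Ω₈⁻(2)`.** -/
theorem X_eq : X = E Qm := by
  apply le_antisymm X_le
  rw [E, Subgroup.closure_le]
  rintro _ ⟨u, w, hu, hw, rfl⟩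
  exact siegel_mem hu hw

end Cfsg.Agent.TypeO8Minus.Gener
end

-- part: TypeO8Minus/Ident
section
/-!
A nontrivial group generated by elements satisfying the relations `Rel.Rels` is isomorphic to `PΩ₈⁻(2)`.
-/

set_option autoImplicit false
set_option maxRecDepth 100000

namespace Cfsg.Agent.TypeO8Minus.Ident

open QuadraticMap Cfsg.Agent.LieClassical.OrthCore Cfsg.Agent.LieClassical.OrthForms
  Cfsg.Agent.LieClassical.OrthFinite
  Cfsg.Agent.SporadicRecognition.CosetCert Cfsg.Agent.TypeO8Minus.Model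
  Cfsg.Agent.TypeO8Minus.Gener

theorem aniso : ∀ z₁ z₂ : ZMod 2, z₁ ^ 2 + 1 * z₁ * z₂ + 1 * z₂ ^ 2 = 0 → z₁ = 0 ∧ z₂ = 0 := by decide

theorem nondeg : Nondeg Qm := nondeg_minusForm 3 (ZMod 2) 1 1 aniso

theorem good : Cfsg.Agent.LieClassical.OrthTrans.Good Qm :=
  good_of_finite nondeg (by rw [Module.finrank_fintype_fun_eq_card]; decide)

/-- `Ω₈⁻(2)` as a matrix group and as the group generated by the Siegel transformations. -/
noncomputable def omEquiv : Cfsg.Omega (ZMod 2) (⇑Qm) ≃* E Qm :=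
  (omegaEquiv Qm).trans (MulEquiv.subgroupCongr good.commutator_eq_E)

theorem center_eq : Subgroup.center (Cfsg.Omega (ZMod 2) (⇑Qm)) = ⊥ := by
  have h := Cfsg.Agent.LieClassical.OrthCenter.center_omega_eq_bot_char_two
    (Q := Cfsg.Agent.LieClassical.OmegaReindex.quadMinus 3 (ZMod 2) 1 1) (by decide)
    (Cfsg.Agent.LieClassical.OmegaReindex.quadMinus_nondegenerate aniso) (by decide)
    (Cfsg.Agent.LieClassical.OmegaReindex.quadMinus_isotropic (by norm_num) _ _)
  rw [Cfsg.Agent.LieClassical.OmegaReindex.coe_quadMinus] at h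
  rw [coe_minusForm]
  exact h

noncomputable def pomEquiv : Cfsg.POmega (ZMod 2) (⇑Qm) ≃* E Qm :=
  ((QuotientGroup.quotientMulEquivOfEq center_eq).trans QuotientGroup.quotientBot).trans omEquiv

instance simple : IsSimpleGroup (E Qm) := by
  have h := Cfsg.Agent.S0297.result (F := ZMod 2) 4 le_rfl 1 1 aniso
  have h' : IsSimpleGroup (Cfsg.POmega (ZMod 2) (⇑Qm)) := by
    rw [coe_minusForm]
    exact h
  exact (MulEquiv.isSimpleGroup_congr pomEquiv).1 h'

theorem card_E : Nat.card (E Qm) = 197406720 := by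
  have h := Cfsg.Agent.S0294.result (F := ZMod 2) (q := 2) (by decide) 4 le_rfl 1 1 aniso
  have h1 : Nat.card (Cfsg.POmega (ZMod 2) (⇑Qm)) = 197406720 := by
    rw [coe_minusForm]
    have e : Nat.gcd 4 (2 ^ 4 + 1) = 1 := by decide
    rw [e, one_mul] at h
    refine h.trans ?_
    simp only [Nat.add_one_sub_one, Nat.reduceMul, Nat.reducePow, Nat.reduceAdd, Finset.prod_range_succ, Finset.range_one,
        Finset.prod_singleton, zero_add, mul_one]
  rw [← h1]
  exact (Nat.card_congr pomEquiv.toEquiv).symm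

/-! ### Pairs -/

section

variable {G H : Type*} [Group G] [Group H]

theorem Rels_prod {t w r k n z s m : G} (h : Rel.Rels t w r k n z s m)
    {t' w' r' k' n' z' s' m' : H} (h' : Rel.Rels t' w' r' k' n' z' s' m') :
    Rel.Rels (t, t') (w, w') (r, r') (k, k') (n, n') (z, z') (s, s') (m, m') where
  t2 := Prod.ext h.t2 h'.t2
  w2 := Prod.ext h.w2 h'.w2
  k2 := Prod.ext h.k2 h'.k2
  n2 := Prod.ext h.n2 h'.n2
  z2 := Prod.ext h.z2 h'.z2
  s2 := Prod.ext h.s2 h'.s2
  r3 := Prod.ext h.r3 h'.r3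
  wr := Prod.ext h.wr h'.wr
  wt := Prod.ext h.wt h'.wt
  tr := Prod.ext h.tr h'.tr
  trtr := Prod.ext h.trtr h'.trtr
  kn := Prod.ext h.kn h'.kn
  kt := Prod.ext h.kt h'.kt
  kw := Prod.ext h.kw h'.kw
  kr := Prod.ext h.kr h'.kr
  nt := Prod.ext h.nt h'.nt
  nw := Prod.ext h.nw h'.nw
  nr := Prod.ext h.nr h'.nr
  zt := Prod.ext h.zt h'.zt
  zw := Prod.ext h.zw h'.zw
  zr := Prod.ext h.zr h'.zr
  zk := Prod.ext h.zk h'.zk
  zn := Prod.ext h.zn h'.zn
  zs := Prod.ext h.zs h'.zs
  sr := Prod.ext h.sr h'.sr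
  ks := Prod.ext h.ks h'.ks
  swt := Prod.ext h.swt h'.swt
  sw := Prod.ext h.sw h'.sw
  sn := Prod.ext h.sn h'.sn
  five := Prod.ext h.five h'.five
  zz := Prod.ext h.zz h'.zz
  m2 := Prod.ext h.m2 h'.m2
  sm := Prod.ext h.sm h'.sm
  nm := Prod.ext h.nm h'.nm
  mr := Prod.ext h.mr h'.mr
  ksm := Prod.ext h.ksm h'.ksm
  wsm := Prod.ext h.wsm h'.wsm
  mw := Prod.ext h.mw h'.mw
  last := Prod.ext h.last h'.last

end

section main

variable {G : Type*} [Group G] {t w r k n z s m : G}

/-- the group of pairs -/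
noncomputable abbrev Γ (t w r k n z s m : G) : Subgroup (G × (V ≃ₗ[ZMod 2] V)) :=
  Subgroup.closure (Rel.gens (t, tM) (w, wM) (r, rM) (k, kM) (n, nM) (z, zM) (s, sM) (m, mM))

theorem map_fst (t w r k n z s m : G) :
    (Γ t w r k n z s m).map (MonoidHom.fst G (V ≃ₗ[ZMod 2] V)) =
      Subgroup.closure (Rel.gens t w r k n z s m) := by
  rw [Γ, MonoidHom.map_closure]
  congr 1
  ext x
  simp only [MonoidHom.coe_fst, Rel.gens, Set.image_insert_eq, Set.image_singleton, Set.mem_insert_iff, Set.mem_singleton_iff]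

theorem map_snd (t w r k n z s m : G) :
    (Γ t w r k n z s m).map (MonoidHom.snd G (V ≃ₗ[ZMod 2] V)) = E Qm := by
  rw [← X_eq, X, Γ, MonoidHom.map_closure]
  congr 1
  ext x
  simp only [MonoidHom.coe_snd, Rel.gens, Set.image_insert_eq, Set.image_singleton, Set.mem_insert_iff, Set.mem_singleton_iff]

theorem lt_pair (t w r k n z s m : G) (x : ℕ) :
    Rel.lt (t, tM) (w, wM) (r, rM) (k, kM) (n, nM) (z, zM) (s, sM) (m, mM) x =
      (Rel.lt t w r k n z s m x, ltM x) := by
  rcases x with _ | _ | _ | _ | _ | _ | _ | _ | x <;> rfl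

theorem lt_mem_closure (t w r k n z s m : G) {x : ℕ} (hx : x < 9) :
    Rel.lt t w r k n z s m x ∈ Subgroup.closure (Rel.gens t w r k n z s m) := by
  rw [← Rel.closure_eq]
  exact Subgroup.subset_closure ⟨x, hx, rfl⟩

/-- **Identification.** -/
theorem exists_equiv (h : Rel.Rels t w r k n z s m)
    (hne : Subgroup.closure (Rel.gens t w r k n z s m) ≠ ⊥) :
    ∃ e : Subgroup.closure (Rel.gens t w r k n z s m) ≃* E Qm,
      ∀ (x : ℕ) (hx : x < 9),
        ((e ⟨Rel.lt t w r k n z s m x, lt_mem_closure t w r k n z s m hx⟩ : E Qm) :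
          V ≃ₗ[ZMod 2] V) = ltM x := by
  obtain ⟨hfin, hcard⟩ := Rel.card_closure_le (Rels_prod h rels)
  have hfin' : Finite (Γ t w r k n z s m) := hfin
  -- second projection
  let f2 : Γ t w r k n z s m →* E Qm :=
    ((MonoidHom.snd G (V ≃ₗ[ZMod 2] V)).comp (Γ t w r k n z s m).subtype).codRestrict (E Qm)
      (fun x => by
        rw [← map_snd t w r k n z s m]
        exact ⟨x, x.2, rfl⟩)
  have hf2s : Function.Surjective f2 := by
    rintro ⟨y, hy⟩
    rw [← map_snd t w r k n z s m] at hy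
    obtain ⟨x, hx, rfl⟩ := hy
    exact ⟨⟨x, hx⟩, rfl⟩
  have hf2 : Function.Bijective f2 := by
    have := Fintype.ofFinite (Γ t w r k n z s m)
    have hfE : Finite (E Qm) := Finite.of_surjective f2 hf2s
    have := Fintype.ofFinite (E Qm)
    rw [Fintype.bijective_iff_surjective_and_card]
    refine ⟨hf2s, ?_⟩
    apply le_antisymm
    · have h1 := card_E
      have h2 : Nat.card (Γ t w r k n z s m) ≤ 197406720 := hcard
      rw [← h1, Nat.card_eq_fintype_card, Nat.card_eq_fintype_card] at h2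
      exact h2
    · exact Fintype.card_le_of_surjective f2 hf2s
  let e2 : Γ t w r k n z s m ≃* E Qm := MulEquiv.ofBijective f2 hf2
  have hsimp : IsSimpleGroup (Γ t w r k n z s m) := (MulEquiv.isSimpleGroup_congr e2).2 simple
  -- first projection
  let f1 : Γ t w r k n z s m →* Subgroup.closure (Rel.gens t w r k n z s m) :=
    ((MonoidHom.fst G (V ≃ₗ[ZMod 2] V)).comp (Γ t w r k n z s m).subtype).codRestrict _
      (fun x => by
        rw [← map_fst t w r k n z s m]
        exact ⟨x, x.2, rfl⟩)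
  have hf1s : Function.Surjective f1 := by
    rintro ⟨y, hy⟩
    have hy' := hy
    rw [← map_fst t w r k n z s m] at hy'
    obtain ⟨x, hx, h1⟩ := hy'
    exact ⟨⟨x, hx⟩, Subtype.ext h1⟩
  have hf1 : Function.Bijective f1 := by
    refine ⟨?_, hf1s⟩
    rw [← MonoidHom.ker_eq_bot_iff]
    rcases (inferInstance : f1.ker.Normal).eq_bot_or_eq_top with h1 | h1
    · exact h1
    · exfalso
      apply hne
      rw [Subgroup.eq_bot_iff_forall]
      intro y hy
      obtain ⟨x, hx⟩ := hf1s ⟨y, hy⟩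
      have h2 : x ∈ f1.ker := by rw [h1]; trivial
      rw [MonoidHom.mem_ker] at h2
      rw [h2] at hx
      exact (congrArg Subtype.val hx).symm
  let e1 : Γ t w r k n z s m ≃* Subgroup.closure (Rel.gens t w r k n z s m) :=
    MulEquiv.ofBijective f1 hf1
  refine ⟨e1.symm.trans e2, ?_⟩
  intro x hx
  let y : Γ t w r k n z s m := ⟨(Rel.lt t w r k n z s m x, ltM x), by
    rw [← lt_pair]
    exact lt_mem_closure _ _ _ _ _ _ _ _ hx⟩
  have hy : e1 y = ⟨Rel.lt t w r k n z s m x, lt_mem_closure t w r k n z s m hx⟩ := rfl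
  rw [← hy, MulEquiv.trans_apply, MulEquiv.symm_apply_apply]
  rfl

/-- the disjunct of S1763 -/
theorem nonempty_equiv (h : Rel.Rels t w r k n z s m)
    (hne : Subgroup.closure (Rel.gens t w r k n z s m) ≠ ⊥) :
    Nonempty (Subgroup.closure (Rel.gens t w r k n z s m) ≃*
      Cfsg.POmega (ZMod 2) (Cfsg.quadFormMinus 3 (ZMod 2) 1 1)) := by
  obtain ⟨e, -⟩ := exists_equiv h hne
  rw [← coe_minusForm]
  exact ⟨e.trans pomEquiv.symm⟩

/-- conclusion for a group generated by such elements -/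
theorem main (h : Rel.Rels t w r k n z s m)
    (htop : Subgroup.closure (Rel.gens t w r k n z s m) = ⊤) [Nontrivial G] :
    ∃ (F : Type) (_ : Field F) (_ : Fintype F), Fintype.card F = 2 ∧
      ∃ a b : F, (∀ z₁ z₂ : F, z₁ ^ 2 + a * z₁ * z₂ + b * z₂ ^ 2 = 0 → z₁ = 0 ∧ z₂ = 0) ∧
        Nonempty (G ≃* Cfsg.POmega F (Cfsg.quadFormMinus 3 F a b)) := by
  have hne : Subgroup.closure (Rel.gens t w r k n z s m) ≠ ⊥ := by
    rw [htop]
    exact top_ne_bot
  obtain ⟨e⟩ := nonempty_equiv h hne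
  refine ⟨ZMod 2, inferInstance, inferInstance, by decide, 1, 1, aniso, ⟨?_⟩⟩
  exact (Subgroup.topEquiv.symm.trans (MulEquiv.subgroupCongr htop.symm)).trans e

end main

end Cfsg.Agent.TypeO8Minus.Ident
end

-- part: TypeOMinusEight/Words
section
/-!
The word principle: a word identity between the letters `t w r k n z s` which holds in the model holds for all
elements with `RelsC` (helper46).
-/

set_option autoImplicit false
set_option maxRecDepth 100000

namespace Cfsg.Agent.TypeOMinusEight.Words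

open Cfsg.Agent.SporadicRecognition Cfsg.Agent.SporadicRecognition.CosetCert
  Cfsg.Agent.SporadicRecognition.CosetChain Cfsg.Agent.TypeO8Minus Cfsg.Agent.TypeO8Minus.Rel
  Cfsg.Agent.TypeO8Minus.Model Cfsg.Agent.LieClassical.OrthCore

section words

variable {G : Type*} [Group G] {t w r k n z s : G}

theorem rels_ev (h : RelsC t w r k n z s) (m : G) :
    ∀ x ∈ ELbData.rels, ev (lt t w r k n z s m) x = 1 := by
  intro x hx
  simp only [ELbData.rels, List.mem_cons, List.not_mem_nil, or_false] at hx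
  rcases hx with rfl | rfl | rfl | rfl | rfl | rfl | rfl | rfl | rfl | rfl | rfl | rfl | rfl | rfl | rfl | rfl | rfl | rfl | rfl | rfl | rfl | rfl | rfl | rfl | rfl
  · simpa only [ev, List.map_cons, lt, List.map_nil, List.prod_cons, List.prod_nil, mul_one, mul_assoc] using h.r3
  · simpa only [ev, List.map_cons, lt, List.map_nil, List.prod_cons, List.prod_nil, mul_one, pow_succ, pow_zero, one_mul,
      mul_assoc] using h.wr
  · simpa only [ev, List.map_cons, lt, List.map_nil, List.prod_cons, List.prod_nil, mul_one, pow_succ, pow_zero, one_mul,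
      mul_assoc] using h.kt
  · simpa [ev, lt, pow_succ, mul_assoc] using h.kw
  · simpa only [ev, List.map_cons, lt, List.map_nil, List.prod_cons, List.prod_nil, mul_one, mul_assoc] using h.kr
  · simpa only [ev, List.map_cons, lt, List.map_nil, List.prod_cons, List.prod_nil, mul_one, pow_succ, pow_zero, one_mul,
      mul_assoc] using h.nt
  · simpa only [ev, List.map_cons, lt, List.map_nil, List.prod_cons, List.prod_nil, mul_one, pow_succ, pow_zero, one_mul,
      mul_assoc] using h.nw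
  · simpa only [ev, List.map_cons, lt, List.map_nil, List.prod_cons, List.prod_nil, mul_one, mul_assoc] using h.nr
  · simpa only [ev, List.map_cons, lt, List.map_nil, List.prod_cons, List.prod_nil, mul_one, pow_succ, pow_zero, one_mul,
      mul_assoc] using h.zt
  · simpa only [ev, List.map_cons, lt, List.map_nil, List.prod_cons, List.prod_nil, mul_one, pow_succ, pow_zero, one_mul,
      mul_assoc] using h.zw
  · simpa only [ev, List.map_cons, lt, List.map_nil, List.prod_cons, List.prod_nil, mul_one, mul_assoc] using h.zr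
  · simpa only [ev, List.map_cons, lt, List.map_nil, List.prod_cons, List.prod_nil, mul_one, pow_succ, pow_zero, one_mul,
      mul_assoc] using h.zk
  · simpa [ev, lt, pow_succ, mul_assoc] using h.zn
  · simpa [ev, lt, pow_succ, mul_assoc] using h.zs
  · simpa only [ev, List.map_cons, lt, List.map_nil, List.prod_cons, List.prod_nil, mul_one, mul_assoc] using h.sr
  · simpa [ev, lt, pow_succ, mul_assoc] using h.wt
  · simpa [ev, lt, pow_succ, mul_assoc] using h.tr
  · simpa [ev, lt, pow_succ, mul_assoc] using h.kn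
  · simpa only [ev, List.map_cons, lt, List.map_nil, List.prod_cons, List.prod_nil, mul_one, mul_assoc] using h.ks
  · simpa only [ev, List.map_cons, lt, List.map_nil, List.prod_cons, List.prod_nil, mul_one, mul_assoc, pow_succ, pow_zero,
      one_mul] using h.trtr
  · simpa only [ev, List.map_cons, lt, List.map_nil, List.prod_cons, List.prod_nil, mul_one, mul_assoc, pow_succ, pow_zero,
      one_mul] using h.swt
  · simpa only [ev, List.map_cons, lt, List.map_nil, List.prod_cons, List.prod_nil, mul_one, pow_succ, pow_zero, one_mul,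
      mul_assoc] using h.sw
  · simpa [ev, lt, pow_succ, mul_assoc] using h.sn
  · have h1 : (s * n * w * s * w * n) ^ 2 * z = 1 := by rw [h.zz, h.z2]
    simpa only [ev, List.map_cons, lt, List.map_nil, List.prod_cons, List.prod_nil, mul_one, mul_assoc, pow_succ, pow_zero,
        one_mul] using h1
  · simpa only [ev, List.map_cons, lt, List.map_nil, List.prod_cons, List.prod_nil, mul_one, mul_assoc] using h.five

theorem inv_b (h : RelsC t w r k n z s) (m : G) : ∀ x, x < ELbData.C.k → ELbData.C.inv x < ELbData.C.k ∧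
    lt t w r k n z s m x * lt t w r k n z s m (ELbData.C.inv x) = 1 := by
  intro x hx
  have hx' : x < 8 := hx
  interval_cases x
  · exact ⟨by decide, h.t2⟩
  · exact ⟨by decide, h.w2⟩
  · exact ⟨by decide, mul_inv_cancel r⟩
  · exact ⟨by decide, inv_mul_cancel r⟩
  · exact ⟨by decide, h.k2⟩
  · exact ⟨by decide, h.n2⟩
  · exact ⟨by decide, h.z2⟩
  · exact ⟨by decide, h.s2⟩

theorem inv_c (h : RelsC t w r k n z s) (m : G) : ∀ x, x < ELcData.C.k → ELcData.C.inv x < ELcData.C.k ∧
    lt t w r k n z s m x * lt t w r k n z s m (ELcData.C.inv x) = 1 := by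
  intro x hx
  have hx' : x < 6 := hx
  interval_cases x
  · exact ⟨by decide, h.t2⟩
  · exact ⟨by decide, h.w2⟩
  · exact ⟨by decide, mul_inv_cancel r⟩
  · exact ⟨by decide, inv_mul_cancel r⟩
  · exact ⟨by decide, h.k2⟩
  · exact ⟨by decide, h.n2⟩

theorem inv_d (h : RelsC t w r k n z s) (m : G) : ∀ x, x < ELdData.C.k → ELdData.C.inv x < ELdData.C.k ∧
    lt t w r k n z s m x * lt t w r k n z s m (ELdData.C.inv x) = 1 := by
  intro x hx
  have hx' : x < 4 := hx
  interval_cases x
  · exact ⟨by decide, h.t2⟩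
  · exact ⟨by decide, h.w2⟩
  · exact ⟨by decide, mul_inv_cancel r⟩
  · exact ⟨by decide, inv_mul_cancel r⟩

theorem card_d (h : RelsC t w r k n z s) (m : G) :
    Finite (Subgroup.closure (lt t w r k n z s m '' {x | x < 4})) ∧
    Nat.card (Subgroup.closure (lt t w r k n z s m '' {x | x < 4})) ≤ 60 * 1 := by
  have := card_step ELdData.C (lt t w r k n z s m) ELdData.rels [] ⊥ (inv_d h m)
    (fun x hx _ => rels_ev h m x ((show ∀ x ∈ ELdData.rels, x ∈ ELbData.rels by decide) x hx))
    (by simp only [List.not_mem_nil, Subgroup.mem_bot, IsEmpty.forall_iff, implies_true]) (by decide +kernel) ELdAll.part inferInstance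
  have h1 : Nat.card (⊥ : Subgroup G) = 1 := by simp
  rw [h1] at this
  exact this

theorem card_c (h : RelsC t w r k n z s) (m : G) :
    Finite (Subgroup.closure (lt t w r k n z s m '' {x | x < 6})) ∧
    Nat.card (Subgroup.closure (lt t w r k n z s m '' {x | x < 6})) ≤ 6 * (60 * 1) := by
  have := card_step ELcData.C (lt t w r k n z s m) ELcData.rels ELcData.subw
    (Subgroup.closure (lt t w r k n z s m '' {x | x < 4})) (inv_c h m)
    (fun x hx _ => rels_ev h m x ((show ∀ x ∈ ELcData.rels, x ∈ ELbData.rels by decide) x hx))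
    (fun x hx _ => sub_letters _ 4 ELcData.subw (by decide) x hx) (by decide +kernel)
    ELcAll.part (card_d h m).1
  exact ⟨this.1, this.2.trans (Nat.mul_le_mul_left _ (card_d h m).2)⟩

private noncomputable def _root_.Cfsg.Agent.LsF.f291079_10 : {f // @Cfsg.Agent.SporadicRecognition.CosetCertHyp.WT.allB = f} := ⟨_, by first | (delta Cfsg.Agent.SporadicRecognition.CosetCertHyp.WT.allB Cfsg.Agent.SporadicRecognition.CosetCertHyp.WT.allB._f Cfsg.Agent.SporadicRecognition.CosetCert.WT.brecOn.go Cfsg.Agent.SporadicRecognition.CosetCert.WT.brecOn; rewrite [Cfsg.Agent.LsF.and_eq]; (try delta Cfsg.Agent.SporadicRecognition.CosetCertHyp.WT.allB.match_1); (try delta Cfsg.Agent.SporadicRecognition.CosetCert.WT.casesOn); first | dsimp -zeta only | exact rfl) | exact rfl⟩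
private noncomputable def _root_.Cfsg.Agent.LsF.f291079_11 : {f // @Cfsg.Agent.SporadicRecognition.CosetCertHyp.isRot = f} := ⟨_, by first | (delta Cfsg.Agent.SporadicRecognition.CosetCertHyp.isRot; rewrite [Cfsg.Agent.LsF.nadd_pat, Cfsg.Agent.LsF.instNBEq_pat, Cfsg.Agent.LsF.and_eq, Cfsg.Agent.LsF.any_eq, Cfsg.Agent.LsF.range_eq, Cfsg.Agent.LsF.instBEq_eq, Cfsg.Agent.LsF.length_eq]; exact rfl) | exact rfl⟩
private noncomputable def _root_.Cfsg.Agent.LsF.f291079_12 : {f // @Cfsg.Agent.SporadicRecognition.CosetCertHyp.invw = f} := ⟨_, by first | (delta Cfsg.Agent.SporadicRecognition.CosetCertHyp.invw; rewrite [Cfsg.Agent.LsF.map_eq, Cfsg.Agent.LsF.reverse_eq]; exact rfl) | exact rfl⟩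
private noncomputable def _root_.Cfsg.Agent.LsF.f291079_13 : {f // @Cfsg.Agent.SporadicRecognition.CosetCertHyp.okRel = f} := ⟨_, by first | (delta Cfsg.Agent.SporadicRecognition.CosetCertHyp.okRel; rewrite [Cfsg.Agent.LsF.f291079_11.2, Cfsg.Agent.LsF.f291079_12.2, Cfsg.Agent.LsF.and_eq, Cfsg.Agent.LsF.or_eq, Cfsg.Agent.LsF.all_eq, Cfsg.Agent.LsF.any_eq]; exact rfl) | exact rfl⟩
private noncomputable def _root_.Cfsg.Agent.LsF.f291079_14 : {f // @Cfsg.Agent.SporadicRecognition.CosetCertHyp.okWord = f} := ⟨_, by first | (delta Cfsg.Agent.SporadicRecognition.CosetCertHyp.okWord; rewrite [Cfsg.Agent.LsF.f291079_13.2, Cfsg.Agent.LsF.lappend_pat, Cfsg.Agent.LsF.and_eq, Cfsg.Agent.LsF.all_eq, Cfsg.Agent.LsF.dBoolEq_eq, Cfsg.Agent.LsF.ite_eq]; exact rfl) | exact rfl⟩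
private noncomputable def _root_.Cfsg.Agent.LsF.f291079_15 : {f // @Cfsg.Agent.SporadicRecognition.CosetCertHyp.ST.allB = f} := ⟨_, by first | (delta Cfsg.Agent.SporadicRecognition.CosetCertHyp.ST.allB Cfsg.Agent.SporadicRecognition.CosetCert.ST.brecOn Cfsg.Agent.SporadicRecognition.CosetCertHyp.ST.allB._f Cfsg.Agent.SporadicRecognition.CosetCert.ST.brecOn.go; rewrite [Cfsg.Agent.LsF.and_eq]; (try delta Cfsg.Agent.SporadicRecognition.CosetCertHyp.ST.allB.match_1); (try delta Cfsg.Agent.SporadicRecognition.CosetCert.ST.casesOn); first | dsimp -zeta only | exact rfl) | exact rfl⟩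
private noncomputable def _root_.Cfsg.Agent.LsF.f291079_16 : {f // @Cfsg.Agent.SporadicRecognition.CosetCertHyp.okSub = f} := ⟨_, by first | (delta Cfsg.Agent.SporadicRecognition.CosetCertHyp.okSub; rewrite [Cfsg.Agent.LsF.f291079_12.2, Cfsg.Agent.LsF.instNBEq_pat, Cfsg.Agent.LsF.lappend_pat, Cfsg.Agent.LsF.and_eq, Cfsg.Agent.LsF.all_eq, Cfsg.Agent.LsF.any_eq, Cfsg.Agent.LsF.instBEq_eq, Cfsg.Agent.LsF.dBoolEq_eq, Cfsg.Agent.LsF.ite_eq]; exact rfl) | exact rfl⟩
private noncomputable def _root_.Cfsg.Agent.LsF.f291079_17 : {f // @Cfsg.Agent.SporadicRecognition.CosetCertHyp.checkHyp = f} := ⟨_, by first | (delta Cfsg.Agent.SporadicRecognition.CosetCertHyp.checkHyp; rewrite [Cfsg.Agent.LsF.f291079_10.2, Cfsg.Agent.LsF.f291079_14.2, Cfsg.Agent.LsF.f291079_15.2, Cfsg.Agent.LsF.f291079_16.2, Cfsg.Agent.LsF.and_eq]; exact rfl) | exact rfl⟩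
private noncomputable def _root_.Cfsg.Agent.LsF.f291079_18 : {f // @Cfsg.Agent.TypeO8Minus.ELbData.C = f} := ⟨_, by first | (delta Cfsg.Agent.TypeO8Minus.ELbData.C; rewrite [Cfsg.Agent.LsF.cond_eq]; exact rfl) | exact rfl⟩
private noncomputable def _root_.Cfsg.Agent.LsF.f291079_19 : {f // @Cfsg.Agent.SporadicRecognition.CosetChain.restr = f} := ⟨_, by first | (delta Cfsg.Agent.SporadicRecognition.CosetChain.restr; rewrite [Cfsg.Agent.LsF.all_eq, Cfsg.Agent.LsF.filter_eq]; exact rfl) | exact rfl⟩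
theorem card_b (h : RelsC t w r k n z s) (m : G) :
    Finite (Subgroup.closure (lt t w r k n z s m '' {x | x < 8})) ∧
    Nat.card (Subgroup.closure (lt t w r k n z s m '' {x | x < 8})) ≤ 512 * (6 * (60 * 1)) := by
  have := card_step ELbData.C (lt t w r k n z s m) ELbData.rels ELbData.subw
    (Subgroup.closure (lt t w r k n z s m '' {x | x < 6})) (inv_b h m)
    (fun x hx _ => rels_ev h m x hx)
    (fun x hx _ => sub_letters _ 6 ELbData.subw (by decide) x hx) (by ((try (rewrite [Cfsg.Agent.LsF.f291079_17.2, Cfsg.Agent.LsF.f291079_18.2, Cfsg.Agent.LsF.f291079_19.2])); decide +kernel))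
    ELbAll.part (card_c h m).1
  exact ⟨this.1, this.2.trans (Nat.mul_le_mul_left _ (card_c h m).2)⟩

/-- the subgroup of the model -/
noncomputable abbrev CM : Subgroup (V ≃ₗ[ZMod 2] V) := Subgroup.closure (ltM '' {x | x < 8})

private noncomputable def _root_.Cfsg.Agent.LsF.f291079_20 : {f // @Cfsg.Agent.TypeO8Minus.ELaData.C = f} := ⟨_, by first | (delta Cfsg.Agent.TypeO8Minus.ELaData.C; rewrite [Cfsg.Agent.LsF.cond_eq]; exact rfl) | exact rfl⟩
theorem card_CM : 512 * (6 * 60) ≤ Nat.card CM := by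
  have h := Model.rels
  have := card_step ELaData.C ltM ELaData.rels ELaData.subw CM (Rel.inv_a h)
    (fun x hx _ => Rel.rels_ev h x hx)
    (fun x hx _ => sub_letters _ 8 ELaData.subw (by decide) x hx) (by ((try (rewrite [Cfsg.Agent.LsF.f291079_17.2, Cfsg.Agent.LsF.f291079_20.2, Cfsg.Agent.LsF.f291079_19.2])); decide +kernel))
    ELaAll.part (card_b h.toRelsC mM).1
  have h2 : Nat.card (Subgroup.closure (ltM '' {x | x < ELaData.C.k})) = 197406720 := by
    rw [← Ident.card_E, ← Gener.X_eq]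
    have : Subgroup.closure (ltM '' {x | x < ELaData.C.k}) = Gener.X := Rel.closure_eq _ _ _ _ _ _ _ _
    rw [this]
  have h3 := this.2
  rw [h2] at h3
  have : 1071 * (512 * (6 * 60)) = 197406720 := by norm_num
  omega

theorem RelsC_prod {H : Type*} [Group H] (h : RelsC t w r k n z s)
    {t' w' r' k' n' z' s' : H} (h' : RelsC t' w' r' k' n' z' s') :
    RelsC (t, t') (w, w') (r, r') (k, k') (n, n') (z, z') (s, s') where
  t2 := Prod.ext h.t2 h'.t2
  w2 := Prod.ext h.w2 h'.w2
  k2 := Prod.ext h.k2 h'.k2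
  n2 := Prod.ext h.n2 h'.n2
  z2 := Prod.ext h.z2 h'.z2
  s2 := Prod.ext h.s2 h'.s2
  r3 := Prod.ext h.r3 h'.r3
  wr := Prod.ext h.wr h'.wr
  wt := Prod.ext h.wt h'.wt
  tr := Prod.ext h.tr h'.tr
  trtr := Prod.ext h.trtr h'.trtr
  kn := Prod.ext h.kn h'.kn
  kt := Prod.ext h.kt h'.kt
  kw := Prod.ext h.kw h'.kw
  kr := Prod.ext h.kr h'.kr
  nt := Prod.ext h.nt h'.nt
  nw := Prod.ext h.nw h'.nw
  nr := Prod.ext h.nr h'.nr
  zt := Prod.ext h.zt h'.zt
  zw := Prod.ext h.zw h'.zw
  zr := Prod.ext h.zr h'.zr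
  zk := Prod.ext h.zk h'.zk
  zn := Prod.ext h.zn h'.zn
  zs := Prod.ext h.zs h'.zs
  sr := Prod.ext h.sr h'.sr
  ks := Prod.ext h.ks h'.ks
  swt := Prod.ext h.swt h'.swt
  sw := Prod.ext h.sw h'.sw
  sn := Prod.ext h.sn h'.sn
  five := Prod.ext h.five h'.five
  zz := Prod.ext h.zz h'.zz

theorem lt_pair (t w r k n z s m : G) (x : ℕ) :
    lt (t, tM) (w, wM) (r, rM) (k, kM) (n, nM) (z, zM) (s, sM) (m, mM) x =
      (lt t w r k n z s m x, ltM x) := by
  rcases x with _ | _ | _ | _ | _ | _ | _ | _ | x <;> rfl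

theorem ev_pair (t w r k n z s m : G) (u : List ℕ) :
    ev (lt (t, tM) (w, wM) (r, rM) (k, kM) (n, nM) (z, zM) (s, sM) (m, mM)) u =
      (ev (lt t w r k n z s m) u, ev ltM u) := by
  induction u with
  | nil => rfl
  | cons x u ih => rw [ev_cons, ev_cons, ev_cons, ih, lt_pair]; rfl

theorem ev_mem_closure {H : Type*} [Group H] (g : ℕ → H) {u : List ℕ} {j : ℕ} (hu : ∀ x ∈ u, x < j) :
    ev g u ∈ Subgroup.closure (g '' {x | x < j}) := by
  induction u with
  | nil => exact Subgroup.one_mem _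
  | cons x u ih =>
    rw [ev_cons]
    exact Subgroup.mul_mem _ (Subgroup.subset_closure ⟨x, hu x (by simp), rfl⟩)
      (ih fun y hy => hu y (by simp [hy]))

/-- **The word principle.** -/
theorem ev_eq (h : RelsC t w r k n z s) (m : G) {u v : List ℕ} (hu : ∀ x ∈ u, x < 8)
    (hv : ∀ x ∈ v, x < 8) (huv : ev ltM u = ev ltM v) :
    ev (lt t w r k n z s m) u = ev (lt t w r k n z s m) v := by
  classical
  set L := lt (t, tM) (w, wM) (r, rM) (k, kM) (n, nM) (z, zM) (s, sM) (m, mM) with hL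
  set Γ := Subgroup.closure (L '' {x | x < 8}) with hΓ
  obtain ⟨hfin, hcard⟩ := card_b (RelsC_prod h Model.rels.toRelsC) (m, mM)
  rw [← hL, ← hΓ] at hfin hcard
  let f : Γ →* CM := ((MonoidHom.snd G (V ≃ₗ[ZMod 2] V)).comp Γ.subtype).codRestrict CM (by
    have hle : Γ ≤ CM.comap (MonoidHom.snd G (V ≃ₗ[ZMod 2] V)) := by
      rw [hΓ, Subgroup.closure_le]
      rintro _ ⟨x, hx, rfl⟩
      show (L x).2 ∈ CM
      rw [hL, lt_pair]
      exact Subgroup.subset_closure ⟨x, hx, rfl⟩
    exact fun x => hle x.2)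
  have hfs : Function.Surjective f := by
    have hle : CM ≤ Γ.map (MonoidHom.snd G (V ≃ₗ[ZMod 2] V)) := by
      rw [Subgroup.closure_le]
      rintro _ ⟨x, hx, rfl⟩
      refine ⟨L x, Subgroup.subset_closure ⟨x, hx, rfl⟩, ?_⟩
      rw [hL, lt_pair]
      rfl
    rintro ⟨y, hy⟩
    obtain ⟨x, hx, rfl⟩ := hle hy
    exact ⟨⟨x, hx⟩, rfl⟩
  have hfC : Finite CM := Finite.of_surjective f hfs
  have hinj : Function.Injective f := by
    have := Fintype.ofFinite Γ
    have := Fintype.ofFinite CM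
    have h1 : Nat.card Γ ≤ Nat.card CM := hcard.trans card_CM
    have h2 : Fintype.card CM = Fintype.card Γ := by
      apply le_antisymm
      · exact Fintype.card_le_of_surjective f hfs
      · rwa [← Nat.card_eq_fintype_card, ← Nat.card_eq_fintype_card]
    exact ((Fintype.bijective_iff_surjective_and_card f).2 ⟨hfs, h2.symm⟩).1
  have hmem : ∀ u : List ℕ, (∀ x ∈ u, x < 8) → (ev (lt t w r k n z s m) u, ev ltM u) ∈ Γ := by
    intro u hu
    rw [← ev_pair]
    exact ev_mem_closure L hu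
  have key : (⟨_, hmem u hu⟩ : Γ) = ⟨_, hmem v hv⟩ := by
    apply hinj
    apply Subtype.ext
    exact huv
  exact congrArg (fun x : Γ => (x : G × (V ≃ₗ[ZMod 2] V)).1) key

/-- fast tables of the letters: byte `c` of `big x` is the image of the code `c` -/
def big (x : ℕ) : ℕ :=
  bif Nat.beq x 0 then 0x3b3a39383f3e3d3c33323130373635342b2a29282f2e2d2c2322212027262524dfdedddcdbdad9d8d7d6d5d4d3d2d1d0cfcecdcccbcac9c8c7c6c5c4c3c2c1c07f7e7d7c7b7a797877767574737271706f6e6d6c6b6a696867666564636261609b9a99989f9e9d9c93929190979695948b8a89888f8e8d8c8382818087868584bfbebdbcbbbab9b8b7b6b5b4b3b2b1b0afaeadacabaaa9a8a7a6a5a4a3a2a1a05b5a59585f5e5d5c53525150575655544b4a49484f4e4d4c4342414047464544fbfaf9f8fffefdfcf3f2f1f0f7f6f5f4ebeae9e8efeeedece3e2e1e0e7e6e5e41f1e1d1c1b1a191817161514131211100f0e0d0c0b0a09080706050403020100 else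
  bif Nat.beq x 1 then 0xfffefdfcdfdedddcf7f6f5f4d7d6d5d4efeeedeccfcecdcce7e6e5e4c7c6c5c4fbfaf9f8dbdad9d8f3f2f1f0d3d2d1d0ebeae9e8cbcac9c8e3e2e1e0c3c2c1c07f7e7d7c5f5e5d5c77767574575655546f6e6d6c4f4e4d4c67666564474645447b7a79785b5a595873727170535251506b6a69684b4a49486362616043424140bfbebdbc9f9e9d9cb7b6b5b497969594afaeadac8f8e8d8ca7a6a5a487868584bbbab9b89b9a9998b3b2b1b093929190abaaa9a88b8a8988a3a2a1a0838281803f3e3d3c1f1e1d1c37363534171615142f2e2d2c0f0e0d0c27262524070605043b3a39381b1a191833323130131211102b2a29280b0a09082322212003020100 else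
  bif Nat.beq x 2 then 0xbfbebdbcbbbab9b8b7b6b5b4b3b2b1b0afaeadacabaaa9a8a7a6a5a4a3a2a1a09f9e9d9c9b9a999897969594939291908f8e8d8c8b8a898887868584838281807f7e7d7c7b7a797877767574737271706f6e6d6c6b6a696867666564636261605f5e5d5c5b5a595857565554535251504f4e4d4c4b4a49484746454443424140fffefdfcfbfaf9f8f7f6f5f4f3f2f1f0efeeedecebeae9e8e7e6e5e4e3e2e1e0dfdedddcdbdad9d8d7d6d5d4d3d2d1d0cfcecdcccbcac9c8c7c6c5c4c3c2c1c03f3e3d3c3b3a393837363534333231302f2e2d2c2b2a292827262524232221201f1e1d1c1b1a191817161514131211100f0e0d0c0b0a09080706050403020100 else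
  bif Nat.beq x 3 then 0x7f7e7d7c7b7a797877767574737271706f6e6d6c6b6a696867666564636261605f5e5d5c5b5a595857565554535251504f4e4d4c4b4a49484746454443424140fffefdfcfbfaf9f8f7f6f5f4f3f2f1f0efeeedecebeae9e8e7e6e5e4e3e2e1e0dfdedddcdbdad9d8d7d6d5d4d3d2d1d0cfcecdcccbcac9c8c7c6c5c4c3c2c1c0bfbebdbcbbbab9b8b7b6b5b4b3b2b1b0afaeadacabaaa9a8a7a6a5a4a3a2a1a09f9e9d9c9b9a999897969594939291908f8e8d8c8b8a898887868584838281803f3e3d3c3b3a393837363534333231302f2e2d2c2b2a292827262524232221201f1e1d1c1b1a191817161514131211100f0e0d0c0b0a09080706050403020100 else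
  bif Nat.beq x 4 then 0xeeefedeceaebe9e8f6f7f5f4f2f3f1f0fefffdfcfafbf9f8e6e7e5e4e2e3e1e0cecfcdcccacbc9c8d6d7d5d4d2d3d1d0dedfdddcdadbd9d8c6c7c5c4c2c3c1c0aeafadacaaaba9a8b6b7b5b4b2b3b1b0bebfbdbcbabbb9b8a6a7a5a4a2a3a1a08e8f8d8c8a8b898896979594929391909e9f9d9c9a9b999886878584828381806e6f6d6c6a6b696876777574727371707e7f7d7c7a7b797866676564626361604e4f4d4c4a4b494856575554525351505e5f5d5c5a5b595846474544424341402e2f2d2c2a2b292836373534323331303e3f3d3c3a3b393826272524222321200e0f0d0c0a0b090816171514121311101e1f1d1c1a1b19180607050402030100 else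
  bif Nat.beq x 5 then 0xfffdfefcfbf9faf8efedeeecebe9eae8f7f5f6f4f3f1f2f0e7e5e6e4e3e1e2e0dfdddedcdbd9dad8cfcdcecccbc9cac8d7d5d6d4d3d1d2d0c7c5c6c4c3c1c2c0bfbdbebcbbb9bab8afadaeacaba9aaa8b7b5b6b4b3b1b2b0a7a5a6a4a3a1a2a09f9d9e9c9b999a988f8d8e8c8b898a88979596949391929087858684838182807f7d7e7c7b797a786f6d6e6c6b696a68777576747371727067656664636162605f5d5e5c5b595a584f4d4e4c4b494a48575556545351525047454644434142403f3d3e3c3b393a382f2d2e2c2b292a28373536343331323027252624232122201f1d1e1c1b191a180f0d0e0c0b090a0817151614131112100705060403010200 else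
  bif Nat.beq x 6 then 0xfcfdfefff8f9fafbf6f7f4f5f2f3f0f1edecefeee9e8ebeae7e6e5e4e3e2e1e0dcdddedfd8d9dadbd6d7d4d5d2d3d0d1cdcccfcec9c8cbcac7c6c5c4c3c2c1c0bcbdbebfb8b9babbb6b7b4b5b2b3b0b1adacafaea9a8abaaa7a6a5a4a3a2a1a09c9d9e9f98999a9b96979495929390918d8c8f8e89888b8a87868584838281807c7d7e7f78797a7b76777475727370716d6c6f6e69686b6a67666564636261605c5d5e5f58595a5b56575455525350514d4c4f4e49484b4a47464544434241403c3d3e3f38393a3b36373435323330312d2c2f2e29282b2a27262524232221201c1d1e1f18191a1b16171415121310110d0c0f0e09080b0a0706050403020100 else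
  bif Nat.beq x 7 then 0xdddcdfdedbdad9d8d5d4d7d6d3d2d1d0edecefeeebeae9e8e5e4e7e6e3e2e1e0fdfcfffefbfaf9f8f5f4f7f6f3f2f1f0cdcccfcecbcac9c8c5c4c7c6c3c2c1c09d9c9f9e9b9a99989594979693929190adacafaeabaaa9a8a5a4a7a6a3a2a1a0bdbcbfbebbbab9b8b5b4b7b6b3b2b1b08d8c8f8e8b8a898885848786838281805d5c5f5e5b5a595855545756535251506d6c6f6e6b6a696865646766636261607d7c7f7e7b7a797875747776737271704d4c4f4e4b4a494845444746434241401d1c1f1e1b1a191815141716131211102d2c2f2e2b2a292825242726232221203d3c3f3e3b3a393835343736333231300d0c0f0e0b0a09080504070603020100 else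
  0xfffefbfafdfcf9f8f7f6f3f2f5f4f1f0dfdedbdadddcd9d8d7d6d3d2d5d4d1d0efeeebeaedece9e8e7e6e3e2e5e4e1e0cfcecbcacdccc9c8c7c6c3c2c5c4c1c0bfbebbbabdbcb9b8b7b6b3b2b5b4b1b09f9e9b9a9d9c99989796939295949190afaeabaaadaca9a8a7a6a3a2a5a4a1a08f8e8b8a8d8c898887868382858481807f7e7b7a7d7c797877767372757471705f5e5b5a5d5c595857565352555451506f6e6b6a6d6c696867666362656461604f4e4b4a4d4c494847464342454441403f3e3b3a3d3c393837363332353431301f1e1b1a1d1c191817161312151411102f2e2b2a2d2c292827262322252421200f0e0b0a0d0c09080706030205040100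

/-- image of a code, fast version -/
def ap1 (x c : ℕ) : ℕ := Nat.land (Nat.shiftRight (big x) (Nat.mul 8 c)) 255

private noncomputable def _root_.Cfsg.Agent.LsF.f291079_21 : {f // @Cfsg.Agent.TypeOMinusEight.Words.big = f} := ⟨_, by first | (delta Cfsg.Agent.TypeOMinusEight.Words.big; rewrite [Cfsg.Agent.LsF.cond_eq]; exact rfl) | exact rfl⟩
private noncomputable def _root_.Cfsg.Agent.LsF.f291079_22 : {f // @Cfsg.Agent.TypeOMinusEight.Words.ap1 = f} := ⟨_, by first | (delta Cfsg.Agent.TypeOMinusEight.Words.ap1; rewrite [Cfsg.Agent.LsF.f291079_21.2]; exact rfl) | exact rfl⟩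
theorem ap1_check : (List.range 9).all (fun x => (List.range 256).all fun c =>
    Nat.beq (ap1 x c) (app (tab x) c)) = true := by ((try (rewrite [Cfsg.Agent.LsF.f291079_22.2, Cfsg.Agent.LsF.f291079_4.2, Cfsg.Agent.LsF.f291079_5.2, Cfsg.Agent.LsF.all_eq, Cfsg.Agent.LsF.range_eq])); decide +kernel)

theorem ap1_eq {x c : ℕ} (hx : x < 9) (hc : c < 256) : ap1 x c = app (tab x) c :=
  Nat.eq_of_beq_eq_true (allB_sound (allB_sound ap1_check x hx) c hc)

/-- image of a code under a word, fast version -/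
def wd1 (u : List ℕ) (c : ℕ) : ℕ := u.foldr ap1 c

theorem wd1_eq {u : List ℕ} (hu : ∀ x ∈ u, x < 9) {c : ℕ} (hc : c < 256) : wd1 u c = wd u c := by
  induction u with
  | nil => rfl
  | cons x u ih =>
    have h1 := ih fun y hy => hu y (by simp [hy])
    show ap1 x (wd1 u c) = app (tab x) (wd u c)
    rw [h1, ap1_eq (hu x (by simp)) (wd_lt (fun y hy => hu y (by simp [hy])) hc)]

/-- the checker -/
def chk (u v : List ℕ) : Bool :=
  u.all (fun x => Nat.ble x 7) && (v.all (fun x => Nat.ble x 7) &&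
    [1, 2, 4, 8, 16, 32, 64, 128].all fun i => Nat.beq (wd1 u i) (wd1 v i))

theorem ev_of_chk (h : RelsC t w r k n z s) (m : G) {u v : List ℕ} (hc : chk u v = true) :
    ev (lt t w r k n z s m) u = ev (lt t w r k n z s m) v := by
  rw [chk, Bool.and_eq_true, Bool.and_eq_true] at hc
  obtain ⟨h1, h2, h3⟩ := hc
  have h1' : ∀ x ∈ u, x < 8 := fun x hx => Nat.lt_succ_of_le (Nat.le_of_ble_eq_true (List.all_eq_true.1 h1 x hx))
  have h2' : ∀ x ∈ v, x < 8 := fun x hx => Nat.lt_succ_of_le (Nat.le_of_ble_eq_true (List.all_eq_true.1 h2 x hx))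
  have h1'' : ∀ x ∈ u, x < 9 := fun x hx => Nat.lt_of_lt_of_le (h1' x hx) (by norm_num)
  have h2'' : ∀ x ∈ v, x < 9 := fun x hx => Nat.lt_of_lt_of_le (h2' x hx) (by norm_num)
  refine ev_eq h m h1' h2' ?_
  apply ext_code
  intro i hi
  have hc : 1 <<< i < 256 := by interval_cases i <;> decide
  rw [ev_vec h1'' hc, ev_vec h2'' hc, ← wd1_eq h1'' hc, ← wd1_eq h2'' hc]
  have h4 : (1 <<< i) ∈ [1, 2, 4, 8, 16, 32, 64, 128] := by interval_cases i <;> decide
  rw [Nat.eq_of_beq_eq_true (List.all_eq_true.1 h3 _ h4)]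

end words

end Cfsg.Agent.TypeOMinusEight.Words
end

-- part: TypeOMinusEight/Code
section
/-!
Products of numbered elements over the bits of a code, and coordinates in an extraspecial group of order `2 ^ 9`.
-/

set_option autoImplicit false

namespace Cfsg.Agent.TypeOMinusEight.Code

open Cfsg.Agent.Co2Type.Quad

variable {G : Type*} [Group G]

/-- `x` or `1` -/
def cb (b : Bool) (x : G) : G := cond b x 1

theorem cb_true (x : G) : cb true x = x := rfl
theorem cb_false (x : G) : cb false x = 1 := rfl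

theorem cb_xor {x : G} (hx : x * x = 1) (b b' : Bool) : cb (b ^^ b') x = cb b x * cb b' x := by
  cases b <;> cases b' <;> simp [cb, hx]

theorem cb_comm {x y : G} (h : x * y = y * x) (b : Bool) : cb b x * y = y * cb b x := by
  cases b <;> simp [cb, h]

/-- bit `n` of `c` (kernel friendly) -/
def bt (c n : ℕ) : Bool := Nat.beq (Nat.land (Nat.shiftRight c n) 1) 1

theorem bt_eq (c n : ℕ) : bt c n = c.testBit n := by
  rw [bt, Nat.testBit_eq_decide_div_mod_eq]
  have h1 : Nat.land (Nat.shiftRight c n) 1 = c / 2 ^ n % 2 := by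
    show (c >>> n) &&& 1 = _
    rw [Nat.and_one_is_mod, Nat.shiftRight_eq_div_pow]
  rw [h1]
  rcases Nat.mod_two_eq_zero_or_one (c / 2 ^ n) with h | h <;> rw [h] <;> rfl

theorem bt_zero (n : ℕ) : bt 0 n = false := by rw [bt_eq, Nat.zero_testBit]

theorem bt_xor (c d n : ℕ) : bt (c ^^^ d) n = (bt c n ^^ bt d n) := by
  rw [bt_eq, bt_eq, bt_eq, Nat.testBit_xor]

/-- product of the `f i`, `i < n`, over the bits of `c` -/
def io (f : ℕ → G) (c : ℕ) (n : ℕ) : G := Nat.rec 1 (fun i x => x * cb (bt c i) (f i)) n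

theorem io_zero (f : ℕ → G) (c : ℕ) : io f c 0 = 1 := rfl
theorem io_succ (f : ℕ → G) (c n : ℕ) : io f c (n + 1) = io f c n * cb (bt c n) (f n) := rfl

theorem io_code_zero (f : ℕ → G) (n : ℕ) : io f 0 n = 1 := by
  induction n with
  | zero => rfl
  | succ n ih => rw [io_succ, ih, bt_zero, cb_false, mul_one]

theorem io_mem {f : ℕ → G} {Q : Subgroup G} {n : ℕ} (hf : ∀ i < n, f i ∈ Q) (c : ℕ) : io f c n ∈ Q := by
  induction n with
  | zero => exact Q.one_mem
  | succ n ih =>
    rw [io_succ]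
    refine Q.mul_mem (ih fun i hi => hf i (by omega)) ?_
    cases bt c n
    · exact Q.one_mem
    · exact hf n (by omega)

theorem io_mem_of_bits {f : ℕ → G} {A : Subgroup G} {n : ℕ} {c : ℕ}
    (hf : ∀ i < n, bt c i = true → f i ∈ A) : io f c n ∈ A := by
  induction n with
  | zero => exact A.one_mem
  | succ n ih =>
    rw [io_succ]
    refine A.mul_mem (ih fun i hi => hf i (by omega)) ?_
    rcases hb : bt c n with _ | _
    · exact A.one_mem
    · exact hf n (by omega) hb

theorem io_congr {f g : ℕ → G} {n : ℕ} (h : ∀ i < n, f i = g i) (c : ℕ) : io f c n = io g c n := by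
  induction n with
  | zero => rfl
  | succ n ih => rw [io_succ, io_succ, ih fun i hi => h i (by omega), h n (by omega)]

theorem io_comm {f : ℕ → G} {n : ℕ} {y : G} (hf : ∀ i < n, f i * y = y * f i) (c : ℕ) :
    io f c n * y = y * io f c n := by
  induction n with
  | zero => rw [io_zero, one_mul, mul_one]
  | succ n ih =>
    rw [io_succ, mul_assoc, cb_comm (hf n (by omega)), ← mul_assoc, ih fun i hi => hf i (by omega),
      mul_assoc]

/-- commuting involutions: `io` is a homomorphism for `xor` -/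
theorem io_xor {f : ℕ → G} {n : ℕ} (h2 : ∀ i < n, f i * f i = 1)
    (hc : ∀ i < n, ∀ j < n, f i * f j = f j * f i) (c d : ℕ) :
    io f (c ^^^ d) n = io f c n * io f d n := by
  induction n with
  | zero => rw [io_zero, io_zero, io_zero, one_mul]
  | succ n ih =>
    rw [io_succ, io_succ, io_succ, ih (fun i hi => h2 i (by omega))
      (fun i hi j hj => hc i (by omega) j (by omega)), bt_xor, cb_xor (h2 n (by omega))]
    have h3 : io f d n * cb (bt c n) (f n) = cb (bt c n) (f n) * io f d n := by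
      apply io_comm
      intro i hi
      exact (cb_comm (hc n (by omega) i (by omega)) _).symm
    calc io f c n * io f d n * (cb (bt c n) (f n) * cb (bt d n) (f n))
        = io f c n * (io f d n * cb (bt c n) (f n)) * cb (bt d n) (f n) := by group
      _ = _ := by rw [h3]; group

theorem io_sq {f : ℕ → G} {n : ℕ} (h2 : ∀ i < n, f i * f i = 1)
    (hc : ∀ i < n, ∀ j < n, f i * f j = f j * f i) (c : ℕ) : io f c n * io f c n = 1 := by
  rw [← io_xor h2 hc, Nat.xor_self, io_code_zero]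

/-- xor of the codes `L i` over the bits of `c` -/
def ap (L : ℕ → ℕ) (c : ℕ) (n : ℕ) : ℕ :=
  Nat.rec 0 (fun i x => Nat.xor x (cond (bt c i) (L i) 0)) n

theorem ap_succ (L : ℕ → ℕ) (c n : ℕ) :
    ap L c (n + 1) = ap L c n ^^^ (cond (bt c n) (L n) 0) := rfl

/-- conjugation in coordinates -/
theorem io_conj {f : ℕ → G} {n : ℕ} (h2 : ∀ i < n, f i * f i = 1)
    (hc : ∀ i < n, ∀ j < n, f i * f j = f j * f i) {g : G} {L : ℕ → ℕ}
    (hL : ∀ i < n, g * f i * g⁻¹ = io f (L i) n) (c : ℕ) :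
    g * io f c n * g⁻¹ = io f (ap L c n) n := by
  have key : ∀ l ≤ n, g * io f c l * g⁻¹ = io f (ap L c l) n := by
    intro l
    induction l with
    | zero =>
      intro _
      rw [io_zero, mul_one, mul_inv_cancel]
      exact (io_code_zero f n).symm
    | succ l ih =>
      intro hl
      rw [io_succ, ap_succ, io_xor h2 hc, ← ih (by omega)]
      have e : g * (io f c l * cb (bt c l) (f l)) * g⁻¹ =
          g * io f c l * g⁻¹ * (g * cb (bt c l) (f l) * g⁻¹) := by group
      rw [e]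
      congr 1
      cases bt c l
      · rw [cb_false, mul_one, mul_inv_cancel]
        exact (io_code_zero f n).symm
      · exact hL l (by omega)
  exact key n le_rfl

/-- commutation bits -/
def xs (β : ℕ → Bool) (c : ℕ) (n : ℕ) : Bool :=
  Nat.rec false (fun i x => bif (bif bt c i then β i else false) then (!x) else x) n

theorem xs_succ (β : ℕ → Bool) (c n : ℕ) : xs β c (n + 1) = (xs β c n ^^ (bt c n && β n)) := by
  show (bif (bif bt c n then β n else false) then (!xs β c n) else xs β c n) = _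
  cases bt c n <;> cases β n <;> cases xs β c n <;> rfl

section Large

variable {Q : Subgroup G} {z : G}

theorem io_gram (h : Large Q z) {f : ℕ → G} {n : ℕ} (hf : ∀ i < n, f i ∈ Q) {y : G}
    {β : ℕ → Bool} (hβ : ∀ i < n, f i * y = y * f i * cb (β i) z) (c : ℕ) :
    io f c n * y = y * io f c n * cb (xs β c n) z := by
  induction n with
  | zero => rw [io_zero, one_mul, mul_one]; exact (mul_one y).symm
  | succ n ih =>
    have h1 := ih (fun i hi => hf i (by omega)) (fun i hi => hβ i (by omega))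
    have h2 := hβ n (by omega)
    have hn := hf n (by omega)
    rw [io_succ, xs_succ, cb_xor h.z_sq]
    have hz : ∀ (b : Bool) (x : G), x ∈ Q → cb b z * x = x * cb b z := fun b x hx =>
      cb_comm (h.comm_z x hx).symm b
    rcases hb : bt c n with _ | _
    · rw [cb_false, mul_one, Bool.false_and, cb_false, mul_one, h1]
    · rw [cb_true, Bool.true_and]
      calc io f c n * f n * y = io f c n * (f n * y) := by group
        _ = (io f c n * y) * f n * cb (β n) z := by rw [h2]; group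
        _ = y * io f c n * (cb (xs β c n) z * f n) * cb (β n) z := by rw [h1]; group
        _ = y * (io f c n * f n) * (cb (xs β c n) z * cb (β n) z) := by rw [hz _ _ hn]; group

/-- the key of a code: its commutation bits with the eight elements -/
def key (gram : ℕ → ℕ → Bool) (c : ℕ) (n : ℕ) : ℕ :=
  Nat.rec 0 (fun j x => Nat.add x (cond (xs (fun i => gram i j) c 8) (Nat.pow 2 j) 0)) n

theorem key_congr {gram : ℕ → ℕ → Bool} {c d : ℕ} :
    ∀ n, (∀ j < n, xs (fun i => gram i j) c 8 = xs (fun i => gram i j) d 8) →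
      key gram c n = key gram d n := by
  intro n
  induction n with
  | zero => intro _; rfl
  | succ n ih =>
    intro hj
    show Nat.add (key gram c n) _ = Nat.add (key gram d n) _
    rw [ih fun j hjn => hj j (by omega), hj n (by omega)]

theorem cb_inj (hz : (z : G) ≠ 1) {b b' : Bool} (hb : cb b z = cb b' z) : b = b' := by
  cases b <;> cases b'
  · rfl
  · exact absurd hb.symm hz
  · exact absurd hb hz
  · rfl

/-- the commutation bit of `x = io c` or `io c * z` -/
theorem bit_gen (h : Large Q z) {f : ℕ → G} (hf : ∀ i < 8, f i ∈ Q) {gram : ℕ → ℕ → Bool}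
    (hg : ∀ i < 8, ∀ j < 8, f i * f j = f j * f i * cb (gram i j) z) {c : ℕ} {x : G}
    (hx : x = io f c 8 ∨ x = io f c 8 * z) {j : ℕ} (hj : j < 8) {β : Bool}
    (hc : x * f j = f j * x * cb β z) : xs (fun i => gram i j) c 8 = β := by
  have h1 := io_gram h hf (y := f j) (β := fun i => gram i j) (fun i hi => hg i hi j hj) c
  have hz := h.comm_z _ (hf j hj)
  rcases hx with rfl | rfl
  · rw [h1] at hc
    exact cb_inj h.z_ne (mul_left_cancel hc)
  · have h2 : io f c 8 * z * f j = f j * (io f c 8 * z) * cb (xs (fun i => gram i j) c 8) z := by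
      rw [mul_assoc, ← hz, ← mul_assoc, h1, mul_assoc _ _ z,
        cb_comm (rfl : z * z = z * z) (xs (fun i => gram i j) c 8)]
      group
    rw [h2] at hc
    exact cb_inj h.z_ne (mul_left_cancel hc)

/-- Eight elements with nondegenerate commutator matrix generate `Q / ⟨z⟩`. -/
theorem exists_code [Finite Q] (h : Large Q z) (hc : Nat.card Q = 2 ^ 9) {f : ℕ → G}
    (hf : ∀ i < 8, f i ∈ Q) {gram : ℕ → ℕ → Bool}
    (hg : ∀ i < 8, ∀ j < 8, f i * f j = f j * f i * cb (gram i j) z)
    {u : ℕ → ℕ} (hnd : ∀ c < 256, u (key gram c 8) = c) {x : G} (hx : x ∈ Q) :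
    ∃ c < 256, x = io f c 8 ∨ x = io f c 8 * z := by
  classical
  let F : Fin 256 → h.V := fun c => h.pr ⟨io f c 8, io_mem hf c⟩
  have hF : Function.Injective F := by
    intro c d hcd
    have h1 : ∀ j < 8, xs (fun i => gram i j) c 8 = xs (fun i => gram i j) d 8 := by
      intro j hj
      have e1 := io_gram h (n := 8) hf (y := f j) (β := fun i => gram i j) (fun i hi => hg i hi j hj) (c : ℕ)
      have e2 := io_gram h (n := 8) hf (y := f j) (β := fun i => gram i j) (fun i hi => hg i hi j hj) (d : ℕ)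
      rcases h.pr_eq_pr.1 hcd with h3 | h3
      · have h3' : io f c 8 = io f d 8 := h3
        rw [h3', e2] at e1
        exact (cb_inj h.z_ne (mul_left_cancel e1)).symm
      · have h3' : io f c 8 = io f d 8 * z := h3
        rw [h3'] at e1
        have e3 : io f d 8 * z * f j = f j * io f d 8 * cb (xs (fun i => gram i j) d 8) z * z := by
          rw [mul_assoc, ← h.comm_z _ (hf j hj), ← mul_assoc, e2]
        rw [e3] at e1
        have e4 : f j * io f d 8 * cb (xs (fun i => gram i j) d 8) z * z =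
            f j * (io f d 8 * z) * cb (xs (fun i => gram i j) d 8) z := by
          have : cb (xs (fun i => gram i j) d 8) z * z = z * cb (xs (fun i => gram i j) d 8) z :=
            cb_comm rfl _
          rw [mul_assoc _ _ z, this]; group
        rw [e4] at e1
        exact (cb_inj h.z_ne (mul_left_cancel e1)).symm
    apply Fin.ext
    rw [← hnd c c.2, ← hnd d d.2, key_congr 8 h1]
  have hV : Nat.card h.V = 256 := by
    have := h.card_eq
    rw [hc] at this
    omega
  have hVf : Finite h.V := Nat.finite_of_card_ne_zero (by rw [hV]; norm_num)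
  have hsurj : Function.Surjective F := by
    have := Fintype.ofFinite h.V
    have hb : Function.Bijective F := by
      rw [Fintype.bijective_iff_injective_and_card]
      exact ⟨hF, by rw [Fintype.card_fin, ← Nat.card_eq_fintype_card, hV]⟩
    exact hb.2
  obtain ⟨c, hc'⟩ := hsurj (h.pr ⟨x, hx⟩)
  refine ⟨c, c.2, ?_⟩
  exact h.pr_eq_pr.1 hc'.symm

end Large

end Cfsg.Agent.TypeOMinusEight.Code
end

-- part: TypeOMinusEight/Data
section
/-!
The interface `CData` (structure of `C_G(z)`, helper43) and coordinates in `Q` (helper46).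
-/

set_option autoImplicit false
set_option maxRecDepth 100000

namespace Cfsg.Agent.TypeOMinusEight.Data

open Cfsg.Agent.SporadicRecognition.CosetCert Cfsg.Agent.TypeO8Minus.Rel
  Cfsg.Agent.Co2Type.Quad Cfsg.Agent.LargeExtra.Base Cfsg.Agent.TypeOMinusEight.Words
  Cfsg.Agent.TypeOMinusEight.Code

/-- **Interface**: what the analysis of `C_G(z)` provides. -/
structure CData {G : Type*} [Group G] {Q A : Subgroup G} {z a : G} (p : Pair Q z A a)
    (t w r k n s : G) : Prop where
  rels : RelsC t w r k n z s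
  card : Nat.card Q = 2 ^ 9
  s_mem : s ∈ Q
  a_eq : w * (n * s * n) * w = a
  e_mem : w * s * w ∈ A
  d_mem : n * (s * (t * s * t) * (w * s * w)) * n ∈ A
  kX : ∃ x ∈ A, x * z = z * x ∧ k * x ∈ Q
  tX : ∃ x ∈ A, x * z = z * x ∧ t * x ∈ Q
  zQ : ∀ x ∈ Q, IsConj z x → x = z ∨
    ∃ g ∈ Subgroup.closure ({t, w, r, k, n} : Set G), x = g * s * g⁻¹ ∨ x = g * s * g⁻¹ * z

/-! ### words -/

def wU : List ℕ := [7,0,7,0,1,7,1]
def wN : List ℕ := [5,7,0,7,0,1,7,1,5]

/-- the eight elements of `Q`: `a, α, ν, ν', e, s, u, u'` -/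
def wQ (i : ℕ) : List ℕ :=
  bif Nat.beq i 0 then [1,5,7,5,1] else bif Nat.beq i 1 then [5,7,5] else
  bif Nat.beq i 2 then wN else bif Nat.beq i 3 then 2 :: (wN ++ [3]) else
  bif Nat.beq i 4 then [1,7,1] else bif Nat.beq i 5 then [7] else
  bif Nat.beq i 6 then wU else 2 :: (wU ++ [3])

/-- the six generators of `E`: `z, a, α, ν, ν', k` -/
def wE (i : ℕ) : List ℕ :=
  bif Nat.beq i 0 then [6] else bif Nat.beq i 1 then [1,5,7,5,1] else bif Nat.beq i 2 then [5,7,5] else
  bif Nat.beq i 3 then wN else bif Nat.beq i 4 then 2 :: (wN ++ [3]) else [4]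

/-- word of a product over a code -/
def iw (ws : ℕ → List ℕ) (c : ℕ) (n : ℕ) : List ℕ :=
  Nat.rec [] (fun i a => a ++ (bif bt c i then ws i else [])) n

theorem iw_succ (ws : ℕ → List ℕ) (c n : ℕ) :
    iw ws c (n + 1) = iw ws c n ++ (bif bt c n then ws n else []) := rfl

/-- inverse letter -/
def ix (x : ℕ) : ℕ := bif Nat.beq x 2 then 3 else bif Nat.beq x 3 then 2 else x

section ev

variable {G : Type*} [Group G]

theorem ev_iw (L : ℕ → G) (ws : ℕ → List ℕ) (c n : ℕ) :
    ev L (iw ws c n) = io (fun i => ev L (ws i)) c n := by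
  induction n with
  | zero => rfl
  | succ n ih =>
    rw [iw_succ, ev_append, ih, io_succ]
    congr 1
    cases bt c n <;> rfl

variable {t w r k n z s : G}

theorem lt_ix (h : RelsC t w r k n z s) (m : G) {x : ℕ} (hx : x < 8) :
    lt t w r k n z s m (ix x) = (lt t w r k n z s m x)⁻¹ := by
  interval_cases x
  · exact (inv_eq_of_mul_eq_one_left h.t2).symm
  · exact (inv_eq_of_mul_eq_one_left h.w2).symm
  · rfl
  · exact (inv_inv r).symm
  · exact (inv_eq_of_mul_eq_one_left h.k2).symm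
  · exact (inv_eq_of_mul_eq_one_left h.n2).symm
  · exact (inv_eq_of_mul_eq_one_left h.z2).symm
  · exact (inv_eq_of_mul_eq_one_left h.s2).symm

/-- inverse word -/
def iv (u : List ℕ) : List ℕ := (u.map ix).reverse

theorem ev_iv (h : RelsC t w r k n z s) (m : G) {u : List ℕ} (hu : (u.all fun x => Nat.ble x 7) = true) :
    ev (lt t w r k n z s m) (iv u) = (ev (lt t w r k n z s m) u)⁻¹ := by
  induction u with
  | nil => simp [iv, ev]
  | cons x u ih =>
    rw [List.all_cons, Bool.and_eq_true] at hu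
    have hx : x < 8 := Nat.lt_succ_of_le (Nat.le_of_ble_eq_true hu.1)
    have : iv (x :: u) = iv u ++ [ix x] := by simp [iv]
    rw [this, ev_append, ih hu.2, ev_cons _ x u, mul_inv_rev, ev_cons, ev_nil, mul_one, lt_ix h m hx]

/-- check of `g (ws i) g⁻¹ = ws (T i)` for all `i < n` -/
def chkConj (ws : ℕ → List ℕ) (n : ℕ) (g : List ℕ) (T : List ℕ) : Bool :=
  g.all (fun x => Nat.ble x 7) &&
    (List.range n).all fun i => chk (g ++ (ws i ++ iv g)) (iw ws (T.getD i 0) n)

theorem conj_of_chk (h : RelsC t w r k n z s) (m : G) {ws : ℕ → List ℕ} {n' : ℕ} {g T : List ℕ}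
    (hc : chkConj ws n' g T = true) (i : ℕ) (hi : i < n') :
    ev (lt t w r k n z s m) g * ev (lt t w r k n z s m) (ws i) * (ev (lt t w r k n z s m) g)⁻¹ =
      io (fun i => ev (lt t w r k n z s m) (ws i)) (T.getD i 0) n' := by
  rw [chkConj, Bool.and_eq_true] at hc
  have h1 := ev_of_chk h m (Cfsg.Agent.TypeO8Minus.Model.allB_sound hc.2 i hi)
  rw [ev_append, ev_append, ev_iv h m hc.1, ev_iw, ← mul_assoc] at h1
  exact h1

/-- all letters commute with `z` -/
theorem comm_z (h : RelsC t w r k n z s) (m : G) (x : ℕ) (hx : x < 8) :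
    lt t w r k n z s m x * z = z * lt t w r k n z s m x := by
  have hc : (List.range 8).all (fun x => chk [x, 6] [6, x]) = true := by decide +kernel
  have h1 := ev_of_chk h m (Cfsg.Agent.TypeO8Minus.Model.allB_sound hc x hx)
  simpa only [lt, ev, List.map_cons, List.map_nil, List.prod_cons, List.prod_nil, mul_one] using h1

theorem ev_comm_z (h : RelsC t w r k n z s) (m : G) {u : List ℕ} (hu : ∀ x ∈ u, x < 8) :
    ev (lt t w r k n z s m) u * z = z * ev (lt t w r k n z s m) u := by
  induction u with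
  | nil => rw [ev_nil, one_mul, mul_one]
  | cons x u ih =>
    rw [ev_cons, mul_assoc, ih fun y hy => hu y (by simp [hy]), ← mul_assoc,
      comm_z h m x (hu x (by simp)), mul_assoc]

end ev

/-- the fifteen vectors `u ⊗ v` -/
def S15 : List ℕ := [1, 2, 7, 11, 15, 16, 17, 32, 34, 112, 119, 176, 187, 240, 255]

/-- short words for the fifteen elements -/
def sw (c : ℕ) : List ℕ :=
  bif Nat.beq c 1 then [5,1,7,1,5] else bif Nat.beq c 2 then [5,7,5] else bif Nat.beq c 7 then
  [5,0,7,0,5] else bif Nat.beq c 11 then [5,2,0,7,0,3,5] else bif Nat.beq c 15 then [5,3,0,7,0,2,5]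
  else bif Nat.beq c 16 then [1,7,1] else bif Nat.beq c 17 then [4,1,7,1,4] else bif Nat.beq c 32 then
  [7] else bif Nat.beq c 34 then [4,7,4] else bif Nat.beq c 112 then [0,7,0] else bif Nat.beq c 119
  then [4,0,7,0,4] else bif Nat.beq c 176 then [2,0,7,0,3] else bif Nat.beq c 187 then [4,2,0,7,0,3,4]
  else bif Nat.beq c 240 then [3,0,7,0,2] else bif Nat.beq c 255 then [4,3,0,7,0,2,4] else []

/-- tables of the letters on `V` -/
def tabV (x : ℕ) : List ℕ :=
  bif Nat.beq x 0 then [1,7,4,9,16,112,64,144] else bif Nat.beq x 1 then [2,1,4,12,32,16,64,192] else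
  bif Nat.beq x 2 then [1,2,8,12,16,32,128,192] else bif Nat.beq x 3 then [1,2,12,4,16,32,192,64] else
  bif Nat.beq x 4 then [1,2,4,8,17,34,68,136] else [16,32,64,128,1,2,4,8]

/-- commutator matrix of the eight elements of `Q` -/
def gramQ (i j : ℕ) : Bool :=
  (Nat.beq i 0 && Nat.beq j 5) || ((Nat.beq i 5 && Nat.beq j 0) || ((Nat.beq i 1 && Nat.beq j 4) ||
  ((Nat.beq i 4 && Nat.beq j 1) || ((Nat.beq i 2 && Nat.beq j 7) || ((Nat.beq i 7 && Nat.beq j 2) ||
  ((Nat.beq i 3 && Nat.beq j 6) || (Nat.beq i 6 && Nat.beq j 3)))))))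

private noncomputable def _root_.Cfsg.Agent.LsF.f291079_23 : {f // @Cfsg.Agent.TypeOMinusEight.Code.ap = f} := ⟨_, by first | (delta Cfsg.Agent.TypeOMinusEight.Code.ap; rewrite [Cfsg.Agent.LsF.cond_eq]; exact rfl) | exact rfl⟩
private noncomputable def _root_.Cfsg.Agent.LsF.f291079_24 : {f // @Cfsg.Agent.TypeOMinusEight.Data.tabV = f} := ⟨_, by first | (delta Cfsg.Agent.TypeOMinusEight.Data.tabV; rewrite [Cfsg.Agent.LsF.cond_eq]; exact rfl) | exact rfl⟩
private noncomputable def _root_.Cfsg.Agent.LsF.f291079_25 : {f // @Cfsg.Agent.TypeOMinusEight.Words.wd1 = f} := ⟨_, by first | (delta Cfsg.Agent.TypeOMinusEight.Words.wd1; rewrite [Cfsg.Agent.LsF.f291079_22.2, Cfsg.Agent.LsF.foldr_eq]; exact rfl) | exact rfl⟩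
private noncomputable def _root_.Cfsg.Agent.LsF.f291079_26 : {f // @Cfsg.Agent.TypeOMinusEight.Words.chk = f} := ⟨_, by first | (delta Cfsg.Agent.TypeOMinusEight.Words.chk; rewrite [Cfsg.Agent.LsF.f291079_25.2, Cfsg.Agent.LsF.and_eq, Cfsg.Agent.LsF.all_eq]; exact rfl) | exact rfl⟩
private noncomputable def _root_.Cfsg.Agent.LsF.f291079_27 : {f // @Cfsg.Agent.TypeOMinusEight.Data.sw = f} := ⟨_, by first | (delta Cfsg.Agent.TypeOMinusEight.Data.sw; rewrite [Cfsg.Agent.LsF.cond_eq]; exact rfl) | exact rfl⟩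
private noncomputable def _root_.Cfsg.Agent.LsF.f291079_28 : {f // @Cfsg.Agent.TypeOMinusEight.Data.ix = f} := ⟨_, by first | (delta Cfsg.Agent.TypeOMinusEight.Data.ix; rewrite [Cfsg.Agent.LsF.cond_eq]; exact rfl) | exact rfl⟩
theorem S15_check : (List.range 6).all (fun x => S15.all fun c =>
    S15.any (fun d => Nat.beq d (ap (fun i => (tabV x).getD i 0) c 8)) &&
    chk (x :: (sw c ++ [ix x])) (sw (ap (fun i => (tabV x).getD i 0) c 8))) = true := by
  ((try (rewrite [Cfsg.Agent.LsF.f291079_23.2, Cfsg.Agent.LsF.f291079_24.2, Cfsg.Agent.LsF.f291079_26.2, Cfsg.Agent.LsF.f291079_27.2, Cfsg.Agent.LsF.f291079_28.2, Cfsg.Agent.LsF.lappend_pat, Cfsg.Agent.LsF.and_eq, Cfsg.Agent.LsF.all_eq, Cfsg.Agent.LsF.any_eq, Cfsg.Agent.LsF.range_eq, Cfsg.Agent.LsF.getD_eq])); decide +kernel)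

theorem sw_check : S15.all (fun c => chk (sw c) (iw wQ c 8)) = true := by
  decide +kernel

private noncomputable def _root_.Cfsg.Agent.LsF.f291079_29 : {f // @Cfsg.Agent.TypeOMinusEight.Data.wQ = f} := ⟨_, by first | (delta Cfsg.Agent.TypeOMinusEight.Data.wQ; rewrite [Cfsg.Agent.LsF.lappend_pat, Cfsg.Agent.LsF.cond_eq]; exact rfl) | exact rfl⟩
private noncomputable def _root_.Cfsg.Agent.LsF.f291079_30 : {f // @Cfsg.Agent.TypeOMinusEight.Data.gramQ = f} := ⟨_, by first | (delta Cfsg.Agent.TypeOMinusEight.Data.gramQ; rewrite [Cfsg.Agent.LsF.and_eq, Cfsg.Agent.LsF.or_eq]; exact rfl) | exact rfl⟩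
theorem gram_check : (List.range 8).all (fun i => (List.range 8).all fun j =>
    chk (wQ i ++ wQ j) (wQ j ++ (wQ i ++ (bif gramQ i j then [6] else [])))) = true := by
  ((try (rewrite [Cfsg.Agent.LsF.f291079_26.2, Cfsg.Agent.LsF.f291079_29.2, Cfsg.Agent.LsF.f291079_30.2, Cfsg.Agent.LsF.lappend_pat, Cfsg.Agent.LsF.cond_eq, Cfsg.Agent.LsF.all_eq, Cfsg.Agent.LsF.range_eq])); decide +kernel)

private noncomputable def _root_.Cfsg.Agent.LsF.f291079_31 : {f // @Cfsg.Agent.TypeOMinusEight.Code.xs = f} := ⟨_, by first | (delta Cfsg.Agent.TypeOMinusEight.Code.xs; rewrite [Cfsg.Agent.LsF.not_eq, Cfsg.Agent.LsF.cond_eq]; exact rfl) | exact rfl⟩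
private noncomputable def _root_.Cfsg.Agent.LsF.f291079_32 : {f // @Cfsg.Agent.TypeOMinusEight.Code.key = f} := ⟨_, by first | (delta Cfsg.Agent.TypeOMinusEight.Code.key; rewrite [Cfsg.Agent.LsF.f291079_31.2, Cfsg.Agent.LsF.cond_eq]; exact rfl) | exact rfl⟩
theorem key_check : (List.range 256).all (fun c => Nat.beq (key gramQ (key gramQ c 8) 8) c) = true := by
  ((try (rewrite [Cfsg.Agent.LsF.f291079_32.2, Cfsg.Agent.LsF.f291079_30.2, Cfsg.Agent.LsF.all_eq, Cfsg.Agent.LsF.range_eq])); decide +kernel)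

/-! ### consequences -/

section

variable {G : Type*} [Group G] {Q A : Subgroup G} {z a : G} {t w r k n s : G}

/-- the eight elements of `Q` -/
def fQ (t w r k n z s : G) (i : ℕ) : G := ev (lt t w r k n z s 1) (wQ i)

/-- the six generators of `E` -/
def fE (t w r k n z s : G) (i : ℕ) : G := ev (lt t w r k n z s 1) (wE i)

theorem fQ0 : fQ t w r k n z s 0 = w * (n * s * n) * w := by
  show ev (lt t w r k n z s 1) [1,5,7,5,1] = _
  simp [ev, lt, mul_assoc]
theorem fQ1 : fQ t w r k n z s 1 = n * s * n := by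
  show ev (lt t w r k n z s 1) [5,7,5] = _
  simp [ev, lt, mul_assoc]
theorem fQ2 : fQ t w r k n z s 2 = n * (s * (t * s * t) * (w * s * w)) * n := by
  show ev (lt t w r k n z s 1) [5,7,0,7,0,1,7,1,5] = _
  simp [ev, lt, mul_assoc]
theorem fQ3 : fQ t w r k n z s 3 = r * (n * (s * (t * s * t) * (w * s * w)) * n) * r⁻¹ := by
  show ev (lt t w r k n z s 1) [2,5,7,0,7,0,1,7,1,5,3] = _
  simp only [ev, List.map_cons, lt, List.map_nil, List.prod_cons, List.prod_nil, mul_one, mul_assoc]
theorem fQ4 : fQ t w r k n z s 4 = w * s * w := by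
  show ev (lt t w r k n z s 1) [1,7,1] = _
  simp [ev, lt, mul_assoc]
theorem fQ5 : fQ t w r k n z s 5 = s := by
  show ev (lt t w r k n z s 1) [7] = _
  simp [ev, lt, mul_assoc]
theorem fQ6 : fQ t w r k n z s 6 = s * (t * s * t) * (w * s * w) := by
  show ev (lt t w r k n z s 1) [7,0,7,0,1,7,1] = _
  simp [ev, lt, mul_assoc]
theorem fQ7 : fQ t w r k n z s 7 = r * (s * (t * s * t) * (w * s * w)) * r⁻¹ := by
  show ev (lt t w r k n z s 1) [2,7,0,7,0,1,7,1,3] = _
  simp only [ev, List.map_cons, lt, List.map_nil, List.prod_cons, List.prod_nil, mul_one, mul_assoc]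

theorem comm_t (h : RelsC t w r k n z s) : t * z = z * t := comm_z h 1 0 (by norm_num)
theorem comm_w (h : RelsC t w r k n z s) : w * z = z * w := comm_z h 1 1 (by norm_num)
theorem comm_r (h : RelsC t w r k n z s) : r * z = z * r := comm_z h 1 2 (by norm_num)
theorem comm_k (h : RelsC t w r k n z s) : k * z = z * k := comm_z h 1 4 (by norm_num)
theorem comm_n (h : RelsC t w r k n z s) : n * z = z * n := comm_z h 1 5 (by norm_num)

theorem conj_invol (h : Large Q z) {x y : G} (hx : x * x = 1) (hxz : x * z = z * x) (hy : y ∈ Q) :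
    x * y * x ∈ Q := by
  have h1 := h.conj_mem x hxz y hy
  rwa [inv_eq_of_mul_eq_one_left hx] at h1

theorem u_mem (h : Large Q z) (R : RelsC t w r k n z s) (hs : s ∈ Q) :
    s * (t * s * t) * (w * s * w) ∈ Q :=
  Q.mul_mem (Q.mul_mem hs (conj_invol h R.t2 (comm_t R) hs)) (conj_invol h R.w2 (comm_w R) hs)

theorem fQ_mem (h : Large Q z) (R : RelsC t w r k n z s) (hs : s ∈ Q) :
    ∀ i < 8, fQ t w r k n z s i ∈ Q := by
  intro i hi
  have hu := u_mem h R hs
  have hn := conj_invol h R.n2 (comm_n R) hu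
  interval_cases i
  · rw [fQ0]; exact conj_invol h R.w2 (comm_w R) (conj_invol h R.n2 (comm_n R) hs)
  · rw [fQ1]; exact conj_invol h R.n2 (comm_n R) hs
  · rw [fQ2]; exact hn
  · rw [fQ3]; exact h.conj_mem r (comm_r R) _ hn
  · rw [fQ4]; exact conj_invol h R.w2 (comm_w R) hs
  · rw [fQ5]; exact hs
  · rw [fQ6]; exact hu
  · rw [fQ7]; exact h.conj_mem r (comm_r R) _ hu

theorem gramQ_eq (R : RelsC t w r k n z s) : ∀ i < 8, ∀ j < 8, fQ t w r k n z s i * fQ t w r k n z s j =
    fQ t w r k n z s j * fQ t w r k n z s i * cb (gramQ i j) z := by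
  intro i hi j hj
  have h1 := ev_of_chk R 1 (Cfsg.Agent.TypeO8Minus.Model.allB_sound
    (Cfsg.Agent.TypeO8Minus.Model.allB_sound gram_check i hi) j hj)
  rw [ev_append, ev_append, ev_append] at h1
  rw [fQ, fQ, h1, ← mul_assoc]
  congr 1
  cases gramQ i j
  · rfl
  · simp [ev, lt, cb]

/-- coordinates in `Q` -/
theorem code_Q [Finite Q] (h : Large Q z) (R : RelsC t w r k n z s) (hc : Nat.card Q = 2 ^ 9) (hs : s ∈ Q)
    {x : G} (hx : x ∈ Q) :
    ∃ c < 256, x = io (fQ t w r k n z s) c 8 ∨ x = io (fQ t w r k n z s) c 8 * z :=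
  exists_code h hc (fQ_mem h R hs) (gramQ_eq R) (u := fun c => key gramQ c 8)
    (fun c hc => Nat.eq_of_beq_eq_true (Cfsg.Agent.TypeO8Minus.Model.allB_sound key_check c hc)) hx

/-- the commutator of a product with one of the eight elements -/
theorem io_gramQ (h : Large Q z) (R : RelsC t w r k n z s) (hs : s ∈ Q) (c : ℕ) {j : ℕ} (hj : j < 8) :
    io (fQ t w r k n z s) c 8 * fQ t w r k n z s j = fQ t w r k n z s j * io (fQ t w r k n z s) c 8 *
      cb (xs (fun i => gramQ i j) c 8) z :=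
  io_gram h (fQ_mem h R hs) (fun i hi => gramQ_eq R i hi j hj) c

/-- `x = io c` or `io c * z`, `x` commutes with `f j`: the bit vanishes -/
theorem bit_of_comm (h : Large Q z) (R : RelsC t w r k n z s) (hs : s ∈ Q) {c : ℕ} {x : G}
    (hx : x = io (fQ t w r k n z s) c 8 ∨ x = io (fQ t w r k n z s) c 8 * z) {j : ℕ} (hj : j < 8)
    {β : Bool} (hc : x * fQ t w r k n z s j = fQ t w r k n z s j * x * cb β z) :
    xs (fun i => gramQ i j) c 8 = β := by
  have h1 := io_gramQ h R hs c hj
  have hz := h.comm_z _ (fQ_mem h R hs j hj)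
  rcases hx with rfl | rfl
  · rw [h1] at hc
    exact cb_inj h.z_ne (mul_left_cancel hc)
  · have h2 : io (fQ t w r k n z s) c 8 * z * fQ t w r k n z s j =
        fQ t w r k n z s j * (io (fQ t w r k n z s) c 8 * z) * cb (xs (fun i => gramQ i j) c 8) z := by
      rw [mul_assoc, ← hz, ← mul_assoc, h1, mul_assoc _ _ z,
        cb_comm (rfl : z * z = z * z) (xs (fun i => gramQ i j) c 8)]
      group
    rw [h2] at hc
    exact cb_inj h.z_ne (mul_left_cancel hc)

theorem io_sw (R : RelsC t w r k n z s) {c : ℕ} (hc : c ∈ S15) :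
    ev (lt t w r k n z s 1) (sw c) = io (fQ t w r k n z s) c 8 := by
  rw [ev_of_chk R 1 (List.all_eq_true.1 sw_check c hc), ev_iw]
  rfl

theorem letter_S15 (R : RelsC t w r k n z s) {x : ℕ} (hx : x < 6) {c : ℕ} (hc : c ∈ S15) :
    ∃ d ∈ S15, lt t w r k n z s 1 x * io (fQ t w r k n z s) c 8 * (lt t w r k n z s 1 x)⁻¹ =
      io (fQ t w r k n z s) d 8 := by
  have h1 := List.all_eq_true.1 (Cfsg.Agent.TypeO8Minus.Model.allB_sound S15_check x hx) c hc
  rw [Bool.and_eq_true] at h1
  obtain ⟨d, hd, hd'⟩ := List.any_eq_true.1 h1.1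
  have hd'' := Nat.eq_of_beq_eq_true hd'
  refine ⟨d, hd, ?_⟩
  have h2 := ev_of_chk R 1 h1.2
  rw [← hd'', ev_cons, ev_append, io_sw R hc, io_sw R hd] at h2
  rw [← h2, mul_assoc]
  congr 2
  rw [ev_cons, ev_nil, mul_one, lt_ix R 1 (by omega)]

theorem closure_S15 (R : RelsC t w r k n z s) {g : G}
    (hg : g ∈ Subgroup.closure ({t, w, r, k, n} : Set G)) :
    (∀ c ∈ S15, ∃ d ∈ S15, g * io (fQ t w r k n z s) c 8 * g⁻¹ = io (fQ t w r k n z s) d 8) ∧
    (∀ c ∈ S15, ∃ d ∈ S15, g⁻¹ * io (fQ t w r k n z s) c 8 * g = io (fQ t w r k n z s) d 8) := by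
  induction hg using Subgroup.closure_induction with
  | mem x hx =>
    simp only [Set.mem_insert_iff, Set.mem_singleton_iff] at hx
    have key : ∀ y < 6, (∀ c ∈ S15, ∃ d ∈ S15, lt t w r k n z s 1 y * io (fQ t w r k n z s) c 8 *
        (lt t w r k n z s 1 y)⁻¹ = io (fQ t w r k n z s) d 8) ∧
        (∀ c ∈ S15, ∃ d ∈ S15, (lt t w r k n z s 1 y)⁻¹ * io (fQ t w r k n z s) c 8 *
        lt t w r k n z s 1 y = io (fQ t w r k n z s) d 8) := by
      intro y hy
      refine ⟨fun c hc => letter_S15 R hy hc, fun c hc => ?_⟩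
      have h1 : ix y < 6 := by interval_cases y <;> decide
      have h2 := letter_S15 R h1 hc
      rw [lt_ix R 1 (by omega), inv_inv] at h2
      exact h2
    rcases hx with rfl | rfl | rfl | rfl | rfl
    · exact key 0 (by norm_num)
    · exact key 1 (by norm_num)
    · exact key 2 (by norm_num)
    · exact key 4 (by norm_num)
    · exact key 5 (by norm_num)
  | one =>
    refine ⟨fun c hc => ⟨c, hc, ?_⟩, fun c hc => ⟨c, hc, ?_⟩⟩
    · rw [one_mul, inv_one, mul_one]
    · rw [mul_one, inv_one, one_mul]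
  | mul x y _ _ hx hy =>
    constructor
    · intro c hc
      obtain ⟨d, hd, h1⟩ := hy.1 c hc
      obtain ⟨e, he, h2⟩ := hx.1 d hd
      refine ⟨e, he, ?_⟩
      rw [← h2, ← h1]; group
    · intro c hc
      obtain ⟨d, hd, h1⟩ := hx.2 c hc
      obtain ⟨e, he, h2⟩ := hy.2 d hd
      refine ⟨e, he, ?_⟩
      rw [← h2, ← h1]; group
  | inv x _ hx =>
    rw [inv_inv]; exact ⟨hx.2, hx.1⟩

theorem mem32 : 32 ∈ S15 := by decide

theorem io32 (R : RelsC t w r k n z s) : io (fQ t w r k n z s) 32 8 = s := by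
  rw [← io_sw R mem32]
  show ev (lt t w r k n z s 1) [7] = _
  simp only [ev, List.map_cons, lt, List.map_nil, List.prod_cons, List.prod_nil, mul_one]

end

/-- internal form of the interface -/
structure Loc {G : Type*} [Group G] {Q A : Subgroup G} {z a : G} (p : Pair Q z A a)
    (t w r k n s : G) : Prop where
  rels : RelsC t w r k n z s
  card : Nat.card Q = 2 ^ 9
  s_mem : s ∈ Q
  a_eq : w * (n * s * n) * w = a
  e_mem : w * s * w ∈ A
  d_mem : n * (s * (t * s * t) * (w * s * w)) * n ∈ A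
  kA : k ∈ A
  tA : t ∈ A
  zQ : ∀ x ∈ Q, IsConj z x → x = z ∨ ∃ c ∈ S15, x = io (fQ t w r k n z s) c 8 ∨
    x = io (fQ t w r k n z s) c 8 * z

end Cfsg.Agent.TypeOMinusEight.Data
end

-- part: TypeOMinusEight/Basic
section
/-!
First consequences of the interface: `k, t ∈ A`, `C_G(E) = E`, and the elements acting trivially on `V` (helper46).
-/

set_option autoImplicit false
set_option maxRecDepth 100000

namespace Cfsg.Agent.TypeOMinusEight.Basic

open Cfsg.Agent.SporadicRecognition.CosetCert Cfsg.Agent.TypeO8Minus.Rel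
  Cfsg.Agent.Co2Type.Quad Cfsg.Agent.LargeExtra.Base Cfsg.Agent.TypeOMinusEight.Words
  Cfsg.Agent.TypeOMinusEight.Code Cfsg.Agent.TypeOMinusEight.Data

theorem allB {n : ℕ} {P : ℕ → Bool} (h : (List.range n).all P = true) : ∀ i < n, P i = true :=
  Cfsg.Agent.TypeO8Minus.Model.allB_sound h

section

variable {G : Type*} [Group G] {Q A : Subgroup G} {z a : G} {t w r k n s : G}

theorem conjK_check : (List.range 6).all (fun i =>
    chk ([4] ++ (wQ i ++ iv [4])) (iw wQ ((tabV 4).getD i 0) 8)) = true := by decide +kernel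

theorem conjK (R : RelsC t w r k n z s) {i : ℕ} (hi : i < 6) :
    k * fQ t w r k n z s i * k⁻¹ = io (fQ t w r k n z s) ((tabV 4).getD i 0) 8 := by
  have h1 := ev_of_chk R 1 (allB conjK_check i hi)
  rw [ev_append, ev_append, ev_iv R 1 rfl, ev_iw, ev_cons, ev_nil, mul_one, ← mul_assoc] at h1
  exact h1

/-- conjugates used below -/
theorem checks : (chk [4,1,5,7,5,1,4] [1,5,7,5,1] && (chk ([4] ++ (wQ 2 ++ [4])) (wQ 2) &&
    (chk ([4] ++ (wQ 3 ++ [4])) (wQ 3) && (chk ([4] ++ (wQ 4 ++ [4])) (wQ 4 ++ wQ 0) &&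
    (chk ([0] ++ (wQ 0 ++ [0])) (wQ 0) && (chk ([0] ++ (wQ 2 ++ [0])) (wQ 2) &&
    (chk ([0] ++ (wQ 3 ++ [0])) (wQ 3 ++ wQ 0) && (chk ([0] ++ (wQ 4 ++ [0])) (wQ 4) &&
    chk ([2] ++ (wQ 0 ++ [3])) (wQ 0))))))))) = true := by decide +kernel

end

end Cfsg.Agent.TypeOMinusEight.Basic
end

-- part: TypeOMinusEight/Cent
section
/-!
Elements of `C_G(z)` recognised by their action on the eight generators of `Q` (helper46).
-/

set_option autoImplicit false
set_option maxRecDepth 100000

namespace Cfsg.Agent.TypeOMinusEight.Cent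

open Cfsg.Agent.SporadicRecognition.CosetCert Cfsg.Agent.TypeO8Minus.Rel
  Cfsg.Agent.Co2Type.Quad Cfsg.Agent.LargeExtra.Base Cfsg.Agent.TypeOMinusEight.Words
  Cfsg.Agent.TypeOMinusEight.Code Cfsg.Agent.TypeOMinusEight.Data
  Cfsg.Agent.TypeOMinusEight.Basic

section

variable {G : Type*} [Group G] {Q A : Subgroup G} {z a : G} {t w r k n s : G}

theorem f0 {p : Pair Q z A a} (D : Loc p t w r k n s) : fQ t w r k n z s 0 = a := by
  rw [fQ0]; exact D.a_eq

theorem f_mem {p : Pair Q z A a} (D : Loc p t w r k n s) : ∀ i < 8, fQ t w r k n z s i ∈ Q :=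
  fQ_mem p.lz D.rels D.s_mem

/-- an element centralising `V` -/
theorem mem_Q_of_triv [Finite Q] {p : Pair Q z A a} (D : Loc p t w r k n s) {x : G}
    (hx : x * z = z * x)
    (hf : ∀ i < 8, x * fQ t w r k n z s i * x⁻¹ = fQ t w r k n z s i ∨
      x * fQ t w r k n z s i * x⁻¹ = fQ t w r k n z s i * z) : x ∈ Q := by
  have hz : x * z * x⁻¹ = z := by rw [hx]; group
  have hxinv : ∀ y, y * z = z * y → (x * y * x⁻¹ = y ∨ x * y * x⁻¹ = y * z) → y ∈ Q →
      (x * y * x⁻¹ = y ∨ x * y * x⁻¹ = y * z) := fun y _ h _ => h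
  -- products
  have hmul : ∀ y y' : G, y' * z = z * y' → (x * y * x⁻¹ = y ∨ x * y * x⁻¹ = y * z) →
      (x * y' * x⁻¹ = y' ∨ x * y' * x⁻¹ = y' * z) →
      (x * (y * y') * x⁻¹ = y * y' ∨ x * (y * y') * x⁻¹ = y * y' * z) := by
    intro y y' hy' h1 h2
    have e : x * (y * y') * x⁻¹ = (x * y * x⁻¹) * (x * y' * x⁻¹) := by group
    rcases h1 with h1 | h1 <;> rcases h2 with h2 | h2
    · left; rw [e, h1, h2]
    · right; rw [e, h1, h2, mul_assoc]
    · right; rw [e, h1, h2, mul_assoc, ← hy', mul_assoc]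
    · left; rw [e, h1, h2]
      calc y * z * (y' * z) = y * (z * y') * z := by group
        _ = y * y' * (z * z) := by rw [← hy']; group
        _ = y * y' := by rw [p.lz.z_sq, mul_one]
  have hio : ∀ c, ∀ m ≤ 8, (x * io (fQ t w r k n z s) c m * x⁻¹ = io (fQ t w r k n z s) c m ∨
      x * io (fQ t w r k n z s) c m * x⁻¹ = io (fQ t w r k n z s) c m * z) := by
    intro c m
    induction m with
    | zero => intro _; left; rw [io_zero]; group
    | succ m ih =>
      intro hm
      rw [io_succ]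
      refine hmul _ _ ?_ (ih (by omega)) ?_
      · cases bt c m
        · rw [cb_false, one_mul, mul_one]
        · exact p.lz.comm_z _ (f_mem D m (by omega))
      · cases bt c m
        · left; rw [cb_false]; group
        · exact hf m (by omega)
  refine p.lz.mem_of_act ⟨x, Subgroup.mem_centralizer_singleton_iff.2 hx⟩ ?_
  ext v
  obtain ⟨y, rfl⟩ := p.lz.pr_surjective v
  rw [p.lz.act_pr]
  show p.lz.pr _ = p.lz.pr y
  rw [p.lz.pr_eq_pr, Large.conjQ_coe]
  show x * (y : G) * x⁻¹ = y ∨ x * (y : G) * x⁻¹ = y * z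
  obtain ⟨c, -, h1⟩ := code_Q p.lz D.rels D.card D.s_mem y.2
  rcases h1 with h1 | h1
  · rw [h1]; exact hio c 8 le_rfl
  · rw [h1]
    exact hmul _ _ rfl (hio c 8 le_rfl) (Or.inl hz)

/-- the conjugating word -/
def gw (c : ℕ) : List ℕ := (sw c).take (((sw c).length - 1) / 2)

theorem gw_check : ∀ c ∈ S15, (gw c).all (fun x => Nat.ble x 7) = true ∧ sw c = gw c ++ ([7] ++ iv (gw c)) := by
  decide

theorem exists_conj_s {p : Pair Q z A a} (D : Loc p t w r k n s) {c : ℕ} (hc : c ∈ S15) :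
    ∃ g, g * z = z * g ∧ io (fQ t w r k n z s) c 8 = g * s * g⁻¹ := by
  obtain ⟨h1, h2⟩ := gw_check c hc
  have hlt : ∀ x ∈ gw c, x < 8 := fun x hx =>
    Nat.lt_succ_of_le (Nat.le_of_ble_eq_true (List.all_eq_true.1 h1 x hx))
  refine ⟨ev (lt t w r k n z s 1) (gw c), ev_comm_z D.rels 1 hlt, ?_⟩
  rw [← io_sw D.rels hc, h2, ev_append, ev_append, ev_iv D.rels 1 h1, ← mul_assoc, ev_cons, ev_nil,
    mul_one]
  rfl

theorem conj_z_a {p : Pair Q z A a} (_D : Loc p t w r k n s) : IsConj z a := by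
  obtain ⟨g, h1, -⟩ := p.isConj
  exact isConj_iff.2 ⟨g, h1⟩

theorem conj_z_s {p : Pair Q z A a} (D : Loc p t w r k n s) : IsConj z s := by
  refine (conj_z_a D).trans ?_
  have hw : w⁻¹ = w := inv_eq_of_mul_eq_one_left D.rels.w2
  have hn : n⁻¹ = n := inv_eq_of_mul_eq_one_left D.rels.n2
  refine (isConj_iff.2 ⟨w * n, ?_⟩ : IsConj s a).symm
  rw [← D.a_eq, mul_inv_rev, hw, hn]; group

theorem conj_z_io {p : Pair Q z A a} (D : Loc p t w r k n s) {c : ℕ} (hc : c ∈ S15) :
    IsConj z (io (fQ t w r k n z s) c 8) := by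
  obtain ⟨g, -, h1⟩ := exists_conj_s D hc
  rw [h1]
  exact (conj_z_s D).trans (isConj_iff.2 ⟨g, rfl⟩)

theorem io_ne_z {p : Pair Q z A a} (D : Loc p t w r k n s) {c : ℕ} (hc : c ∈ S15) :
    io (fQ t w r k n z s) c 8 ≠ z := by
  obtain ⟨g, hgz, h1⟩ := exists_conj_s D hc
  intro h2
  rw [h2] at h1
  have h3 : s = z := by
    calc s = g⁻¹ * (g * s * g⁻¹) * g := by group
      _ = g⁻¹ * (z * g) := by rw [← h1]; group
      _ = z := by rw [← hgz]; group
  have h4 := f0 D
  rw [fQ0, h3] at h4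
  have h5 : w * (n * z * n) * w = z := by
    rw [comm_n D.rels, mul_assoc z, D.rels.n2, mul_one, comm_w D.rels, mul_assoc, D.rels.w2, mul_one]
  rw [h5] at h4
  exact p.ne h4.symm

/-- `C_G(z)` permutes the fifteen vectors -/
theorem conj_S15 {p : Pair Q z A a} (D : Loc p t w r k n s) {x : G} (hx : x * z = z * x) {c : ℕ}
    (hc : c ∈ S15) : ∃ d ∈ S15, x * io (fQ t w r k n z s) c 8 * x⁻¹ = io (fQ t w r k n z s) d 8 ∨
      x * io (fQ t w r k n z s) c 8 * x⁻¹ = io (fQ t w r k n z s) d 8 * z := by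
  have h1 : x * io (fQ t w r k n z s) c 8 * x⁻¹ ∈ Q :=
    p.lz.conj_mem x hx _ (io_mem (f_mem D) c)
  rcases D.zQ _ h1 ((conj_z_io D hc).trans (isConj_iff.2 ⟨x, rfl⟩)) with h2 | h2
  · exfalso
    apply io_ne_z D hc
    calc io (fQ t w r k n z s) c 8 = x⁻¹ * (x * io (fQ t w r k n z s) c 8 * x⁻¹) * x := by group
      _ = x⁻¹ * (z * x) := by rw [h2]; group
      _ = z := by rw [← hx]; group
  · exact h2

/-- commutation bits of a conjugate -/
theorem bit_conj {p : Pair Q z A a} (D : Loc p t w r k n s) {x : G} (hx : x * z = z * x) {c d : ℕ}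
    (hd : x * io (fQ t w r k n z s) c 8 * x⁻¹ = io (fQ t w r k n z s) d 8 ∨
      x * io (fQ t w r k n z s) c 8 * x⁻¹ = io (fQ t w r k n z s) d 8 * z) {j : ℕ} (hj : j < 8)
    (hxj : x * fQ t w r k n z s j * x⁻¹ = fQ t w r k n z s j ∨
      x * fQ t w r k n z s j * x⁻¹ = fQ t w r k n z s j * z) :
    xs (fun i => gramQ i j) d 8 = xs (fun i => gramQ i j) c 8 := by
  refine bit_of_comm p.lz D.rels D.s_mem hd hj ?_
  have h1 := io_gramQ p.lz D.rels D.s_mem c hj
  have hz : x * z * x⁻¹ = z := by rw [hx]; group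
  have hcbz : x * cb (xs (fun i => gramQ i j) c 8) z * x⁻¹ = cb (xs (fun i => gramQ i j) c 8) z := by
    cases xs (fun i => gramQ i j) c 8
    · rw [cb_false]; group
    · exact hz
  have h2 : x * io (fQ t w r k n z s) c 8 * x⁻¹ * (x * fQ t w r k n z s j * x⁻¹) =
      x * fQ t w r k n z s j * x⁻¹ * (x * io (fQ t w r k n z s) c 8 * x⁻¹) *
      cb (xs (fun i => gramQ i j) c 8) z := by
    rw [← hcbz]
    calc _ = x * (io (fQ t w r k n z s) c 8 * fQ t w r k n z s j) * x⁻¹ := by group
      _ = _ := by rw [h1]; group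
  have hyz : x * io (fQ t w r k n z s) c 8 * x⁻¹ * z = z * (x * io (fQ t w r k n z s) c 8 * x⁻¹) := by
    apply p.lz.comm_z
    exact p.lz.conj_mem x hx _ (io_mem (f_mem D) c)
  rcases hxj with h3 | h3
  · rw [h3] at h2; exact h2
  · rw [h3] at h2
    have hfz := p.lz.comm_z _ (f_mem D j hj)
    have h4 : x * io (fQ t w r k n z s) c 8 * x⁻¹ * fQ t w r k n z s j * z =
        fQ t w r k n z s j * (x * io (fQ t w r k n z s) c 8 * x⁻¹) *
          cb (xs (fun i => gramQ i j) c 8) z * z := by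
      calc _ = x * io (fQ t w r k n z s) c 8 * x⁻¹ * (fQ t w r k n z s j * z) := by group
        _ = fQ t w r k n z s j * (z * (x * io (fQ t w r k n z s) c 8 * x⁻¹)) *
            cb (xs (fun i => gramQ i j) c 8) z := by rw [h2]; group
        _ = fQ t w r k n z s j * (x * io (fQ t w r k n z s) c 8 * x⁻¹) *
            (z * cb (xs (fun i => gramQ i j) c 8) z) := by rw [← hyz]; group
        _ = _ := by rw [← cb_comm (rfl : z * z = z * z)]; group
    exact mul_right_cancel h4

theorem unit_check : (List.range 8).all (fun i => chk (wQ i) (iw wQ (Nat.pow 2 i) 8)) = true := by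
  decide +kernel

theorem f_eq_io (R : RelsC t w r k n z s) {i : ℕ} (hi : i < 8) :
    fQ t w r k n z s i = io (fQ t w r k n z s) (2 ^ i) 8 := by
  have h1 := ev_of_chk R 1 (allB unit_check i hi)
  rw [ev_iw] at h1
  exact h1

end

end Cfsg.Agent.TypeOMinusEight.Cent
end

-- part: TypeOMinusEight/EGrp
section
/-!
The elementary abelian group `E` of order `2 ^ 6`, `C_G(E) = E`, and the centraliser of six vectors (helper46).
-/

set_option autoImplicit false
set_option maxRecDepth 100000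

namespace Cfsg.Agent.TypeOMinusEight.EGrp

open Cfsg.Agent.SporadicRecognition.CosetCert Cfsg.Agent.TypeO8Minus.Rel
  Cfsg.Agent.Co2Type.Quad Cfsg.Agent.LargeExtra.Base Cfsg.Agent.TypeOMinusEight.Words
  Cfsg.Agent.TypeOMinusEight.Code Cfsg.Agent.TypeOMinusEight.Data
  Cfsg.Agent.TypeOMinusEight.Basic Cfsg.Agent.TypeOMinusEight.Cent

section

variable {G : Type*} [Group G]

/-- the elements fixed by `x` modulo `z` -/
def Kz {z : G} (hz : z * z = 1) {x : G} (hx : x * z = z * x) : Subgroup G where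
  carrier := {y | y * z = z * y ∧ (x * y * x⁻¹ = y ∨ x * y * x⁻¹ = y * z)}
  one_mem' := ⟨by rw [one_mul, mul_one], Or.inl (by group)⟩
  mul_mem' := by
    rintro y y' ⟨hy, h1⟩ ⟨hy', h2⟩
    refine ⟨by rw [mul_assoc, hy', ← mul_assoc, hy, mul_assoc], ?_⟩
    have e : x * (y * y') * x⁻¹ = (x * y * x⁻¹) * (x * y' * x⁻¹) := by group
    rcases h1 with h1 | h1 <;> rcases h2 with h2 | h2
    · left; rw [e, h1, h2]
    · right; rw [e, h1, h2, mul_assoc]
    · right; rw [e, h1, h2, mul_assoc, ← hy', mul_assoc]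
    · left; rw [e, h1, h2]
      calc y * z * (y' * z) = y * (z * y') * z := by group
        _ = y * y' * (z * z) := by rw [← hy']; group
        _ = y * y' := by rw [hz, mul_one]
  inv_mem' := by
    rintro y ⟨hy, h1⟩
    have hzi : z⁻¹ = z := inv_eq_of_mul_eq_one_left hz
    have hy' : y⁻¹ * z = z * y⁻¹ := by
      calc y⁻¹ * z = y⁻¹ * (z * y) * y⁻¹ := by group
        _ = y⁻¹ * (y * z) * y⁻¹ := by rw [hy]
        _ = z * y⁻¹ := by group
    refine ⟨hy', ?_⟩
    have e : x * y⁻¹ * x⁻¹ = (x * y * x⁻¹)⁻¹ := by group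
    rcases h1 with h1 | h1
    · left; rw [e, h1]
    · right; rw [e, h1, mul_inv_rev, hzi, hy']

variable {Q A : Subgroup G} {z a : G} {t w r k n s : G}

theorem checkA : ∀ c ∈ [32, 112, 176], ∀ d ∈ S15, (xs (fun i => gramQ i 0) d 8 = xs (fun i => gramQ i 0) c 8 ∧
    xs (fun i => gramQ i 1) d 8 = xs (fun i => gramQ i 1) c 8 ∧
    xs (fun i => gramQ i 2) d 8 = xs (fun i => gramQ i 2) c 8 ∧
    xs (fun i => gramQ i 3) d 8 = xs (fun i => gramQ i 3) c 8 ∧
    xs (fun i => gramQ i 4) d 8 = xs (fun i => gramQ i 4) c 8) → d = c := by decide +kernel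

theorem checkB : ∀ d ∈ S15, (xs (fun i => gramQ i 0) d 8 = xs (fun i => gramQ i 0) 16 8 ∧
    xs (fun i => gramQ i 1) d 8 = xs (fun i => gramQ i 1) 16 8 ∧
    xs (fun i => gramQ i 2) d 8 = xs (fun i => gramQ i 2) 16 8 ∧
    xs (fun i => gramQ i 3) d 8 = xs (fun i => gramQ i 3) 16 8) → d = 16 ∨ d = 17 := by decide +kernel

theorem checkW : (chk (wQ 6) ([7] ++ (wQ 4 ++ sw 112)) && (chk (wQ 7) ([7] ++ (wQ 4 ++ sw 176)) &&
    (chk (iw wQ 17 8) (wQ 0 ++ wQ 4) && chk ([4] ++ (iw wQ 17 8 ++ [4])) (wQ 4)))) = true := by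
  decide +kernel

theorem f6_eq (R : RelsC t w r k n z s) : fQ t w r k n z s 6 =
    fQ t w r k n z s 5 * (fQ t w r k n z s 4 * io (fQ t w r k n z s) 112 8) := by
  have hc := checkW
  simp only [Bool.and_eq_true] at hc
  have h1 := ev_of_chk R 1 hc.1
  rw [ev_append, ev_append, io_sw R (by decide)] at h1
  exact h1

theorem f7_eq (R : RelsC t w r k n z s) : fQ t w r k n z s 7 =
    fQ t w r k n z s 5 * (fQ t w r k n z s 4 * io (fQ t w r k n z s) 176 8) := by
  have hc := checkW
  simp only [Bool.and_eq_true] at hc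
  have h1 := ev_of_chk R 1 hc.2.1
  rw [ev_append, ev_append, io_sw R (by decide)] at h1
  exact h1

theorem io17_eq (R : RelsC t w r k n z s) : k * io (fQ t w r k n z s) 17 8 * k⁻¹ =
    fQ t w r k n z s 4 := by
  have hc := checkW
  simp only [Bool.and_eq_true] at hc
  have h1 := ev_of_chk R 1 hc.2.2.2
  rw [ev_append, ev_append, ev_iw, ev_cons, ev_nil, mul_one, ← mul_assoc] at h1
  have hk : k⁻¹ = k := inv_eq_of_mul_eq_one_left R.k2
  rw [hk]
  exact h1

/-- an element centralising `W₁` and fixing `e` modulo `z` lies in `Q` -/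
theorem mem_Q_A [Finite Q] {p : Pair Q z A a} (D : Loc p t w r k n s) {x : G} (hx : x * z = z * x)
    (hf : ∀ i < 4, x * fQ t w r k n z s i = fQ t w r k n z s i * x)
    (h4 : x * fQ t w r k n z s 4 * x⁻¹ = fQ t w r k n z s 4 ∨
      x * fQ t w r k n z s 4 * x⁻¹ = fQ t w r k n z s 4 * z) : x ∈ Q := by
  have hf' : ∀ i < 5, x * fQ t w r k n z s i * x⁻¹ = fQ t w r k n z s i ∨
      x * fQ t w r k n z s i * x⁻¹ = fQ t w r k n z s i * z := by
    intro i hi
    by_cases hi4 : i < 4
    · left; rw [hf i hi4]; group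
    · have : i = 4 := by omega
      rw [this]; exact h4
  have hK : ∀ i < 5, fQ t w r k n z s i ∈ Kz p.lz.z_sq hx := fun i hi =>
    ⟨p.lz.comm_z _ (f_mem D i (by omega)), hf' i hi⟩
  have hS : ∀ c ∈ [32, 112, 176], io (fQ t w r k n z s) c 8 ∈ Kz p.lz.z_sq hx := by
    intro c hc
    have hcS : c ∈ S15 := by
      fin_cases hc <;> decide
    obtain ⟨d, hd, h1⟩ := conj_S15 D hx hcS
    have h2 : d = c := checkA c hc d hd ⟨bit_conj D hx h1 (by norm_num) (hf' 0 (by norm_num)),
      bit_conj D hx h1 (by norm_num) (hf' 1 (by norm_num)),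
      bit_conj D hx h1 (by norm_num) (hf' 2 (by norm_num)),
      bit_conj D hx h1 (by norm_num) (hf' 3 (by norm_num)),
      bit_conj D hx h1 (by norm_num) (hf' 4 (by norm_num))⟩
    rw [h2] at h1
    exact ⟨p.lz.comm_z _ (io_mem (f_mem D) c), h1⟩
  have h5 : fQ t w r k n z s 5 ∈ Kz p.lz.z_sq hx := by
    rw [fQ5]
    have := hS 32 (by decide)
    rwa [io32 D.rels] at this
  have h6 : fQ t w r k n z s 6 ∈ Kz p.lz.z_sq hx := by
    rw [f6_eq D.rels]
    exact mul_mem h5 (mul_mem (hK 4 (by norm_num)) (hS 112 (by decide)))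
  have h7 : fQ t w r k n z s 7 ∈ Kz p.lz.z_sq hx := by
    rw [f7_eq D.rels]
    exact mul_mem h5 (mul_mem (hK 4 (by norm_num)) (hS 176 (by decide)))
  refine mem_Q_of_triv D hx fun i hi => ?_
  by_cases hi5 : i < 5
  · exact hf' i hi5
  · have : i = 5 ∨ i = 6 ∨ i = 7 := by omega
    rcases this with rfl | rfl | rfl
    · exact h5.2
    · exact h6.2
    · exact h7.2

/-! ### the group `E` -/

theorem E_check : (List.range 6).all (fun i => chk (wE i ++ wE i) [] &&
    (List.range 6).all fun j => chk (wE i ++ wE j) (wE j ++ wE i)) = true := by decide +kernel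

theorem E_sq (R : RelsC t w r k n z s) : ∀ i < 6, fE t w r k n z s i * fE t w r k n z s i = 1 := by
  intro i hi
  have h1 := allB E_check i hi
  rw [Bool.and_eq_true] at h1
  have h2 := ev_of_chk R 1 h1.1
  rw [ev_append, ev_nil] at h2
  exact h2

theorem E_comm (R : RelsC t w r k n z s) : ∀ i < 6, ∀ j < 6,
    fE t w r k n z s i * fE t w r k n z s j = fE t w r k n z s j * fE t w r k n z s i := by
  intro i hi j hj
  have h1 := allB E_check i hi
  rw [Bool.and_eq_true] at h1
  have h2 := ev_of_chk R 1 (allB h1.2 j hj)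
  rw [ev_append, ev_append] at h2
  exact h2

theorem fE0 : fE t w r k n z s 0 = z := by
  show ev (lt t w r k n z s 1) [6] = _
  simp [ev, lt]
theorem fE1 : fE t w r k n z s 1 = fQ t w r k n z s 0 := rfl
theorem fE2 : fE t w r k n z s 2 = fQ t w r k n z s 1 := rfl
theorem fE3 : fE t w r k n z s 3 = fQ t w r k n z s 2 := rfl
theorem fE5 : fE t w r k n z s 5 = k := by
  show ev (lt t w r k n z s 1) [4] = _
  simp only [ev, List.map_cons, lt, List.map_nil, List.prod_cons, List.prod_nil, mul_one]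

/-- `E` as a subgroup -/
def EE (R : RelsC t w r k n z s) : Subgroup G where
  carrier := {x | ∃ c < 64, x = io (fE t w r k n z s) c 6}
  one_mem' := ⟨0, by norm_num, (io_code_zero _ _).symm⟩
  mul_mem' := by
    rintro _ _ ⟨c, hc, rfl⟩ ⟨d, hd, rfl⟩
    exact ⟨c ^^^ d, Nat.xor_lt_two_pow (n := 6) hc hd, (io_xor (E_sq R) (E_comm R) c d).symm⟩
  inv_mem' := by
    rintro _ ⟨c, hc, rfl⟩
    exact ⟨c, hc, inv_eq_of_mul_eq_one_left (io_sq (E_sq R) (E_comm R) c)⟩

theorem mem_EE (R : RelsC t w r k n z s) {x : G} : x ∈ EE R ↔ ∃ c < 64, x = io (fE t w r k n z s) c 6 :=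
  Iff.rfl

theorem unitE_check : (List.range 6).all (fun i => chk (wE i) (iw wE (Nat.pow 2 i) 6)) = true := by
  decide +kernel

theorem fE_eq_io (R : RelsC t w r k n z s) {i : ℕ} (hi : i < 6) :
    fE t w r k n z s i = io (fE t w r k n z s) (2 ^ i) 6 := by
  have h1 := ev_of_chk R 1 (allB unitE_check i hi)
  rw [ev_iw] at h1
  exact h1

theorem fE_mem (R : RelsC t w r k n z s) {i : ℕ} (hi : i < 6) : fE t w r k n z s i ∈ EE R :=
  ⟨2 ^ i, (by interval_cases i <;> norm_num), fE_eq_io R hi⟩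

theorem perp_check : (List.range 256).all (fun c => (xs (fun i => gramQ i 0) c 8 ||
    (xs (fun i => gramQ i 1) c 8 || (xs (fun i => gramQ i 2) c 8 || xs (fun i => gramQ i 3) c 8))) ||
    (!bt c 4 && (!bt c 5 && (!bt c 6 && !bt c 7)))) = true := by decide +kernel

/-- `C_Q(W₁) = W₁` -/
theorem mem_EE_of_Q [Finite Q] {p : Pair Q z A a} (D : Loc p t w r k n s) {x : G} (hxQ : x ∈ Q)
    (hf : ∀ i < 4, x * fQ t w r k n z s i = fQ t w r k n z s i * x) : x ∈ EE D.rels := by
  obtain ⟨c, hc256, hcx⟩ := code_Q p.lz D.rels D.card D.s_mem hxQ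
  have key : ∀ j < 4, xs (fun i => gramQ i j) c 8 = false := fun j hj =>
    bit_of_comm p.lz D.rels D.s_mem hcx (by omega) (by rw [cb_false, mul_one]; exact hf j hj)
  have h5 := allB perp_check c hc256
  rw [key 0 (by norm_num), key 1 (by norm_num), key 2 (by norm_num), key 3 (by norm_num)] at h5
  simp only [Bool.or_false, Bool.false_or, Bool.and_eq_true, Bool.not_eq_true'] at h5
  obtain ⟨h54, h55, h56, h57⟩ := h5
  have h6 : io (fQ t w r k n z s) c 8 ∈ EE D.rels := by
    apply io_mem_of_bits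
    intro i hi hb
    interval_cases i
    · exact fE_mem D.rels (i := 1) (by norm_num)
    · exact fE_mem D.rels (i := 2) (by norm_num)
    · exact fE_mem D.rels (i := 3) (by norm_num)
    · exact fE_mem D.rels (i := 4) (by norm_num)
    · rw [h54] at hb; exact absurd hb (by simp)
    · rw [h55] at hb; exact absurd hb (by simp)
    · rw [h56] at hb; exact absurd hb (by simp)
    · rw [h57] at hb; exact absurd hb (by simp)
  rcases hcx with h7 | h7
  · rw [h7]; exact h6
  · rw [h7]
    refine mul_mem h6 ?_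
    have := fE_mem D.rels (i := 0) (by norm_num)
    rwa [fE0] at this

/-- **`C_G(W₁) = E`.** -/
theorem mem_EE_of_comm [Finite Q] {p : Pair Q z A a} (D : Loc p t w r k n s) {x : G}
    (hx : ∀ i < 5, x * fE t w r k n z s i = fE t w r k n z s i * x) : x ∈ EE D.rels := by
  have hz : x * z = z * x := by
    have := hx 0 (by norm_num)
    rwa [fE0] at this
  have hf : ∀ i < 4, x * fQ t w r k n z s i = fQ t w r k n z s i * x := by
    intro i hi
    have h1 := hx (i + 1) (by omega)
    interval_cases i <;> exact h1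
  have hk : k ∈ EE D.rels := by
    have := fE_mem D.rels (i := 5) (by norm_num)
    rwa [fE5] at this
  obtain ⟨d, hd, h1⟩ := conj_S15 D hz (c := 16) (by decide)
  have hf' : ∀ i < 4, x * fQ t w r k n z s i * x⁻¹ = fQ t w r k n z s i ∨
      x * fQ t w r k n z s i * x⁻¹ = fQ t w r k n z s i * z := by
    intro i hi
    left; rw [hf i hi]; group
  have h2 := checkB d hd ⟨bit_conj D hz h1 (by norm_num) (hf' 0 (by norm_num)),
      bit_conj D hz h1 (by norm_num) (hf' 1 (by norm_num)),
      bit_conj D hz h1 (by norm_num) (hf' 2 (by norm_num)),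
      bit_conj D hz h1 (by norm_num) (hf' 3 (by norm_num))⟩
  have h16 : io (fQ t w r k n z s) 16 8 = fQ t w r k n z s 4 :=
    (f_eq_io D.rels (i := 4) (by norm_num)).symm
  rcases h2 with rfl | rfl
  · rw [h16] at h1
    exact mem_EE_of_Q D (mem_Q_A D hz hf h1) hf
  · have hkc : ∀ i < 4, k * fQ t w r k n z s i = fQ t w r k n z s i * k := by
      intro i hi
      have h3 := E_comm D.rels 5 (by norm_num) (i + 1) (by omega)
      rw [fE5] at h3
      interval_cases i <;> exact h3
    have hkz : k * z = z * k := comm_k D.rels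
    have hkxz : (k * x) * z = z * (k * x) := by
      rw [mul_assoc, hz, ← mul_assoc, hkz, mul_assoc]
    have hkf : ∀ i < 4, (k * x) * fQ t w r k n z s i = fQ t w r k n z s i * (k * x) := by
      intro i hi
      rw [mul_assoc, hf i hi, ← mul_assoc, hkc i hi, mul_assoc]
    have h4 : (k * x) * fQ t w r k n z s 4 * (k * x)⁻¹ = fQ t w r k n z s 4 ∨
        (k * x) * fQ t w r k n z s 4 * (k * x)⁻¹ = fQ t w r k n z s 4 * z := by
      have e : (k * x) * fQ t w r k n z s 4 * (k * x)⁻¹ = k * (x * fQ t w r k n z s 4 * x⁻¹) * k⁻¹ := by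
        group
      rw [h16] at h1
      rcases h1 with h1 | h1
      · left; rw [e, h1, io17_eq D.rels]
      · right; rw [e, h1]
        calc k * (io (fQ t w r k n z s) 17 8 * z) * k⁻¹ =
            (k * io (fQ t w r k n z s) 17 8 * k⁻¹) * (k * z * k⁻¹) := by group
          _ = _ := by rw [io17_eq D.rels, hkz]; group
    have h5 := mul_mem (inv_mem hk) (mem_EE_of_Q D (mem_Q_A D hkxz hkf h4) hkf)
    rwa [inv_mul_cancel_left] at h5

theorem check6 : ∀ c ∈ [2, 32], ∀ d ∈ S15, (xs (fun i => gramQ i 0) d 8 = xs (fun i => gramQ i 0) c 8 ∧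
    xs (fun i => gramQ i 2) d 8 = xs (fun i => gramQ i 2) c 8 ∧
    xs (fun i => gramQ i 3) d 8 = xs (fun i => gramQ i 3) c 8 ∧
    xs (fun i => gramQ i 4) d 8 = xs (fun i => gramQ i 4) c 8 ∧
    xs (fun i => gramQ i 6) d 8 = xs (fun i => gramQ i 6) c 8 ∧
    xs (fun i => gramQ i 7) d 8 = xs (fun i => gramQ i 7) c 8) → d = c := by decide +kernel

/-- an element commuting with `z`, `a, ν, ν', e, u, u'` lies in `⟨z, a, e⟩` -/
theorem six [Finite Q] {p : Pair Q z A a} (D : Loc p t w r k n s) {x : G} (hx : x * z = z * x)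
    (hf : ∀ i ∈ [0, 2, 3, 4, 6, 7], x * fQ t w r k n z s i = fQ t w r k n z s i * x) :
    ∃ i j l : Bool, x = cb i z * (cb j (fQ t w r k n z s 0) * cb l (fQ t w r k n z s 4)) := by
  have hf' : ∀ i ∈ [0, 2, 3, 4, 6, 7], x * fQ t w r k n z s i * x⁻¹ = fQ t w r k n z s i ∨
      x * fQ t w r k n z s i * x⁻¹ = fQ t w r k n z s i * z := by
    intro i hi
    left; rw [hf i hi]; group
  have hS : ∀ c ∈ [2, 32], x * io (fQ t w r k n z s) c 8 * x⁻¹ = io (fQ t w r k n z s) c 8 ∨
      x * io (fQ t w r k n z s) c 8 * x⁻¹ = io (fQ t w r k n z s) c 8 * z := by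
    intro c hc
    have hcS : c ∈ S15 := by
      fin_cases hc <;> decide
    obtain ⟨d, hd, h1⟩ := conj_S15 D hx hcS
    have h2 : d = c := check6 c hc d hd ⟨bit_conj D hx h1 (by norm_num) (hf' 0 (by decide)),
      bit_conj D hx h1 (by norm_num) (hf' 2 (by decide)),
      bit_conj D hx h1 (by norm_num) (hf' 3 (by decide)),
      bit_conj D hx h1 (by norm_num) (hf' 4 (by decide)),
      bit_conj D hx h1 (by norm_num) (hf' 6 (by decide)),
      bit_conj D hx h1 (by norm_num) (hf' 7 (by decide))⟩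
    rw [h2] at h1
    exact h1
  have hQ : x ∈ Q := by
    refine mem_Q_of_triv D hx fun i hi => ?_
    interval_cases i
    · exact hf' 0 (by decide)
    · rw [f_eq_io D.rels (i := 1) (by norm_num)]; exact hS 2 (by decide)
    · exact hf' 2 (by decide)
    · exact hf' 3 (by decide)
    · exact hf' 4 (by decide)
    · rw [f_eq_io D.rels (i := 5) (by norm_num)]; exact hS 32 (by decide)
    · exact hf' 6 (by decide)
    · exact hf' 7 (by decide)
  obtain ⟨c, hc256, hcx⟩ := code_Q p.lz D.rels D.card D.s_mem hQ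
  have key : ∀ j ∈ [0, 2, 3, 4, 6, 7], xs (fun i => gramQ i j) c 8 = false := fun j hj =>
    bit_of_comm p.lz D.rels D.s_mem hcx (by fin_cases hj <;> norm_num)
      (by rw [cb_false, mul_one]; exact hf j hj)
  have hchk : ∀ c < 256, (xs (fun i => gramQ i 0) c 8 || (xs (fun i => gramQ i 2) c 8 ||
      (xs (fun i => gramQ i 3) c 8 || (xs (fun i => gramQ i 4) c 8 || (xs (fun i => gramQ i 6) c 8 ||
      xs (fun i => gramQ i 7) c 8)))) || (Nat.beq c 0 || (Nat.beq c 1 || (Nat.beq c 16 || Nat.beq c 17))))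
      = true := by
    have : (List.range 256).all (fun c => (xs (fun i => gramQ i 0) c 8 || (xs (fun i => gramQ i 2) c 8 ||
      (xs (fun i => gramQ i 3) c 8 || (xs (fun i => gramQ i 4) c 8 || (xs (fun i => gramQ i 6) c 8 ||
      xs (fun i => gramQ i 7) c 8)))) || (Nat.beq c 0 || (Nat.beq c 1 || (Nat.beq c 16 || Nat.beq c 17)))))
      = true := by decide +kernel
    exact fun c hc => allB this c hc
  have h5 := hchk c hc256
  rw [key 0 (by decide), key 2 (by decide), key 3 (by decide), key 4 (by decide), key 6 (by decide),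
    key 7 (by decide)] at h5
  simp only [Bool.or_false, Bool.false_or, Bool.or_eq_true] at h5
  have hc4 : ∃ j l : Bool, io (fQ t w r k n z s) c 8 = cb j (fQ t w r k n z s 0) *
      cb l (fQ t w r k n z s 4) := by
    rcases h5 with h | h | h | h <;> rw [Nat.eq_of_beq_eq_true h]
    · refine ⟨false, false, ?_⟩
      show 1 * 1 * 1 * 1 * 1 * 1 * 1 * 1 * 1 = 1 * (1 : G)
      simp
    · refine ⟨true, false, ?_⟩
      show 1 * fQ t w r k n z s 0 * 1 * 1 * 1 * 1 * 1 * 1 * 1 = fQ t w r k n z s 0 * 1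
      simp
    · refine ⟨false, true, ?_⟩
      show 1 * 1 * 1 * 1 * 1 * fQ t w r k n z s 4 * 1 * 1 * 1 = 1 * fQ t w r k n z s 4
      simp
    · refine ⟨true, true, ?_⟩
      show 1 * fQ t w r k n z s 0 * 1 * 1 * 1 * fQ t w r k n z s 4 * 1 * 1 * 1 =
        fQ t w r k n z s 0 * fQ t w r k n z s 4
      simp
  obtain ⟨j, l, h6⟩ := hc4
  have hz := p.lz.comm_z _ (io_mem (f_mem D) c)
  rcases hcx with h7 | h7
  · exact ⟨false, j, l, by rw [h7, h6, cb_false, one_mul]⟩
  · exact ⟨true, j, l, by rw [h7, hz, h6, cb_true]⟩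

end

end Cfsg.Agent.TypeOMinusEight.EGrp
end

-- part: TypeOMinusEight/Flip
section
/-!
Replacing `(k, n)` by `(k z, n z)` (helper46).
-/

set_option autoImplicit false
set_option maxRecDepth 100000

namespace Cfsg.Agent.TypeOMinusEight.Flip

open Cfsg.Agent.SporadicRecognition.CosetCert Cfsg.Agent.TypeO8Minus.Rel
  Cfsg.Agent.Co2Type.Quad Cfsg.Agent.LargeExtra.Base Cfsg.Agent.TypeOMinusEight.Words
  Cfsg.Agent.TypeOMinusEight.Code Cfsg.Agent.TypeOMinusEight.Data
  Cfsg.Agent.TypeOMinusEight.Basic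

section

variable {G : Type*} [Group G] {Q A : Subgroup G} {z a : G} {t w r k n s : G}

theorem rels_flip (R : RelsC t w r k n z s) : RelsC t w r (k * z) (n * z) z s where
  t2 := R.t2
  w2 := R.w2
  k2 := by
    simpa only [mul_assoc, ev, List.map_cons, lt, List.map_nil, List.prod_cons, List.prod_nil, mul_one] using
      ev_of_chk R 1 (u := [4,6,4,6]) (v := []) (by decide +kernel)
  n2 := by
    simpa only [mul_assoc, ev, List.map_cons, lt, List.map_nil, List.prod_cons, List.prod_nil, mul_one] using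
      ev_of_chk R 1 (u := [5,6,5,6]) (v := []) (by decide +kernel)
  z2 := R.z2
  s2 := R.s2
  r3 := R.r3
  wr := R.wr
  wt := R.wt
  tr := R.tr
  trtr := R.trtr
  kn := by
    simpa only [mul_assoc, pow_succ, pow_zero, one_mul, ev, List.map_cons, lt, List.map_nil, List.prod_cons, List.prod_nil,
        mul_one] using
      ev_of_chk R 1 (u := [4,6,5,6,4,6,5,6,4,6,5,6]) (v := []) (by decide +kernel)
  kt := by
    simpa only [mul_assoc, pow_succ, pow_zero, one_mul, ev, List.map_cons, lt, List.map_nil, List.prod_cons, List.prod_nil,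
        mul_one] using
      ev_of_chk R 1 (u := [4,6,0,4,6,0]) (v := []) (by decide +kernel)
  kw := by
    simpa only [mul_assoc, pow_succ, pow_zero, one_mul, ev, List.map_cons, lt, List.map_nil, List.prod_cons, List.prod_nil,
        mul_one] using
      ev_of_chk R 1 (u := [4,6,1,4,6,1]) (v := []) (by decide +kernel)
  kr := by
    simpa only [mul_assoc, ev, List.map_cons, lt, List.map_nil, List.prod_cons, List.prod_nil, mul_one] using
      ev_of_chk R 1 (u := [4,6,3,4,6,2]) (v := []) (by decide +kernel)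
  nt := by
    simpa only [mul_assoc, pow_succ, pow_zero, one_mul, ev, List.map_cons, lt, List.map_nil, List.prod_cons, List.prod_nil,
        mul_one] using
      ev_of_chk R 1 (u := [5,6,0,5,6,0]) (v := []) (by decide +kernel)
  nw := by
    simpa only [mul_assoc, pow_succ, pow_zero, one_mul, ev, List.map_cons, lt, List.map_nil, List.prod_cons, List.prod_nil,
        mul_one] using
      ev_of_chk R 1 (u := [5,6,1,5,6,1]) (v := []) (by decide +kernel)
  nr := by
    simpa only [mul_assoc, ev, List.map_cons, lt, List.map_nil, List.prod_cons, List.prod_nil, mul_one] using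
      ev_of_chk R 1 (u := [5,6,3,5,6,2]) (v := []) (by decide +kernel)
  zt := R.zt
  zw := R.zw
  zr := R.zr
  zk := by
    simpa only [pow_succ, pow_zero, one_mul, mul_assoc, ev, List.map_cons, lt, List.map_nil, List.prod_cons, List.prod_nil,
        mul_one] using
      ev_of_chk R 1 (u := [6,4,6,6,4,6]) (v := []) (by decide +kernel)
  zn := by
    simpa only [pow_succ, pow_zero, one_mul, mul_assoc, ev, List.map_cons, lt, List.map_nil, List.prod_cons, List.prod_nil,
        mul_one] using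
      ev_of_chk R 1 (u := [6,5,6,6,5,6]) (v := []) (by decide +kernel)
  zs := R.zs
  sr := R.sr
  ks := by
    simpa only [mul_assoc, ev, List.map_cons, lt, List.map_nil, List.prod_cons, List.prod_nil, mul_one] using
      ev_of_chk R 1 (u := [4,6,7,4,6,7,5,6,7,5,6]) (v := []) (by decide +kernel)
  swt := R.swt
  sw := R.sw
  sn := by
    simpa only [pow_succ, pow_zero, one_mul, mul_assoc, ev, List.map_cons, lt, List.map_nil, List.prod_cons, List.prod_nil,
        mul_one] using
      ev_of_chk R 1 (u := [7,5,6,7,5,6,7,5,6,7,5,6]) (v := []) (by decide +kernel)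
  five := R.five
  zz := by
    simpa [ev, lt, pow_succ, mul_assoc] using
      ev_of_chk R 1 (u := [7,5,6,1,7,1,5,6,7,5,6,1,7,1,5,6]) (v := [6]) (by decide +kernel)

/-- substitution of letters -/
def sub (x : ℕ) : List ℕ := bif Nat.beq x 4 then [4,6] else bif Nat.beq x 5 then [5,6] else [x]

theorem ev_flip (u : List ℕ) : ev (lt t w r (k * z) (n * z) z s 1) u =
    ev (lt t w r k n z s 1) (u.flatMap sub) := by
  induction u with
  | nil => rfl
  | cons x u ih =>
    rw [ev_cons, List.flatMap_cons, ev_append, ih]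
    congr 1
    rcases x with _ | _ | _ | _ | _ | _ | _ | _ | x
    · show t = ev (lt t w r k n z s 1) [0]
      simp [ev, lt]
    · show w = ev (lt t w r k n z s 1) [1]
      simp only [ev, List.map_cons, lt, List.map_nil, List.prod_cons, List.prod_nil, mul_one]
    · show r = ev (lt t w r k n z s 1) [2]
      simp [ev, lt]
    · show r⁻¹ = ev (lt t w r k n z s 1) [3]
      simp [ev, lt]
    · show k * z = ev (lt t w r k n z s 1) [4, 6]
      simp only [ev, List.map_cons, lt, List.map_nil, List.prod_cons, List.prod_nil, mul_one]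
    · show n * z = ev (lt t w r k n z s 1) [5, 6]
      simp [ev, lt]
    · show z = ev (lt t w r k n z s 1) [6]
      simp [ev, lt]
    · show s = ev (lt t w r k n z s 1) [7]
      simp only [ev, List.map_cons, lt, List.map_nil, List.prod_cons, List.prod_nil, mul_one]
    · show (1 : G) = ev (lt t w r k n z s 1) [x + 8]
      simp [ev, lt]

theorem flip_check : (List.range 8).all (fun i => chk ((wQ i).flatMap sub) (wQ i)) = true := by
  decide +kernel

theorem fQ_flip (R : RelsC t w r k n z s) {i : ℕ} (hi : i < 8) :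
    fQ t w r (k * z) (n * z) z s i = fQ t w r k n z s i := by
  rw [fQ, ev_flip, ev_of_chk R 1 (allB flip_check i hi)]
  rfl

theorem loc_flip {p : Pair Q z A a} (D : Loc p t w r k n s) : Loc p t w r (k * z) (n * z) s where
  rels := rels_flip D.rels
  card := D.card
  s_mem := D.s_mem
  a_eq := by
    have h1 := D.a_eq
    rw [← fQ0 (t := t) (r := r) (k := k) (z := z), ← fQ_flip D.rels (by norm_num), fQ0] at h1
    exact h1
  e_mem := D.e_mem
  d_mem := by
    have h1 := D.d_mem
    rw [← fQ2 (r := r) (k := k) (z := z), ← fQ_flip D.rels (by norm_num), fQ2] at h1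
    exact h1
  kA := A.mul_mem D.kA p.z_mem
  tA := D.tA
  zQ := by
    intro x hx hzx
    have h1 := D.zQ x hx hzx
    have h2 : ∀ c, io (fQ t w r (k * z) (n * z) z s) c 8 = io (fQ t w r k n z s) c 8 := fun c =>
      io_congr (fun i hi => fQ_flip D.rels hi) c
    simpa only [h2] using h1

end

end Cfsg.Agent.TypeOMinusEight.Flip
end

-- part: TypeOMinusEight/Swap
section
/-!
The element `b ∈ A = Q_a` (helper46).
-/

set_option autoImplicit false
set_option maxRecDepth 100000

namespace Cfsg.Agent.TypeOMinusEight.Swap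

open Cfsg.Agent.SporadicRecognition.CosetCert Cfsg.Agent.TypeO8Minus.Rel
  Cfsg.Agent.Co2Type.Quad Cfsg.Agent.LargeExtra.Base Cfsg.Agent.TypeOMinusEight.Words
  Cfsg.Agent.TypeOMinusEight.Code Cfsg.Agent.TypeOMinusEight.Data
  Cfsg.Agent.TypeOMinusEight.Basic Cfsg.Agent.TypeOMinusEight.Cent
  Cfsg.Agent.TypeOMinusEight.Flip

section

variable {G : Type*} [Group G] {Q A : Subgroup G} {z a : G} {t w r k n s : G}

/-- the elements `z, k, ν, ν', t', t, e` of `A` -/
def wA (i : ℕ) : List ℕ :=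
  bif Nat.beq i 0 then [6] else bif Nat.beq i 1 then [4] else bif Nat.beq i 2 then wN else
  bif Nat.beq i 3 then 2 :: (wN ++ [3]) else bif Nat.beq i 4 then [2,0,3] else
  bif Nat.beq i 5 then [0] else [1,7,1]

/-- commutator matrix -/
def gramA (i j : ℕ) : Bool :=
  (Nat.beq i 0 && Nat.beq j 7) || ((Nat.beq i 7 && Nat.beq j 0) || ((Nat.beq i 1 && Nat.beq j 6) ||
  ((Nat.beq i 6 && Nat.beq j 1) || ((Nat.beq i 2 && Nat.beq j 4) || ((Nat.beq i 4 && Nat.beq j 2) ||
  ((Nat.beq i 3 && Nat.beq j 5) || (Nat.beq i 5 && Nat.beq j 3)))))))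

private noncomputable def _root_.Cfsg.Agent.LsF.f291079_36 : {f // @Cfsg.Agent.TypeOMinusEight.Swap.wA = f} := ⟨_, by first | (delta Cfsg.Agent.TypeOMinusEight.Swap.wA; rewrite [Cfsg.Agent.LsF.lappend_pat, Cfsg.Agent.LsF.cond_eq]; exact rfl) | exact rfl⟩
private noncomputable def _root_.Cfsg.Agent.LsF.f291079_37 : {f // @Cfsg.Agent.TypeOMinusEight.Swap.gramA = f} := ⟨_, by first | (delta Cfsg.Agent.TypeOMinusEight.Swap.gramA; rewrite [Cfsg.Agent.LsF.and_eq, Cfsg.Agent.LsF.or_eq]; exact rfl) | exact rfl⟩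
theorem gramA_check : (List.range 7).all (fun i => (List.range 7).all fun j =>
    chk (wA i ++ wA j) (wA j ++ (wA i ++ (bif gramA i j then [1,5,7,5,1] else [])))) = true := by
  ((try (rewrite [Cfsg.Agent.LsF.f291079_26.2, Cfsg.Agent.LsF.f291079_36.2, Cfsg.Agent.LsF.f291079_37.2, Cfsg.Agent.LsF.lappend_pat, Cfsg.Agent.LsF.cond_eq, Cfsg.Agent.LsF.all_eq, Cfsg.Agent.LsF.range_eq])); decide +kernel)

theorem keyA_check : (List.range 256).all (fun c => Nat.beq (key gramA (key gramA c 8) 8) c) = true := by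
  ((try (rewrite [Cfsg.Agent.LsF.f291079_32.2, Cfsg.Agent.LsF.f291079_37.2, Cfsg.Agent.LsF.all_eq, Cfsg.Agent.LsF.range_eq])); decide +kernel)

/-- the family for a given `b` -/
def fA (t w r k n z s b : G) (i : ℕ) : G :=
  bif Nat.ble 7 i then b else ev (lt t w r k n z s 1) (wA i)

theorem ra {p : Pair Q z A a} (D : Loc p t w r k n s) : r * a = a * r := by
  have hc := checks
  simp only [Bool.and_eq_true] at hc
  have h1 := ev_of_chk D.rels 1 hc.2.2.2.2.2.2.2.2
  rw [ev_append, ev_append] at h1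
  have h2 : ev (lt t w r k n z s 1) (wQ 0) = a := f0 D
  rw [h2, ev_cons, ev_cons, ev_nil, mul_one, mul_one] at h1
  have h3 : r * (a * r⁻¹) = a := h1
  calc r * a = (r * (a * r⁻¹)) * r := by group
    _ = a * r := by rw [h3]

/-- `b₀ ∈ A - C(z)` commuting with `r` -/
theorem exists_b0 [Finite G] {p : Pair Q z A a} (D : Loc p t w r k n s) :
    ∃ b ∈ A, b * z ≠ z * b ∧ r * b = b * r := by
  classical
  have hra := ra D
  have hrz := comm_r D.rels
  have hcA : Nat.card A = 512 := by rw [p.card_eq, D.card]; norm_num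
  have hc1 := Cfsg.Agent.LargeExtra.Local.card_centralizer p.la p.z_mem p.lz.z_ne p.ne.symm
  have hAf : Finite A := inferInstance
  -- the set `X`
  let P : A → Prop := fun x => (x : G) * z = z * x
  have hcP : Nat.card {x : A // P x} = 256 := by
    have e : {x : A // P x} ≃ ↥(Subgroup.centralizer ({z} : Set G) ⊓ A) :=
      { toFun := fun x => ⟨x.1, Subgroup.mem_inf.2
          ⟨Subgroup.mem_centralizer_singleton_iff.2 x.2, x.1.2⟩⟩
        invFun := fun x => ⟨⟨x, (Subgroup.mem_inf.1 x.2).2⟩,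
          Subgroup.mem_centralizer_singleton_iff.1 (Subgroup.mem_inf.1 x.2).1⟩
        left_inv := fun _ => rfl
        right_inv := fun _ => rfl }
    rw [Nat.card_congr e]
    omega
  let X : Type _ := {x : A // ¬ P x}
  have hcX : Nat.card X = 256 := by
    have e := Nat.card_congr (Equiv.sumCompl P)
    rw [Nat.card_sum, hcP, hcA] at e
    show Nat.card {x : A // ¬ P x} = 256
    omega
  have hmem : ∀ x : X, ¬ P ⟨r * x.1 * r⁻¹, p.la.conj_mem r hra _ x.1.2⟩ := by
    intro x hx
    apply x.2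
    have hx' : r * (x.1 : G) * r⁻¹ * z = z * (r * x.1 * r⁻¹) := hx
    show (x.1 : G) * z = z * x.1
    have h1 : r⁻¹ * z = z * r⁻¹ := by
      calc r⁻¹ * z = r⁻¹ * (z * r) * r⁻¹ := by group
        _ = z * r⁻¹ := by rw [← hrz]; group
    calc (x.1 : G) * z = r⁻¹ * (r * (x.1 : G) * r⁻¹ * z) * r := by
          rw [mul_assoc (r * (x.1 : G)), h1, mul_assoc, mul_assoc, mul_assoc, mul_assoc]
          group
      _ = r⁻¹ * z * r * (x.1 : G) := by rw [hx']; group
      _ = z * x.1 := by rw [h1]; group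
  let f : Function.End X := fun x => ⟨⟨r * x.1 * r⁻¹, p.la.conj_mem r hra _ x.1.2⟩, hmem x⟩
  have hf3 : f ^ 3 ^ 1 = 1 := by
    rw [pow_one]
    funext x
    apply Subtype.ext
    apply Subtype.ext
    have e : f ^ 3 = f * (f * f) := by rw [pow_succ, pow_two, mul_assoc]
    rw [e]
    show r * (r * (r * (x.1 : G) * r⁻¹) * r⁻¹) * r⁻¹ = x.1
    calc r * (r * (r * (x.1 : G) * r⁻¹) * r⁻¹) * r⁻¹ = (r * r * r) * x.1 * (r * r * r)⁻¹ := by group
      _ = x.1 := by rw [D.rels.r3]; group
  have hfX : Fintype X := Fintype.ofFinite X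
  have h3 : Fact (Nat.Prime 3) := ⟨by norm_num⟩
  have hmod := Equiv.Perm.card_fixedPoints_modEq (p := 3) (n := 1) hf3
  rw [← Nat.card_eq_fintype_card, hcX] at hmod
  have hne : Fintype.card (Function.fixedPoints f) ≠ 0 := by
    intro h0
    rw [h0] at hmod
    exact absurd hmod (by decide)
  obtain ⟨⟨x, hx⟩⟩ := Fintype.card_pos_iff.1 (Nat.pos_of_ne_zero hne)
  refine ⟨x.1, x.1.2, x.2, ?_⟩
  have h4 : r * (x.1 : G) * r⁻¹ = x.1 := congrArg (fun y : X => ((y.1 : A) : G)) hx
  calc r * (x.1 : G) = (r * (x.1 : G) * r⁻¹) * r := by group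
    _ = x.1 * r := by rw [h4]

/-! ### commutators modulo a central involution -/

theorem comm_mul {x y v : G} {β γ : Bool} (hy : y * a = a * y)
    (h1 : x * v = v * x * cb β a) (h2 : y * v = v * y * cb γ a) (ha : a * a = 1) :
    x * y * v = v * (x * y) * cb (β ^^ γ) a := by
  rw [cb_xor ha]
  have h3 : cb β a * y = y * cb β a := cb_comm hy.symm β
  calc x * y * v = x * (y * v) := by group
    _ = (x * v) * y * cb γ a := by rw [h2]; group
    _ = v * x * (cb β a * y) * cb γ a := by rw [h1]; group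
    _ = v * (x * y) * (cb β a * cb γ a) := by rw [h3]; group

theorem comm_mul_right {x v w : G} {β γ : Bool} (hw : w * a = a * w)
    (h1 : x * v = v * x * cb β a) (h2 : x * w = w * x * cb γ a) (ha : a * a = 1) :
    x * (v * w) = v * w * x * cb (β ^^ γ) a := by
  rw [cb_xor ha]
  have h3 : cb β a * w = w * cb β a := cb_comm hw.symm β
  calc x * (v * w) = (x * v) * w := by group
    _ = v * x * (cb β a * w) := by rw [h1]; group
    _ = v * (x * w) * cb β a := by rw [h3]; group
    _ = v * w * x * (cb γ a * cb β a) := by rw [h2]; group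
    _ = v * w * x * (cb β a * cb γ a) := by
        congr 1
        cases β <;> cases γ <;> simp only [cb, cond_false, mul_one, cond_true, one_mul]

theorem exists_beta {p : Pair Q z A a} {x y : G} (hx : x ∈ A) (hy : y ∈ A) :
    ∃ β : Bool, x * y = y * x * cb β a := by
  rcases p.la.comm x hx y hy with h | h
  · exact ⟨false, by rw [h, cb_false, mul_one]⟩
  · exact ⟨true, h⟩

theorem gramA_eq {p : Pair Q z A a} (D : Loc p t w r k n s) {i j : ℕ} (hi : i < 7) (hj : j < 7) :
    ev (lt t w r k n z s 1) (wA i) * ev (lt t w r k n z s 1) (wA j) =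
    ev (lt t w r k n z s 1) (wA j) * ev (lt t w r k n z s 1) (wA i) * cb (gramA i j) a := by
  have h1 := ev_of_chk D.rels 1 (allB (allB gramA_check i hi) j hj)
  rw [ev_append, ev_append, ev_append] at h1
  rw [h1, ← mul_assoc]
  congr 1
  have h2 : ev (lt t w r k n z s 1) [1,5,7,5,1] = a := f0 D
  cases gramA i j
  · rfl
  · exact h2

theorem ev0 : ev (lt t w r k n z s 1) (wA 0) = z := by
  show ev (lt t w r k n z s 1) [6] = _
  simp [ev, lt]
theorem ev1 : ev (lt t w r k n z s 1) (wA 1) = k := by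
  show ev (lt t w r k n z s 1) [4] = _
  simp [ev, lt]
theorem ev2 : ev (lt t w r k n z s 1) (wA 2) = fQ t w r k n z s 2 := rfl
theorem ev3 : ev (lt t w r k n z s 1) (wA 3) = fQ t w r k n z s 3 := rfl
theorem ev4 : ev (lt t w r k n z s 1) (wA 4) = r * t * r⁻¹ := by
  show ev (lt t w r k n z s 1) [2,0,3] = _
  simp only [ev, List.map_cons, lt, List.map_nil, List.prod_cons, List.prod_nil, mul_one, mul_assoc]
theorem ev5 : ev (lt t w r k n z s 1) (wA 5) = t := by
  show ev (lt t w r k n z s 1) [0] = _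
  simp [ev, lt]
theorem ev6 : ev (lt t w r k n z s 1) (wA 6) = fQ t w r k n z s 4 := rfl

theorem wA_mem {p : Pair Q z A a} (D : Loc p t w r k n s) : ∀ i < 7, ev (lt t w r k n z s 1) (wA i) ∈ A := by
  intro i hi
  have hra := ra D
  interval_cases i
  · rw [ev0]; exact p.z_mem
  · rw [ev1]; exact D.kA
  · rw [ev2, fQ2]; exact D.d_mem
  · rw [ev3, fQ3]; exact p.la.conj_mem r hra _ D.d_mem
  · rw [ev4]; exact p.la.conj_mem r hra _ D.tA
  · rw [ev5]; exact D.tA
  · rw [ev6, fQ4]; exact D.e_mem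

theorem misc_check : (chk [2, 4] [4, 2] && (chk ([2] ++ wQ 4) (wQ 4 ++ [2]) &&
    (chk ([2] ++ (wQ 3 ++ [3])) (wQ 2 ++ wQ 3) && (chk ([2] ++ ([2,0,3] ++ [3])) ([0] ++ [2,0,3]) &&
    (chk ([2] ++ wQ 1) (wQ 1 ++ [2]) && (chk (wQ 1 ++ ([6] ++ wQ 1)) [6] &&
    (chk (wQ 1 ++ ([4] ++ wQ 1)) [4] && (chk (wQ 1 ++ (wQ 2 ++ wQ 1)) (wQ 2) &&
    (chk (wQ 1 ++ (wQ 3 ++ wQ 1)) (wQ 3) && (chk (wQ 1 ++ (wQ 4 ++ wQ 1)) (wQ 4 ++ [6]) &&
    (chk (wQ 1 ++ ([0] ++ wQ 1)) ([0] ++ (wQ 2 ++ wQ 0)) &&
    (chk (wQ 1 ++ ([2,0,3] ++ wQ 1)) ([2,0,3] ++ (wQ 3 ++ wQ 0)) &&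
    (chk (wQ 1 ++ wQ 1) [] && (chk (wQ 1 ++ wQ 0) (wQ 0 ++ wQ 1) &&
    chk (wQ 4 ++ wQ 4) []))))))))))))))
    = true := by decide +kernel

/-- **The element `b`** with its first properties. -/
structure B1 (p : Pair Q z A a) (t w r k n s b : G) : Prop where
  bA : b ∈ A
  b2 : b * b = 1
  bz : b * z = z * b * a
  bk : b * k = k * b
  be : b * fQ t w r k n z s 4 = fQ t w r k n z s 4 * b
  bν : b * fQ t w r k n z s 2 = fQ t w r k n z s 2 * b
  bν' : b * fQ t w r k n z s 3 = fQ t w r k n z s 3 * b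
  bt : b * t = t * b
  bt' : b * (r * t * r⁻¹) = r * t * r⁻¹ * b
  br : r * b = b * r

theorem exists_B1 [Finite G] {p : Pair Q z A a} (D : Loc p t w r k n s) : ∃ b, B1 p t w r k n s b := by
  have R := D.rels
  have haa : a * a = 1 := p.la.z_sq
  have hA := wA_mem D
  have hk : k ∈ A := by have := hA 1 (by norm_num); rwa [ev1] at this
  have he : fQ t w r k n z s 4 ∈ A := hA 6 (by norm_num)
  have hca : ∀ x ∈ A, x * a = a * x := fun x hx => p.la.comm_z x hx
  have hc := misc_check
  simp only [Bool.and_eq_true] at hc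
  obtain ⟨c1, c2, c3, c4, -⟩ := hc
  have hrk : r * k = k * r := by
    simpa only [ev, List.map_cons, lt, List.map_nil, List.prod_cons, List.prod_nil, mul_one] using ev_of_chk R 1 c1
  have hre : r * fQ t w r k n z s 4 = fQ t w r k n z s 4 * r := by
    have := ev_of_chk R 1 c2
    rw [ev_append, ev_append, ev_cons, ev_nil, mul_one] at this
    exact this
  have hrz := comm_r R
  have hrν : r * fQ t w r k n z s 3 * r⁻¹ = fQ t w r k n z s 2 * fQ t w r k n z s 3 := by
    have := ev_of_chk R 1 c3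
    rw [ev_append, ev_append, ev_append, ev_cons, ev_nil, mul_one, ev_cons, ev_nil, mul_one,
      ← mul_assoc] at this
    exact this
  have hrt : r * (r * t * r⁻¹) * r⁻¹ = t * (r * t * r⁻¹) := by
    have := ev_of_chk R 1 c4
    simpa only [mul_assoc, ev, List.cons_append, List.nil_append, List.map_cons, lt, List.map_nil, List.prod_cons,
        List.prod_nil, mul_one] using this
  -- relations between the seven elements
  have hke : k * fQ t w r k n z s 4 = fQ t w r k n z s 4 * k * cb true a := by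
    have := gramA_eq D (i := 1) (j := 6) (by norm_num) (by norm_num)
    rw [ev1, ev6] at this; exact this
  have hek : fQ t w r k n z s 4 * k = k * fQ t w r k n z s 4 * cb true a := by
    have := gramA_eq D (i := 6) (j := 1) (by norm_num) (by norm_num)
    rw [ev1, ev6] at this; exact this
  have hkz : k * z = z * k * cb false a := by rw [comm_k R, cb_false, mul_one]
  have hez : fQ t w r k n z s 4 * z = z * fQ t w r k n z s 4 * cb false a := by
    rw [cb_false, mul_one]; exact p.lz.comm_z _ (f_mem D 4 (by norm_num))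
  have hee : fQ t w r k n z s 4 * fQ t w r k n z s 4 = fQ t w r k n z s 4 * fQ t w r k n z s 4 * cb false a := by
    rw [cb_false, mul_one]
  obtain ⟨b0, hb0, hb0z, hb0r⟩ := exists_b0 D
  -- step 0
  have hz0 : b0 * z = z * b0 * cb true a := by
    rcases p.la.comm b0 hb0 z p.z_mem with h | h
    · exact absurd h hb0z
    · exact h
  -- step 1
  obtain ⟨β, hβ⟩ := exists_beta (p := p) hb0 he
  obtain ⟨b1, hb1, hb1z, hb1r, hb1e⟩ : ∃ b ∈ A, b * z = z * b * cb true a ∧ r * b = b * r ∧
      b * fQ t w r k n z s 4 = fQ t w r k n z s 4 * b * cb false a := by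
    cases β
    · exact ⟨b0, hb0, hz0, hb0r, hβ⟩
    · refine ⟨b0 * k, A.mul_mem hb0 hk, comm_mul (hca k hk) hz0 hkz haa, ?_,
        comm_mul (hca k hk) hβ hke haa⟩
      rw [← mul_assoc, hb0r, mul_assoc, hrk, mul_assoc]
  -- step 2
  obtain ⟨γ, hγ⟩ := exists_beta (p := p) hb1 hk
  obtain ⟨b2, hb2, hb2z, hb2r, hb2e, hb2k⟩ : ∃ b ∈ A, b * z = z * b * cb true a ∧ r * b = b * r ∧
      b * fQ t w r k n z s 4 = fQ t w r k n z s 4 * b * cb false a ∧ b * k = k * b * cb false a := by
    cases γ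
    · exact ⟨b1, hb1, hb1z, hb1r, hb1e, hγ⟩
    · refine ⟨b1 * fQ t w r k n z s 4, A.mul_mem hb1 he, comm_mul (hca _ he) hb1z hez haa, ?_,
        comm_mul (hca _ he) hb1e hee haa, comm_mul (hca _ he) hγ hek haa⟩
      rw [← mul_assoc, hb1r, mul_assoc, hre, mul_assoc]
  -- step 3
  obtain ⟨b, hb, hbz, hbr, hbe, hbk, hbb⟩ : ∃ b ∈ A, b * z = z * b * cb true a ∧ r * b = b * r ∧
      b * fQ t w r k n z s 4 = fQ t w r k n z s 4 * b * cb false a ∧ b * k = k * b * cb false a ∧
      b * b = 1 := by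
    rcases p.la.sq b2 hb2 with h | h
    · exact ⟨b2, hb2, hb2z, hb2r, hb2e, hb2k, h⟩
    · have hzz : z * z = z * z * cb false a := by rw [cb_false, mul_one]
      have hze : z * fQ t w r k n z s 4 = fQ t w r k n z s 4 * z * cb false a := by
        rw [cb_false, mul_one] at hez ⊢; exact hez.symm
      have hzk : z * k = k * z * cb false a := by
        rw [cb_false, mul_one] at hkz ⊢; exact hkz.symm
      have hza := hca z p.z_mem
      refine ⟨b2 * z, A.mul_mem hb2 p.z_mem, comm_mul hza hb2z hzz haa, ?_,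
        comm_mul hza hb2e hze haa, comm_mul hza hb2k hzk haa, ?_⟩
      · rw [← mul_assoc, hb2r, mul_assoc, hrz, mul_assoc]
      · have h1 : z * b2 = b2 * z * a := by
          have h2 : b2 * z * a = z * b2 * (a * a) := by rw [hb2z, cb_true]; group
          rw [haa, mul_one] at h2
          exact h2.symm
        calc b2 * z * (b2 * z) = b2 * (z * b2) * z := by group
          _ = (b2 * b2) * z * (a * z) := by rw [h1]; group
          _ = a * (z * a) * z := by rw [h]; group
          _ = (a * a) * (z * z) := by rw [hza]; group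
          _ = 1 := by rw [p.lz.z_sq, mul_one, haa]
  rw [cb_false, mul_one] at hbe hbk
  -- `ν`
  have hr3 : ∀ v ∈ A, ∀ v' ∈ A, r * v * r⁻¹ = v' → r * v' * r⁻¹ = v * v' → b * v = v * b ∧ b * v' = v' * b := by
    intro v hv v' hv' e1 e2
    obtain ⟨β, hβ⟩ := exists_beta (p := p) hb hv
    have hra := ra D
    have hrβ : r * cb β a * r⁻¹ = cb β a := by
      have : r * cb β a = cb β a * r := (cb_comm hra.symm β).symm
      rw [this]; group
    have hrb : r * b * r⁻¹ = b := by rw [hbr]; group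
    have h1 : b * v' = v' * b * cb β a := by
      rw [← e1]
      calc b * (r * v * r⁻¹) = (r * b * r⁻¹) * (r * v * r⁻¹) := by rw [hrb]
        _ = r * (b * v) * r⁻¹ := by group
        _ = (r * v * r⁻¹) * (r * b * r⁻¹) * (r * cb β a * r⁻¹) := by rw [hβ]; group
        _ = r * v * r⁻¹ * b * cb β a := by rw [hrb, hrβ]
    have h2 : b * (v * v') = v * v' * b * cb β a := by
      rw [← e2]
      calc b * (r * v' * r⁻¹) = (r * b * r⁻¹) * (r * v' * r⁻¹) := by rw [hrb]
        _ = r * (b * v') * r⁻¹ := by group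
        _ = (r * v' * r⁻¹) * (r * b * r⁻¹) * (r * cb β a * r⁻¹) := by rw [h1]; group
        _ = r * v' * r⁻¹ * b * cb β a := by rw [hrb, hrβ]
    have h3 := comm_mul_right (hca v' hv') hβ h1 haa
    have h4 : cb β a = cb (β ^^ β) a := mul_left_cancel (h2.symm.trans h3)
    rw [Bool.xor_self] at h4
    have h5 : β = false := cb_inj p.la.z_ne h4
    rw [h5, cb_false, mul_one] at hβ h1
    exact ⟨hβ, h1⟩
  have hν := hr3 (fQ t w r k n z s 2) (hA 2 (by norm_num)) (fQ t w r k n z s 3) (hA 3 (by norm_num))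
    (by rw [fQ2, fQ3]) hrν
  have ht := hr3 t D.tA (r * t * r⁻¹) (by have := hA 4 (by norm_num); rwa [ev4] at this) rfl hrt
  exact ⟨b, hb, hbb, hbz, hbk, hbe, hν.1, hν.2, ht.1, ht.2, hbr⟩

/-! ### the conjugate of `α` -/

theorem fA_lt {b : G} {i : ℕ} (hi : i < 7) : fA t w r k n z s b i = ev (lt t w r k n z s 1) (wA i) := by
  interval_cases i <;> rfl

theorem fA_seven {b : G} : fA t w r k n z s b 7 = b := rfl

theorem fA_mem {p : Pair Q z A a} (D : Loc p t w r k n s) {b : G} (hb : b ∈ A) :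
    ∀ i < 8, fA t w r k n z s b i ∈ A := by
  intro i hi
  by_cases h7 : i < 7
  · rw [fA_lt h7]; exact wA_mem D i h7
  · have : i = 7 := by omega
    rw [this, fA_seven]; exact hb

theorem fA_gram {p : Pair Q z A a} (D : Loc p t w r k n s) {b : G} (B : B1 p t w r k n s b) :
    ∀ i < 8, ∀ j < 8, fA t w r k n z s b i * fA t w r k n z s b j =
      fA t w r k n z s b j * fA t w r k n z s b i * cb (gramA i j) a := by
  have haa : a * a = 1 := p.la.z_sq
  -- `b` with the others
  have key : ∀ j < 7, b * ev (lt t w r k n z s 1) (wA j) = ev (lt t w r k n z s 1) (wA j) * b *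
      cb (gramA 7 j) a := by
    intro j hj
    interval_cases j
    · rw [ev0]; exact B.bz
    · rw [ev1, show gramA 7 1 = false from rfl, cb_false, mul_one]; exact B.bk
    · rw [ev2, show gramA 7 2 = false from rfl, cb_false, mul_one]; exact B.bν
    · rw [ev3, show gramA 7 3 = false from rfl, cb_false, mul_one]; exact B.bν'
    · rw [ev4, show gramA 7 4 = false from rfl, cb_false, mul_one]; exact B.bt'
    · rw [ev5, show gramA 7 5 = false from rfl, cb_false, mul_one]; exact B.bt
    · rw [ev6, show gramA 7 6 = false from rfl, cb_false, mul_one]; exact B.be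
  have hsymm : ∀ i < 8, ∀ j < 8, gramA i j = gramA j i := by
    intro i hi j hj
    interval_cases i <;> interval_cases j <;> rfl
  intro i hi j hj
  by_cases hi7 : i < 7 <;> by_cases hj7 : j < 7
  · rw [fA_lt hi7, fA_lt hj7]; exact gramA_eq D hi7 hj7
  · have hj' : j = 7 := by omega
    subst hj'
    rw [fA_lt hi7, fA_seven, hsymm i hi 7 hj]
    have h1 := key i hi7
    have hvA := wA_mem D i hi7
    have hva : b * ev (lt t w r k n z s 1) (wA i) * a = a * (b * ev (lt t w r k n z s 1) (wA i)) :=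
      p.la.comm_z _ (A.mul_mem B.bA hvA)
    rw [h1]
    cases gramA 7 i
    · rw [cb_false, mul_one, mul_one]
    · rw [cb_true, mul_assoc _ a, haa, mul_one]
  · have hi' : i = 7 := by omega
    subst hi'
    rw [fA_lt hj7, fA_seven]; exact key j hj7
  · have hi' : i = 7 := by omega
    have hj' : j = 7 := by omega
    subst hi' hj'
    rw [fA_seven, show gramA 7 7 = false from rfl, cb_false, mul_one]

theorem alpha_check : (List.range 256).all (fun c => (xs (fun i => gramA i 0) c 8 ||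
    (xs (fun i => gramA i 1) c 8 || (xs (fun i => gramA i 2) c 8 || (xs (fun i => gramA i 3) c 8 ||
    (xs (fun i => gramA i 4) c 8 || (xs (fun i => gramA i 5) c 8 || !(xs (fun i => gramA i 6) c 8))))))) ||
    (Nat.beq c 2 || Nat.beq c 3)) = true := by decide +kernel

theorem conj_alpha [Finite G] {p : Pair Q z A a} (D : Loc p t w r k n s) {b : G}
    (B : B1 p t w r k n s b) : ∃ ε : Bool, b * fQ t w r k n z s 1 * b = fQ t w r k n z s 1 * k * cb ε a := by
  have R := D.rels
  have haa : a * a = 1 := p.la.z_sq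
  have hA := wA_mem D
  have hca : ∀ x ∈ A, x * a = a * x := fun x hx => p.la.comm_z x hx
  have hc := misc_check
  simp only [Bool.and_eq_true] at hc
  obtain ⟨-, -, -, -, -, d1, d2, d3, d4, d5, d6, d7, d8, d9, -⟩ := hc
  set α := fQ t w r k n z s 1 with hα
  have hev1 : ev (lt t w r k n z s 1) (wQ 1) = α := rfl
  have hea : ev (lt t w r k n z s 1) (wQ 0) = a := f0 D
  have hez' : ev (lt t w r k n z s 1) [6] = z := by simp [ev, lt]
  have αα : α * α = 1 := by
    have := ev_of_chk R 1 d8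
    rwa [ev_append, ev_nil] at this
  have αa : α * a = a * α := by
    have := ev_of_chk R 1 d9
    rwa [ev_append, ev_append, hev1, hea] at this
  have hαinv : α⁻¹ = α := inv_eq_of_mul_eq_one_left αα
  -- conjugation by `α`
  have cz : α * z * α = z := by
    have := ev_of_chk R 1 d1
    rwa [ev_append, ev_append, hev1, hez', ← mul_assoc] at this
  have hek' : ev (lt t w r k n z s 1) [4] = k := by simp [ev, lt]
  have het' : ev (lt t w r k n z s 1) [0] = t := by simp [ev, lt]
  have ck : α * k * α = k := by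
    have := ev_of_chk R 1 d2
    rwa [ev_append, ev_append, hev1, hek', ← mul_assoc] at this
  have cν : α * fQ t w r k n z s 2 * α = fQ t w r k n z s 2 := by
    have := ev_of_chk R 1 d3
    rwa [ev_append, ev_append, hev1, ← mul_assoc] at this
  have cν' : α * fQ t w r k n z s 3 * α = fQ t w r k n z s 3 := by
    have := ev_of_chk R 1 d4
    rwa [ev_append, ev_append, hev1, ← mul_assoc] at this
  have ce : α * fQ t w r k n z s 4 * α = fQ t w r k n z s 4 * z := by
    have := ev_of_chk R 1 d5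
    rwa [ev_append, ev_append, ev_append, hev1, hez', ← mul_assoc] at this
  have ct : α * t * α = t * (fQ t w r k n z s 2 * a) := by
    have := ev_of_chk R 1 d6
    rwa [ev_append, ev_append, ev_append, ev_append, hev1, hea, het', ← mul_assoc] at this
  have ct' : α * (r * t * r⁻¹) * α = r * t * r⁻¹ * (fQ t w r k n z s 3 * a) := by
    have := ev_of_chk R 1 d7
    rw [ev_append, ev_append, ev_append, ev_append, hev1, hea, ← mul_assoc] at this
    have e1 : ev (lt t w r k n z s 1) [2,0,3] = r * t * r⁻¹ := ev4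
    rw [e1] at this
    exact this
  have hαc : ∀ x ∈ A, α * x * α ∈ A := by
    intro x hx
    have := p.la.conj_mem α αa x hx
    rwa [hαinv] at this
  set x' := b * (α * b * α) with hx'
  have hbx : α * b * α = b * x' := by rw [hx', ← mul_assoc b b, B.b2, one_mul]
  have hx'A : x' ∈ A := A.mul_mem B.bA (hαc b B.bA)
  -- the general computation
  have gen : ∀ (y : G) (β β' : Bool), y ∈ A → b * y = y * b * cb β a →
      b * (α * y * α) = α * y * α * b * cb β' a →
      x' * (α * y * α) = α * y * α * x' * cb (β ^^ β') a := by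
    intro y β β' hy h1 h2
    have hcβ : α * cb β a * α = cb β a := by
      have : α * cb β a = cb β a * α := (cb_comm αa.symm β).symm
      rw [this, mul_assoc, αα, mul_one]
    have hy'A := hαc y hy
    have h3 : b * x' * (α * y * α) = α * y * α * (b * x') * cb β a := by
      rw [← hbx]
      calc α * b * α * (α * y * α) = α * b * (α * α) * y * α := by group
        _ = α * (b * y) * α := by rw [αα]; group
        _ = α * (y * (α * α) * b * (α * α) * cb β a) * α := by rw [h1, αα]; group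
        _ = α * y * α * (α * b * α) * (α * cb β a * α) := by group
        _ = _ := by rw [hcβ]
    have h4 : α * y * α * b = b * (α * y * α) * cb β' a := by
      rw [h2]
      cases β'
      · rw [cb_false, mul_one, mul_one]
      · rw [cb_true, mul_assoc _ a, haa, mul_one]
    have hβx : cb β' a * x' = x' * cb β' a := cb_comm (hca x' hx'A).symm β'
    rw [cb_xor haa]
    apply mul_left_cancel (a := b)
    calc b * (x' * (α * y * α)) = b * x' * (α * y * α) := by group
      _ = (α * y * α * b) * x' * cb β a := by rw [h3]; group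
      _ = b * (α * y * α) * (cb β' a * x') * cb β a := by rw [h4]; group
      _ = b * (α * y * α * x') * (cb β' a * cb β a) := by rw [hβx]; group
      _ = b * (α * y * α * x' * (cb β a * cb β' a)) := by
          have : cb β' a * cb β a = cb β a * cb β' a := by cases β <;> cases β' <;> simp [cb]
          rw [this]; group
  have bν0 : b * fQ t w r k n z s 2 = fQ t w r k n z s 2 * b * cb false a := by
    rw [cb_false, mul_one]; exact B.bν
  have bν0' : b * fQ t w r k n z s 3 = fQ t w r k n z s 3 * b * cb false a := by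
    rw [cb_false, mul_one]; exact B.bν'
  have ba : b * a = a * b * cb false a := by rw [cb_false, mul_one]; exact hca b B.bA
  have bk0 : b * k = k * b * cb false a := by rw [cb_false, mul_one]; exact B.bk
  have be0 : b * fQ t w r k n z s 4 = fQ t w r k n z s 4 * b * cb false a := by
    rw [cb_false, mul_one]; exact B.be
  have bt0 : b * t = t * b * cb false a := by rw [cb_false, mul_one]; exact B.bt
  have bt0' : b * (r * t * r⁻¹) = r * t * r⁻¹ * b * cb false a := by
    rw [cb_false, mul_one]; exact B.bt'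
  have hνA := hA 2 (by norm_num)
  have hν'A := hA 3 (by norm_num)
  have h0 : x' * z = z * x' := by
    have := gen z true true p.z_mem B.bz (by rw [cz]; exact B.bz)
    rwa [cz, Bool.xor_self, cb_false, mul_one] at this
  have h1 : x' * k = k * x' := by
    have := gen k false false D.kA bk0 (by rw [ck]; exact bk0)
    rwa [ck, Bool.xor_self, cb_false, mul_one] at this
  have h2 : x' * fQ t w r k n z s 2 = fQ t w r k n z s 2 * x' := by
    have := gen (fQ t w r k n z s 2) false false hνA bν0 (by rw [cν]; exact bν0)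
    rwa [cν, Bool.xor_self, cb_false, mul_one] at this
  have h3 : x' * fQ t w r k n z s 3 = fQ t w r k n z s 3 * x' := by
    have := gen (fQ t w r k n z s 3) false false hν'A bν0' (by rw [cν']; exact bν0')
    rwa [cν', Bool.xor_self, cb_false, mul_one] at this
  have h6 : x' * fQ t w r k n z s 4 = fQ t w r k n z s 4 * x' * a := by
    have h61 : b * (fQ t w r k n z s 4 * z) = fQ t w r k n z s 4 * z * b * cb (false ^^ true) a :=
      comm_mul_right (hca z p.z_mem) be0 B.bz haa
    have := gen (fQ t w r k n z s 4) false (false ^^ true) (hA 6 (by norm_num)) be0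
      (by rw [ce]; exact h61)
    rw [ce] at this
    have h62 : x' * (fQ t w r k n z s 4 * z) = fQ t w r k n z s 4 * z * x' * a := this
    apply mul_right_cancel (b := z)
    calc x' * fQ t w r k n z s 4 * z = x' * (fQ t w r k n z s 4 * z) := by group
      _ = fQ t w r k n z s 4 * (z * x') * a := by rw [h62]; group
      _ = fQ t w r k n z s 4 * x' * (z * a) := by rw [← h0]; group
      _ = fQ t w r k n z s 4 * x' * a * z := by rw [hca z p.z_mem]; group
  have htt : ∀ y ν0 : G, y ∈ A → ν0 ∈ A → b * y = y * b * cb false a → b * ν0 = ν0 * b * cb false a →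
      x' * ν0 = ν0 * x' → α * y * α = y * (ν0 * a) → x' * y = y * x' := by
    intro y ν0 hy hν0 e1 e2 e3 e4
    have e5 : b * (y * (ν0 * a)) = y * (ν0 * a) * b * cb (false ^^ (false ^^ false)) a :=
      comm_mul_right (hca _ (A.mul_mem hν0 p.la.z_mem)) e1
        (comm_mul_right rfl e2 ba haa) haa
    have e6 := gen y false _ hy e1 (by rw [e4]; exact e5)
    rw [e4] at e6
    have e7 : x' * (y * (ν0 * a)) = y * (ν0 * a) * x' := by
      rw [e6]
      show _ * 1 = _
      rw [mul_one]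
    have e8 : (ν0 * a) * x' = x' * (ν0 * a) := by
      rw [mul_assoc, ← hca x' hx'A, ← mul_assoc, ← e3, mul_assoc]
    apply mul_right_cancel (b := ν0 * a)
    calc x' * y * (ν0 * a) = x' * (y * (ν0 * a)) := mul_assoc _ _ _
      _ = y * (ν0 * a) * x' := e7
      _ = y * (ν0 * a * x') := mul_assoc _ _ _
      _ = y * (x' * (ν0 * a)) := by rw [e8]
      _ = y * x' * (ν0 * a) := (mul_assoc _ _ _).symm
  have h5 : x' * t = t * x' := htt t _ D.tA hνA bt0 bν0 h2 ct
  have h4 : x' * (r * t * r⁻¹) = r * t * r⁻¹ * x' :=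
    htt _ _ (by have := hA 4 (by norm_num); rwa [ev4] at this) hν'A bt0' bν0' h3 ct'
  -- code of `x'`
  have hcA : Nat.card A = 2 ^ 9 := by rw [p.card_eq, D.card]
  obtain ⟨c, hc256, hcx⟩ := exists_code p.la hcA (fA_mem D B.bA) (fA_gram D B)
    (u := fun c => key gramA c 8) (fun c hc => Nat.eq_of_beq_eq_true (allB keyA_check c hc)) hx'A
  have bit : ∀ {j : ℕ} (hj : j < 8) {β : Bool}, x' * fA t w r k n z s b j =
      fA t w r k n z s b j * x' * cb β a → xs (fun i => gramA i j) c 8 = β := @fun _ hj _ h =>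
    bit_gen p.la (fA_mem D B.bA) (fA_gram D B) hcx hj h
  have g0 := bit (j := 0) (by norm_num) (β := false) (by
    rw [fA_lt (by norm_num), ev0, cb_false, mul_one]; exact h0)
  have g1 := bit (j := 1) (by norm_num) (β := false) (by
    rw [fA_lt (by norm_num), ev1, cb_false, mul_one]; exact h1)
  have g2 := bit (j := 2) (by norm_num) (β := false) (by
    rw [fA_lt (by norm_num), ev2, cb_false, mul_one]; exact h2)
  have g3 := bit (j := 3) (by norm_num) (β := false) (by
    rw [fA_lt (by norm_num), ev3, cb_false, mul_one]; exact h3)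
  have g4 := bit (j := 4) (by norm_num) (β := false) (by
    rw [fA_lt (by norm_num), ev4, cb_false, mul_one]; exact h4)
  have g5 := bit (j := 5) (by norm_num) (β := false) (by
    rw [fA_lt (by norm_num), ev5, cb_false, mul_one]; exact h5)
  have g6 := bit (j := 6) (by norm_num) (β := true) (by
    rw [fA_lt (by norm_num), ev6, cb_true]; exact h6)
  have h7 := allB alpha_check c hc256
  rw [g0, g1, g2, g3, g4, g5, g6] at h7
  simp only [Bool.or_false, Bool.false_or, Bool.not_true, Bool.or_eq_true] at h7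
  have hxk : ∃ (i ε : Bool), x' = cb i z * k * cb ε a := by
    have hio : ∃ i : Bool, io (fA t w r k n z s b) c 8 = cb i z * k := by
      rcases h7 with h | h <;> rw [Nat.eq_of_beq_eq_true h]
      · refine ⟨false, ?_⟩
        show 1 * 1 * fA t w r k n z s b 1 * 1 * 1 * 1 * 1 * 1 * 1 = 1 * k
        rw [fA_lt (by norm_num), ev1]; simp
      · refine ⟨true, ?_⟩
        show 1 * fA t w r k n z s b 0 * fA t w r k n z s b 1 * 1 * 1 * 1 * 1 * 1 * 1 = z * k
        rw [fA_lt (by norm_num), fA_lt (by norm_num), ev0, ev1]; simp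
    obtain ⟨i, hi⟩ := hio
    rcases hcx with h | h
    · exact ⟨i, false, by rw [h, hi, cb_false, mul_one]⟩
    · exact ⟨i, true, by rw [h, hi, cb_true]⟩
  obtain ⟨i, ε, hxe⟩ := hxk
  -- `i = false`
  have hsq : (b * x') * (b * x') = 1 := by
    rw [← hbx]
    calc α * b * α * (α * b * α) = α * b * (α * α) * b * α := by group
      _ = 1 := by rw [αα, mul_one, mul_assoc α b b, B.b2, mul_one, αα]
  have hbzb : b * z * b = z * a := by
    rw [B.bz, mul_assoc, ← hca b B.bA, ← mul_assoc, mul_assoc z b b, B.b2, mul_one]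
  have hkk := R.k2
  have hkz := comm_k R
  have hka := hca k D.kA
  have hza := hca z p.z_mem
  have hi : i = false := by
    cases i
    · rfl
    · exfalso
      apply p.la.z_ne
      have h8 : b * x' * b = z * a * k * cb ε a := by
        rw [hxe, cb_true]
        have h9 : cb ε a * b = b * cb ε a := cb_comm (hca b B.bA).symm ε
        calc b * (z * k * cb ε a) * b = b * z * k * (cb ε a * b) := by group
          _ = b * z * (k * b) * cb ε a := by rw [h9]; group
          _ = (b * z * b) * k * cb ε a := by rw [← B.bk]; group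
          _ = z * a * k * cb ε a := by rw [hbzb]
      have h10 : (b * x') * (b * x') = a := by
        rw [← mul_assoc, h8, hxe, cb_true]
        have hε : cb ε a * cb ε a = 1 := by cases ε <;> simp [cb, haa]
        have h13 : cb ε a * z = z * cb ε a := cb_comm hza.symm ε
        have h14 : cb ε a * k = k * cb ε a := cb_comm hka.symm ε
        calc z * a * k * cb ε a * (z * k * cb ε a) = z * a * k * (cb ε a * z) * k * cb ε a := by group
          _ = z * a * (k * z) * (cb ε a * k) * cb ε a := by rw [h13]; group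
          _ = z * a * z * (k * k) * (cb ε a * cb ε a) := by rw [h14, hkz]; group
          _ = z * (a * z) := by rw [hkk, hε]; group
          _ = (z * z) * a := by rw [← hza]; group
          _ = a := by rw [p.lz.z_sq, one_mul]
      rw [← h10]; exact hsq
  rw [hi, cb_false, one_mul] at hxe
  refine ⟨ε, ?_⟩
  -- `b α b = α k a^ε`
  have h11 : α * b * α = b * k * cb ε a := by rw [hbx, hxe, mul_assoc]
  have hαk : α * k = k * α := by
    calc α * k = (α * k * α) * α := by rw [mul_assoc _ α α, αα, mul_one]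
      _ = k * α := by rw [ck]
  have h12 : cb ε a * α = α * cb ε a := cb_comm αa.symm ε
  calc b * α * b = b * (α * b * α) * α := by
        rw [mul_assoc b (α * b * α) α, mul_assoc _ α α, αα, mul_one, mul_assoc]
    _ = (b * b) * k * (cb ε a * α) := by rw [h11]; group
    _ = (k * α) * cb ε a := by rw [B.b2, h12]; group
    _ = α * k * cb ε a := by rw [hαk]

/-! ### the choice of the sign -/

/-- the element `b` with its action on `α` -/
structure B2 (p : Pair Q z A a) (t w r k n s b : G) : Prop extends B1 p t w r k n s b where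
  bα : b * fQ t w r k n z s 1 * b = fQ t w r k n z s 1 * k

theorem sign_check : (chk (wQ 4 ++ (wQ 1 ++ wQ 4)) (wQ 1 ++ [6]) && (chk (wQ 4 ++ wQ 4) [] &&
    chk ([2] ++ wQ 4) (wQ 4 ++ [2]))) = true := by decide +kernel

theorem exists_B2' [Finite G] {p : Pair Q z A a} (D : Loc p t w r k n s) :
    ∃ k' n' b, ((k' = k ∧ n' = n) ∨ (k' = k * z ∧ n' = n * z)) ∧ Loc p t w r k' n' s ∧
      B2 p t w r k' n' s b := by
  obtain ⟨b, B⟩ := exists_B1 D
  obtain ⟨ε, hε⟩ := conj_alpha D B
  cases ε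
  · refine ⟨k, n, b, Or.inl ⟨rfl, rfl⟩, D, ⟨B, ?_⟩⟩
    rw [hε, cb_false, mul_one]
  · have R := D.rels
    have haa : a * a = 1 := p.la.z_sq
    have hA := wA_mem D
    have hca : ∀ x ∈ A, x * a = a * x := fun x hx => p.la.comm_z x hx
    have hc := sign_check
    simp only [Bool.and_eq_true] at hc
    obtain ⟨c1, c2, c3⟩ := hc
    set e := fQ t w r k n z s 4 with he
    have heA : e ∈ A := hA 6 (by norm_num)
    have hev6 : ev (lt t w r k n z s 1) (wA 6) = e := rfl
    have hevq : ev (lt t w r k n z s 1) (wQ 4) = e := rfl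
    have hez' : ev (lt t w r k n z s 1) [6] = z := by simp [ev, lt]
    have her' : ev (lt t w r k n z s 1) [2] = r := by simp [ev, lt]
    have eαe : e * fQ t w r k n z s 1 * e = fQ t w r k n z s 1 * z := by
      have := ev_of_chk R 1 c1
      rwa [ev_append, ev_append, ev_append, hevq, hez', ← mul_assoc] at this
    have ee : e * e = 1 := by
      have := ev_of_chk R 1 c2
      rwa [ev_append, ev_nil, hevq] at this
    have er : r * e = e * r := by
      have := ev_of_chk R 1 c3
      rwa [ev_append, ev_append, hevq, her'] at this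
    have gA : ∀ {j : ℕ} (hj : j < 7), e * ev (lt t w r k n z s 1) (wA j) =
        ev (lt t w r k n z s 1) (wA j) * e * cb (gramA 6 j) a := @fun j hj => by
      have := gramA_eq D (i := 6) (j := j) (by norm_num) hj
      rwa [hev6] at this
    have g0 : e * z = z * e * cb false a := by
      have := gA (j := 0) (by norm_num); rwa [ev0] at this
    have g1 : e * k = k * e * cb true a := by
      have := gA (j := 1) (by norm_num); rwa [ev1] at this
    have g2 : e * fQ t w r k n z s 2 = fQ t w r k n z s 2 * e * cb false a := gA (j := 2) (by norm_num)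
    have g3 : e * fQ t w r k n z s 3 = fQ t w r k n z s 3 * e * cb false a := gA (j := 3) (by norm_num)
    have g4 : e * (r * t * r⁻¹) = r * t * r⁻¹ * e * cb false a := by
      have := gA (j := 4) (by norm_num); rwa [ev4] at this
    have g5 : e * t = t * e * cb false a := by
      have := gA (j := 5) (by norm_num); rwa [ev5] at this
    have g6 : e * e = e * e * cb false a := by rw [cb_false, mul_one]
    have f1 : ∀ {x y : G}, x * y = y * x → x * y = y * x * cb false a := fun h => by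
      rw [cb_false, mul_one]; exact h
    have f2 : ∀ {x y : G}, x * y = y * x * cb false a → x * y = y * x := fun h => by
      rwa [cb_false, mul_one] at h
    have hea := hca e heA
    have key : ∀ {y : G}, b * y = y * b → e * y = y * e * cb false a → b * e * y = y * (b * e) :=
      fun h1 h2 => f2 (comm_mul hea (f1 h1) h2 haa)
    have hFQ : ∀ i < 8, fQ t w r (k * z) (n * z) z s i = fQ t w r k n z s i := fun i hi => fQ_flip R hi
    have hbez : b * e * z = z * (b * e) * a := comm_mul (β := true) hea B.bz g0 haa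
    have heb : e * b = b * e := B.be.symm
    refine ⟨k * z, n * z, b * e, Or.inr ⟨rfl, rfl⟩, loc_flip D, ⟨⟨A.mul_mem B.bA heA, ?_, hbez, ?_, ?_, ?_, ?_, ?_, ?_, ?_⟩, ?_⟩⟩
    · calc b * e * (b * e) = b * (e * b) * e := by group
        _ = (b * b) * (e * e) := by rw [heb]; group
        _ = 1 := by rw [B.b2, ee, one_mul]
    · exact f2 (comm_mul_right (β := true) (γ := true) (hca z p.z_mem)
        (comm_mul (β := false) (γ := true) hea (f1 B.bk) g1 haa) hbez haa)
    · rw [hFQ 4 (by norm_num)]; exact key B.be g6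
    · rw [hFQ 2 (by norm_num)]; exact key B.bν g2
    · rw [hFQ 3 (by norm_num)]; exact key B.bν' g3
    · exact key B.bt g5
    · exact key B.bt' g4
    · rw [← mul_assoc, B.br, mul_assoc, er, mul_assoc]
    · rw [hFQ 1 (by norm_num)]
      have hbzb : b * z * b = z * a := by
        rw [B.bz, mul_assoc, ← hca b B.bA, ← mul_assoc, mul_assoc z b b, B.b2, mul_one]
      calc b * e * fQ t w r k n z s 1 * (b * e) = b * (e * fQ t w r k n z s 1) * (b * e) := by group
        _ = b * (e * fQ t w r k n z s 1) * (e * b) := by rw [heb]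
        _ = b * (e * fQ t w r k n z s 1 * e) * b := by group
        _ = b * fQ t w r k n z s 1 * (b * b) * z * b := by rw [eαe, B.b2]; group
        _ = (b * fQ t w r k n z s 1 * b) * (b * z * b) := by group
        _ = fQ t w r k n z s 1 * k * (a * z) * a := by rw [hε, hbzb, cb_true]; group
        _ = fQ t w r k n z s 1 * (k * z) * (a * a) := by rw [← hca z p.z_mem]; group
        _ = fQ t w r k n z s 1 * (k * z) := by rw [haa, mul_one]

end

end Cfsg.Agent.TypeOMinusEight.Swap
end

private theorem dce_f6b63315a7f9 : _root_.True := by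
  try have : _root_.True := by simp only [_root_.Cfsg.Agent.TypeO8Minus.Model.idx.eq_2]
  try have : _root_.True := by simp only [_root_.Cfsg.Agent.TypeO8Minus.Gener.X.eq_1]
  try have : _root_.True := by simp only [_root_.Cfsg.Agent.TypeO8Minus.ELbData.rels.eq_1]
  try have : _root_.True := by simp only [_root_.Cfsg.Agent.TypeOMinusEight.Data.fQ.eq_1]
  try have : _root_.True := by simp only [_root_.Cfsg.Agent.TypeO8Minus.Model.idx.eq_1]
  try have : _root_.True := by simp only [_root_.Cfsg.Agent.TypeO8Minus.Model.bz.eq_1]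
  try have : _root_.True := by simp only [_root_.Cfsg.Agent.TypeOMinusEight.Code.cb.eq_1]
  try have : _root_.True := by simp only [_root_.Cfsg.Agent.TypeOMinusEight.Code.bt.eq_1]
  try have : _root_.True := by simp only [_root_.Cfsg.Agent.TypeO8Minus.Model.vec.eq_1]
  try have : _root_.True := by simp only [_root_.Cfsg.Agent.TypeO8Minus.Model.qn.eq_1]
  try have : _root_.True := by simp only [_root_.Cfsg.Agent.TypeOMinusEight.Words.chk.eq_1]
  try have : _root_.True := by simp only [_root_.Cfsg.Agent.TypeO8Minus.Model.idx.eq_3]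
  try have : _root_.True := by simp only [_root_.Cfsg.Agent.TypeO8Minus.Ident.Γ.eq_1]
  try have : _root_.True := by simp only [_root_.Cfsg.Agent.TypeO8Minus.Model.Bn.eq_1]
  try have : _root_.True := by simp only [_root_.Cfsg.Agent.TypeOMinusEight.Data.chkConj.eq_1]
  try have : _root_.True := by simp only [_root_.Cfsg.Agent.TypeO8Minus.Model.sie.eq_1]
  try have : _root_.True := by simp only [_root_.Cfsg.Agent.TypeOMinusEight.Data.iv.eq_1]
  exact _root_.True.intro
end

-- part: LargeExtra/Tri/Irred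
section
set_option linter.all false
open scoped Cfsg.Agent.FastGrp

/-!
# From the third alternative of S1761 to `Irr p` (helper73)
-/

set_option autoImplicit false

namespace Cfsg.Agent.LargeExtra.Tri.Irred

open Cfsg.Agent.Co2Type.Quad Cfsg.Agent.LargeExtra.Base Cfsg.Agent.LargeExtra.TwoCentral
open Cfsg.Agent.LargeExtra.SiegFam.Inst

variable {G : Type*} [Group G]

/-- the preimage in `Q` of a subspace of `V` -/
def pre {Q : Subgroup G} {z : G} (h : Large Q z) (R : Submodule (ZMod 2) h.V) : Subgroup G where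
  carrier := {x | ∃ hx : x ∈ Q, h.pr ⟨x, hx⟩ ∈ R}
  one_mem' := ⟨Q.one_mem, by
    have : h.pr ⟨1, Q.one_mem⟩ = 0 := h.pr_one
    rw [this]; exact R.zero_mem⟩
  mul_mem' := by
    rintro x y ⟨hx, h1⟩ ⟨hy, h2⟩
    refine ⟨Q.mul_mem hx hy, ?_⟩
    have : h.pr ⟨x * y, Q.mul_mem hx hy⟩ = h.pr ⟨x, hx⟩ + h.pr ⟨y, hy⟩ := h.pr_mul ⟨x, hx⟩ ⟨y, hy⟩
    rw [this]; exact R.add_mem h1 h2
  inv_mem' := by
    rintro x ⟨hx, h1⟩
    refine ⟨Q.inv_mem hx, ?_⟩
    have : h.pr ⟨x⁻¹, Q.inv_mem hx⟩ = -h.pr ⟨x, hx⟩ := h.pr_inv ⟨x, hx⟩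
    rw [this]; exact R.neg_mem h1

theorem mem_pre {Q : Subgroup G} {z : G} (h : Large Q z) (R : Submodule (ZMod 2) h.V) {x : G} :
    x ∈ pre h R ↔ ∃ hx : x ∈ Q, h.pr ⟨x, hx⟩ ∈ R := Iff.rfl

/-- no proper nonzero `C_G(z)`-invariant subspace -/
theorem eq_bot_or_top {z : G} {F : Subgroup ↥(Subgroup.centralizer ({z} : Set G))}
    (h : Large (F.map (Subgroup.centralizer ({z} : Set G)).subtype) z)
    (hI : ∀ A : Subgroup ↥(Subgroup.centralizer ({z} : Set G)), A.Normal →
      Subgroup.zpowers (⟨z, Subgroup.mem_centralizer_singleton_iff.mpr rfl⟩ :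
        ↥(Subgroup.centralizer ({z} : Set G))) ≤ A → A ≤ F →
      A = Subgroup.zpowers (⟨z, Subgroup.mem_centralizer_singleton_iff.mpr rfl⟩ :
        ↥(Subgroup.centralizer ({z} : Set G))) ∨ A = F)
    (R : Submodule (ZMod 2) h.V) (hR : ∀ c, ∀ v ∈ R, h.act c v ∈ R) : R = ⊥ ∨ R = ⊤ := by
  have hmem : ∀ x : ↥(Subgroup.centralizer ({z} : Set G)), (x : G) ∈
      F.map (Subgroup.centralizer ({z} : Set G)).subtype ↔ x ∈ F := by
    intro x
    constructor
    · rintro ⟨y, hy, hyx⟩
      have : y = x := Subtype.ext hyx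
      rwa [← this]
    · intro hx
      exact ⟨x, hx, rfl⟩
  have hn : ((pre h R).subgroupOf (Subgroup.centralizer ({z} : Set G))).Normal := by
    constructor
    intro x hx c
    obtain ⟨h2, h3⟩ := hx
    have h2' : (x : G) ∈ F.map (Subgroup.centralizer ({z} : Set G)).subtype := h2
    have h4 : (c : G) * x * (c : G)⁻¹ ∈ F.map (Subgroup.centralizer ({z} : Set G)).subtype :=
      h.conj_mem c (Subgroup.mem_centralizer_singleton_iff.1 c.2) x h2'
    refine ⟨h4, ?_⟩
    have h5 := hR c _ h3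
    rw [h.act_pr] at h5
    have h6 : h.conjQ c ⟨x, h2'⟩ = ⟨(c : G) * x * (c : G)⁻¹, h4⟩ := Subtype.ext (h.conjQ_coe c _)
    have h7 : h.pr (h.conjQ c ⟨x, h2'⟩) ∈ R := h5
    rw [h6] at h7
    exact h7
  have hz : Subgroup.zpowers (⟨z, Subgroup.mem_centralizer_singleton_iff.mpr rfl⟩ :
      ↥(Subgroup.centralizer ({z} : Set G))) ≤
      (pre h R).subgroupOf (Subgroup.centralizer ({z} : Set G)) := by
    rw [Subgroup.zpowers_le]
    refine ⟨h.z_mem, ?_⟩
    have : h.pr ⟨z, h.z_mem⟩ = 0 := h.pr_eq_zero.2 (Or.inr rfl)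
    exact this ▸ R.zero_mem
  have hF : (pre h R).subgroupOf (Subgroup.centralizer ({z} : Set G)) ≤ F := by
    intro x hx
    obtain ⟨h2, -⟩ := hx
    exact (hmem x).1 h2
  rcases hI _ hn hz hF with h1 | h1
  · left
    rw [eq_bot_iff]
    intro v hv
    obtain ⟨x, rfl⟩ := h.pr_surjective v
    have hxC : (x : G) ∈ Subgroup.centralizer ({z} : Set G) :=
      Subgroup.mem_centralizer_singleton_iff.2 (h.comm_z x x.2)
    have h2 : (⟨x, hxC⟩ : ↥(Subgroup.centralizer ({z} : Set G))) ∈
        (pre h R).subgroupOf (Subgroup.centralizer ({z} : Set G)) := ⟨x.2, hv⟩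
    obtain ⟨n, hn⟩ := Subgroup.mem_zpowers_iff.1 (h1.le h2)
    have h3 : z ^ n = (x : G) := congrArg Subtype.val hn
    have h4 : (x : G) = 1 ∨ (x : G) = z := by
      rw [← h3]
      rcases Int.even_or_odd n with ⟨m, hm⟩ | ⟨m, hm⟩
      · left
        rw [hm, ← two_mul, zpow_mul, zpow_ofNat, pow_two, h.z_sq, one_zpow]
      · right
        rw [hm, zpow_add, zpow_mul, zpow_ofNat, pow_two, h.z_sq, one_zpow, one_mul, zpow_one]
    exact (Submodule.mem_bot _).2 (h.pr_eq_zero.2 h4)
  · right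
    rw [eq_top_iff]
    intro v _
    obtain ⟨x, rfl⟩ := h.pr_surjective v
    have hxC : (x : G) ∈ Subgroup.centralizer ({z} : Set G) :=
      Subgroup.mem_centralizer_singleton_iff.2 (h.comm_z x x.2)
    have h2 : (⟨x, hxC⟩ : ↥(Subgroup.centralizer ({z} : Set G))) ∈ F := (hmem ⟨x, hxC⟩).1 x.2
    obtain ⟨h3, h4⟩ := h1.ge h2
    exact h4

/-- the third alternative of S1761 implies `Irr p` -/
theorem irr {z a : G} {A : Subgroup G} {F : Subgroup ↥(Subgroup.centralizer ({z} : Set G))}
    (p : Pair (F.map (Subgroup.centralizer ({z} : Set G)).subtype) z A a)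
    (hI : ∀ A : Subgroup ↥(Subgroup.centralizer ({z} : Set G)), A.Normal →
      Subgroup.zpowers (⟨z, Subgroup.mem_centralizer_singleton_iff.mpr rfl⟩ :
        ↥(Subgroup.centralizer ({z} : Set G))) ≤ A → A ≤ F →
      A = Subgroup.zpowers (⟨z, Subgroup.mem_centralizer_singleton_iff.mpr rfl⟩ :
        ↥(Subgroup.centralizer ({z} : Set G))) ∨ A = F) : Irr p := by
  intro R hq hR
  rcases eq_bot_or_top p.lz hI R (fun c v hv => hR _ ⟨c, rfl⟩ v hv) with h1 | h1
  · exact h1
  · exfalso
    apply p.va_ne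
    apply p.lz.b_nondeg
    intro w
    have h2 := p.lz.q_add' p.va w
    have h3 : ∀ v, p.lz.q v = 0 := fun v => hq v (by rw [h1]; trivial)
    rw [h3, h3, h3, add_zero, zero_add] at h2
    exact h2.symm

end Cfsg.Agent.LargeExtra.Tri.Irred
end

-- part: LargeExtra/KillNine/PtsHN
section
prune_inst 0x110041002402000008180580030020247c0000900020400031000e400b050301a04101013670160080d6bac07808404000100180001000000000ba004002000004050a020434ac00310000009884000000000000000000000000000000000000000000000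
set_option linter.all false
open scoped Cfsg.Agent.FastGrp
private noncomputable def lq269cae4312 {T : Sort _} (f :
    type_of% (@_root_.List.cons.{0}) →
    type_of% (@_root_.List.nil.{0}) →
    type_of% (@_root_.Prod.mk.{0, 0}) →
    type_of% (@_root_.List.cons.{0} (Prod (List Nat) (List (List Nat)))) →
    type_of% (@_root_.List.cons.{0} (Nat)) →
    type_of% (@_root_.List.cons.{0} (Prod Nat (Prod (List Nat) (List Nat)))) →
    type_of% (@_root_.List.cons.{0} (Prod Nat (List (List Nat)))) →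
    type_of% (@_root_.Cfsg.Agent.LargeExtra.KillNine.Codes.idL) → T) : T :=
  f (@_root_.List.cons.{0}) (@_root_.List.nil.{0}) (@_root_.Prod.mk.{0, 0}) (@_root_.List.cons.{0} (Prod (List Nat) (List (List Nat)))) (@_root_.List.cons.{0} (Nat)) (@_root_.List.cons.{0} (Prod Nat (Prod (List Nat) (List Nat)))) (@_root_.List.cons.{0} (Prod Nat (List (List Nat)))) (@_root_.Cfsg.Agent.LargeExtra.KillNine.Codes.idL)

/-!
# The conjugates of `z` in `Q` for `confHN` (helper441, generated)
-/

set_option autoImplicit false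
set_option maxRecDepth 1000000

namespace Cfsg.Agent.LargeExtra.KillNine.PtsHN

open Cfsg.Agent.Co2Type.Quad Cfsg.Agent.LargeExtra.Base Cfsg.Agent.LargeExtra.Nine
open Cfsg.Agent.LargeExtra.KillNine.Pts Cfsg.Agent.LargeExtra.KillNine.Codes

variable {G : Type*} [Group G] {Q A : Subgroup G} {z a : G}

def g0 : List ℕ := [1,2,4,9,144,36,66,128]
def g1 : List ℕ := [1,2,5,8,88,40,64,131]
def g2 : List ℕ := [1,3,4,8,60,32,73,133]
def g3 : List ℕ := [129,6,4,24,16,32,96,128]
def g4 : List ℕ := [15,2,4,8,16,48,88,148]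
def g5 : List ℕ := [73,10,20,8,16,32,64,176]
/-- the points of `confHN` -/
def orb : List ℕ := (beta% delta% lq269cae4312 fun a b _ _ f _ _ _ =>
 (let e:=(let e:=(let e:=(let e:=(f 236<|f 240<|f 249<|f 250<|f 252<|b);
 (f 219<|f 220<|f 224<|f 230<|f 235<|e));
 (let e:=(f 205<|f 206<|
 f 207<|f 208<|f 217<|e);
 (f 193<|f 194<|f 195<|f 204<|e)));
 (let e:=(let e:=(f 179<|f 185<|f 186<|f 190<|f 192<|e);
 (f 165<|f 170<|f 171<|f 174<|f 175<|e));
 (let e:=(f 150<|f 155<|
 f 160<|f 161<|f 164<|e);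
 (f 132<|f 134<|f 144<|f 146<|e))));
 (let e:=(let e:=(let e:=(f 123<|f 125<|f 126<|f 129<|f 130<|e);
 (f 104<|f 105<|f 110<|f 111<|f 118<|e));
 (let e:=(f 95<|f 96<|
 f 97<|f 102<|f 103<|e);
 (f 74<|f 82<|f 88<|f 90<|e)));
 (let e:=(let e:=(f 60<|f 63<|f 64<|f 66<|f 73<|e);
 (f 41<|f 44<|f 55<|f 59<|e));
 (let e:=(f 18<|f 22<|f 26<|f 33<|f 37<|e);
 (a 1<|a 14<|a 15<|a 16<|e))))))

def s0_0 : List ℕ := [82,2,5,215,219,243,207,93]
def s0_1 : List ℕ := [130,2,7,213,217,237,193,131]

def T0 : List (ℕ × List ℕ × List ℕ) := (beta% delta% lq269cae4312 fun a b c _ _ g _ i =>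
 (let e:=(let e:=(let e:=(let e:=(g (c 36<|c (a 144<|a 36<|a 32<|a 45<|a 37<|a 112<|a 102<|a 128<|b) (a 18<|a 231<|a 6<|a 24<|a 129<|a 4<|a 165<|a 128<|b))<|
 g (c 52<|c (a 171<|a 52<|a 222<|a 40<|a 250<|a 45<|a 175<|a 148<|b) (a 105<|a 183<|a 65<|a 93<|a 22<|a 85<|a 110<|a 215<|b))<|
 g (c 32<|c (a 41<|a 32<|a 4<|a 180<|a 132<|a 135<|a 252<|a 5<|b) (a 132<|a 180<|a 4<|a 135<|a 26<|a 2<|a 207<|a 20<|b))<|
 g (c 56<|c (a 63<|a 56<|a 12<|a 210<|a 250<|a 255<|a 130<|a 3<|b) (a 179<|a 51<|a 131<|a 135<|a 26<|a 159<|a 82<|a 115<|b))<|b);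
 (g (c 222<|c (a 217<|a 222<|a 12<|a 52<|a 16<|a 20<|a 132<|a 2<|b) (a 179<|a 128<|a 48<|a 52<|a 16<|a 40<|a 230<|a 112<|b))<|
 g (c 120<|c (a 126<|a 120<|a 13<|a 153<|a 185<|a 189<|a 129<|a 3<|b) (a 179<|a 51<|a 48<|a 135<|a 207<|a 24<|a 82<|a 243<|b))<|
 g (c 80<|c (a 207<|a 80<|a 40<|a 24<|a 16<|a 12<|a 26<|a 234<|b) (a 165<|a 72<|a 56<|a 24<|a 16<|a 28<|a 18<|a 222<|b))<|
 g (c 40<|c (a 88<|a 40<|a 45<|a 32<|a 41<|a 180<|a 104<|a 131<|b) (a 18<|a 231<|a 20<|a 10<|a 73<|a 8<|a 66<|a 117<|b))<|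
 e));
 (g (c 24<|c (a 16<|a 24<|a 4<|a 32<|a 185<|a 180<|a 88<|a 10<|b) (a 55<|a 131<|a 4<|a 3<|a 1<|a 8<|a 66<|a 45<|b))<|
 g (c 210<|c (a 219<|a 210<|a 5<|a 45<|a 125<|a 112<|a 144<|a 11<|b) (a 55<|a 131<|a 51<|a 52<|a 217<|a 56<|a 193<|a 153<|b))<|
 g (c 117<|c (a 160<|a 117<|a 148<|a 32<|a 185<|a 36<|a 165<|a 222<|b) (a 105<|a 183<|a 40<|a 93<|a 37<|a 8<|a 110<|a 9<|b))<|
 g (c 48<|c (a 55<|a 48<|a 4<|a 176<|a 144<|a 157<|a 224<|a 11<|b) (a 179<|a 180<|a 4<|a 135<|a 26<|a 24<|a 82<|a 10<|b))<|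
 g (c 20<|c (a 18<|a 20<|a 12<|a 243<|a 219<|a 222<|a 134<|a 2<|b) (a 179<|a 128<|a 131<|a 135<|a 129<|a 159<|a 102<|a 67<|b))<|
 g (c 246<|c (a 240<|a 246<|a 5<|a 117<|a 88<|a 85<|a 236<|a 10<|b) (a 179<|a 180<|a 183<|a 52<|a 194<|a 40<|a 230<|a 13<|b))<|
 g (c 189<|c (a 186<|a 189<|a 13<|a 80<|a 125<|a 120<|a 130<|a 3<|b) (a 179<|a 51<|a 131<|a 52<|a 105<|a 28<|a 97<|a 115<|b))<|
 e));
 (let e:=(let e:=(g (c 115<|c (a 146<|a 115<|a 120<|a 117<|a 125<|a 40<|a 97<|a 210<|b) (a 249<|a 231<|a 237<|a 24<|a 165<|a 56<|a 129<|a 67<|b))<|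
 g (c 45<|c (a 219<|a 45<|a 40<|a 36<|a 44<|a 48<|a 111<|a 131<|b) (a 18<|a 231<|a 20<|a 24<|a 60<|a 28<|a 165<|a 117<|b))<|
 g (c 148<|c (a 146<|a 148<|a 11<|a 115<|a 59<|a 56<|a 134<|a 4<|b) (a 179<|a 131<|a 128<|a 52<|a 193<|a 213<|a 44<|a 67<|b))<|
 g (c 176<|c (a 174<|a 176<|a 93<|a 45<|a 125<|a 40<|a 170<|a 20<|b) (a 105<|a 183<|a 65<|a 52<|a 193<|a 20<|a 217<|a 215<|b))<|
 e);
 (g (c 72<|c (a 66<|a 72<|a 189<|a 9<|a 41<|a 36<|a 1<|a 231<|b) (a 64<|a 75<|a 56<|a 72<|a 205<|a 24<|a 74<|a 225<|b))<|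
 g (c 213<|c (a 130<|a 213<|a 85<|a 80<|a 37<|a 120<|a 186<|a 67<|b) (a 230<|a 7<|a 234<|a 52<|a 105<|a 28<|a 97<|a 6<|b))<|
 g (c 183<|c (a 132<|a 183<|a 48<|a 52<|a 44<|a 20<|a 217<|a 75<|b) (a 230<|a 225<|a 12<|a 52<|a 44<|a 40<|a 179<|a 13<|b))<|
 g (c 8<|c (a 22<|a 8<|a 10<|a 75<|a 66<|a 189<|a 102<|a 24<|b) (a 26<|a 6<|a 133<|a 2<|a 130<|a 213<|a 22<|a 234<|b))<|
 e));
 (g (c 180<|c (a 179<|a 180<|a 4<|a 52<|a 16<|a 28<|a 230<|a 10<|b) (a 179<|a 180<|a 4<|a 52<|a 16<|a 28<|a 230<|a 10<|b))<|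
 g (c 245<|c (a 235<|a 245<|a 20<|a 24<|a 44<|a 48<|a 155<|a 75<|b) (a 230<|a 51<|a 56<|a 52<|a 60<|a 28<|a 97<|a 157<|b))<|
 g (c 255<|c (a 249<|a 255<|a 12<|a 24<|a 60<|a 56<|a 129<|a 3<|b) (a 179<|a 51<|a 48<|a 52<|a 60<|a 40<|a 97<|a 243<|b))<|
 g (c 234<|c (a 217<|a 234<|a 56<|a 52<|a 16<|a 32<|a 132<|a 120<|b) (a 217<|a 234<|a 56<|a 52<|a 16<|a 32<|a 132<|a 120<|b))<|
 g (c 93<|c (a 95<|a 93<|a 28<|a 8<|a 60<|a 56<|a 15<|a 157<|b) (a 123<|a 3<|a 48<|a 8<|a 60<|a 20<|a 125<|a 255<|b))<|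
 g (c 4<|c (a 14<|a 4<|a 12<|a 9<|a 33<|a 222<|a 190<|a 30<|b) (a 14<|a 5<|a 2<|a 6<|a 129<|a 30<|a 126<|a 222<|b))<|
 g (c 112<|c (a 123<|a 112<|a 56<|a 8<|a 16<|a 28<|a 14<|a 222<|b) (a 123<|a 112<|a 56<|a 8<|a 16<|a 28<|a 14<|a 222<|b))<|
 e)));
 (let e:=(let e:=(let e:=(g (c 243<|c (a 164<|a 243<|a 20<|a 36<|a 60<|a 32<|a 161<|a 93<|b) (a 105<|a 183<|a 40<|a 52<|a 44<|a 32<|a 217<|a 9<|b))<|
 g (c 225<|c (a 230<|a 225<|a 12<|a 52<|a 44<|a 40<|a 179<|a 13<|b) (a 132<|a 183<|a 48<|a 52<|a 44<|a 20<|a 217<|a 75<|b))<|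
 g (c 28<|c (a 26<|a 28<|a 4<|a 153<|a 185<|a 180<|a 236<|a 10<|b) (a 179<|a 7<|a 4<|a 135<|a 129<|a 24<|a 102<|a 189<|b))<|
 g (c 215<|c (a 208<|a 215<|a 5<|a 80<|a 125<|a 112<|a 224<|a 11<|b) (a 179<|a 7<|a 183<|a 52<|a 105<|a 40<|a 97<|a 9<|b))<|
 e);
 (g (c 87<|c (a 186<|a 87<|a 93<|a 80<|a 88<|a 40<|a 104<|a 243<|b) (a 249<|a 30<|a 237<|a 24<|a 104<|a 56<|a 96<|a 87<|b))<|
 g (c 51<|c (a 217<|a 51<|a 56<|a 52<|a 60<|a 32<|a 105<|a 153<|b) (a 249<|a 231<|a 20<|a 24<|a 60<|a 32<|a 129<|a 93<|b))<|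
 g (c 128<|c (a 134<|a 128<|a 5<|a 117<|a 37<|a 40<|a 146<|a 4<|b) (a 132<|a 131<|a 128<|a 52<|a 193<|a 20<|a 217<|a 2<|b))<|
 g (c 153<|c (a 144<|a 153<|a 4<|a 36<|a 60<|a 48<|a 219<|a 11<|b) (a 55<|a 131<|a 4<|a 52<|a 44<|a 12<|a 193<|a 45<|b))<|
 e));
 (g (c 12<|c (a 14<|a 12<|a 4<|a 9<|a 41<|a 180<|a 220<|a 30<|b) (a 14<|a 3<|a 4<|a 6<|a 129<|a 24<|a 126<|a 189<|b))<|
 g (c 85<|c (a 95<|a 85<|a 20<|a 8<|a 60<|a 48<|a 15<|a 255<|b) (a 123<|a 11<|a 56<|a 8<|a 60<|a 28<|a 125<|a 157<|b))<|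
 g (c 5<|c (a 15<|a 5<|a 12<|a 8<|a 44<|a 56<|a 95<|a 245<|b) (a 14<|a 11<|a 12<|a 8<|a 60<|a 20<|a 125<|a 215<|b))<|
 g (c 65<|c (a 74<|a 65<|a 148<|a 9<|a 41<|a 36<|a 1<|a 234<|b) (a 64<|a 11<|a 56<|a 72<|a 165<|a 24<|a 66<|a 153<|b))<|
 g (c 75<|c (a 64<|a 75<|a 56<|a 8<|a 44<|a 32<|a 1<|a 225<|b) (a 64<|a 75<|a 56<|a 8<|a 44<|a 32<|a 1<|a 225<|b))<|
 g (c 159<|c (a 129<|a 159<|a 28<|a 24<|a 44<|a 56<|a 249<|a 67<|b) (a 230<|a 7<|a 12<|a 52<|a 60<|a 40<|a 97<|a 231<|b))<|
 g (c 9<|c (a 150<|a 9<|a 11<|a 72<|a 64<|a 56<|a 96<|a 153<|b) (a 26<|a 6<|a 133<|a 24<|a 104<|a 80<|a 16<|a 234<|b))<|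
 e));
 (let e:=(let e:=(g (c 131<|c (a 132<|a 131<|a 4<|a 52<|a 44<|a 32<|a 217<|a 5<|b) (a 132<|a 131<|a 4<|a 52<|a 44<|a 32<|a 217<|a 5<|b))<|
 g (c 157<|c (a 155<|a 157<|a 4<|a 24<|a 60<|a 48<|a 235<|a 11<|b) (a 179<|a 7<|a 4<|a 52<|a 60<|a 28<|a 97<|a 189<|b))<|
 g (c 231<|c (a 249<|a 231<|a 20<|a 24<|a 60<|a 32<|a 129<|a 93<|b) (a 217<|a 51<|a 56<|a 52<|a 60<|a 32<|a 105<|a 153<|b))<|
 g (c 237<|c (a 235<|a 237<|a 12<|a 24<|a 44<|a 40<|a 155<|a 13<|b) (a 132<|a 51<|a 48<|a 52<|a 60<|a 20<|a 105<|a 255<|b))<|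
 e);
 (g (c 11<|c (a 1<|a 11<|a 12<|a 8<|a 60<|a 40<|a 73<|a 231<|b) (a 1<|a 11<|a 12<|a 8<|a 60<|a 40<|a 73<|a 231<|b))<|
 g (c 7<|c (a 130<|a 7<|a 5<|a 80<|a 88<|a 40<|a 104<|a 131<|b) (a 129<|a 6<|a 133<|a 24<|a 104<|a 56<|a 96<|a 7<|b))<|
 g (c 30<|c (a 249<|a 30<|a 20<|a 24<|a 16<|a 32<|a 96<|a 176<|b) (a 249<|a 30<|a 20<|a 24<|a 16<|a 32<|a 96<|a 176<|b))<|
 g (c 133<|c (a 130<|a 133<|a 5<|a 80<|a 37<|a 40<|a 186<|a 4<|b) (a 132<|a 7<|a 128<|a 52<|a 97<|a 20<|a 105<|a 6<|b))<|
 e));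
 (a (c 2<|c i i)<|a (c 3<|c (a 1<|a 3<|a 4<|a 8<|a 60<|a 32<|a 73<|a 133<|b) (a 1<|a 3<|a 4<|a 8<|a 60<|a 32<|a 73<|a 133<|b))<|
 a (c 6<|c (a 129<|a 6<|a 4<|a 24<|a 16<|a 32<|a 96<|a 128<|b) (a 129<|a 6<|a 4<|a 24<|a 16<|a 32<|a 96<|a 128<|b))<|
 a (c 10<|c (a 73<|a 10<|a 20<|a 8<|a 16<|a 32<|a 64<|a 176<|b) (a 73<|a 10<|a 20<|a 8<|a 16<|a 32<|a 64<|a 176<|b))<|
 a (c 135<|c (a 129<|a 135<|a 4<|a 24<|a 44<|a 32<|a 249<|a 5<|b) (a 132<|a 7<|a 4<|a 52<|a 60<|a 32<|a 105<|a 133<|b))<|
 a (c 13<|c (a 15<|a 13<|a 4<|a 8<|a 44<|a 48<|a 95<|a 159<|b) (a 14<|a 3<|a 4<|a 8<|a 60<|a 28<|a 125<|a 189<|b))<|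
 a (c 67<|c (a 73<|a 67<|a 20<|a 8<|a 44<|a 32<|a 1<|a 237<|b) (a 64<|a 11<|a 56<|a 8<|a 60<|a 32<|a 73<|a 153<|b))<|
 e)))))

def L0 : List (List ℕ × List (List ℕ)) := (beta% delta% lq269cae4312 fun a b c d _ _ _ i =>
 (let e:=(let e:=(let e:=(let e:=(let e:=(let e:=(d (c (a 74<|a 2<|a 213<|a 11<|a 217<|a 225<|a 64<|a 24<|b) (a s0_0<|a s0_0<|a s0_0<|a s0_1<|a s0_1<|a s0_1<|a s0_0<|a s0_1<|a s0_1<|b))<|
 d (c (a 1<|a 2<|a 7<|a 11<|a 217<|a 234<|a 64<|a 131<|b) (a s0_0<|a s0_0<|a s0_0<|a s0_1<|a s0_1<|a s0_1<|a s0_0<|a s0_0<|a s0_1<|b))<|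
 d (c (a 150<|a 2<|a 215<|a 9<|a 219<|a 255<|a 144<|a 20<|b) (a s0_0<|a s0_0<|a s0_0<|a s0_1<|a s0_1<|a s0_1<|a s0_0<|a s0_1<|a s0_0<|b))<|
 d (c (a 15<|a 2<|a 5<|a 9<|a 219<|a 246<|a 144<|a 93<|b) (a s0_0<|a s0_0<|a s0_0<|a s0_1<|a s0_1<|a s0_1<|a s0_0<|a s0_0<|a s0_0<|b))<|b);
 (d (c (a 155<|a 2<|a 6<|a 30<|a 18<|a 243<|a 204<|a 148<|b) (a s0_1<|a s0_0<|a s0_0<|a s0_1<|a s0_1<|a s0_1<|a s0_0<|a s0_0<|b))<|
 d (c (a 1<|a 2<|a 5<|a 9<|a 219<|a 45<|a 66<|a 131<|b) (a s0_0<|a s0_0<|a s0_1<|a s0_0<|a s0_0<|a s0_1<|a s0_1<|a s0_1<|b))<|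
 d (c (a 26<|a 2<|a 135<|a 4<|a 132<|a 180<|a 16<|a 72<|b) (a s0_0<|a s0_1<|a s0_1<|a s0_0<|a s0_1<|a s0_1<|a s0_1<|a s0_1<|b))<|
 d (c (a 129<|a 2<|a 4<|a 28<|a 16<|a 36<|a 194<|a 128<|b) (a s0_0<|a s0_0<|a s0_0<|a s0_1<|a s0_1<|a s0_1<|a s0_0<|a s0_0<|b))<|
 e));
 (d (c (a 74<|a 2<|a 215<|a 9<|a 219<|a 36<|a 66<|a 24<|b) (a s0_0<|a s0_0<|a s0_1<|a s0_0<|a s0_0<|a s0_1<|a s0_0<|a s0_1<|b))<|
 d (c (a 220<|a 2<|a 67<|a 11<|a 64<|a 115<|a 217<|a 131<|b) (a s0_0<|a s0_0<|a s0_0<|a s0_0<|a s0_0<|a s0_0<|a s0_0<|a s0_0<|b))<|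
 d (c (a 73<|a 2<|a 85<|a 65<|a 193<|a 117<|a 66<|a 153<|b) (a s0_0<|a s0_0<|a s0_1<|a s0_1<|a s0_0<|a s0_1<|a s0_1<|a s0_1<|b))<|
 d (c (a 130<|a 2<|a 87<|a 133<|a 206<|a 189<|a 134<|a 148<|b) (a s0_0<|a s0_0<|a s0_1<|a s0_1<|a s0_1<|a s0_0<|a s0_1<|a s0_1<|b))<|
 d (c (a 15<|a 2<|a 7<|a 11<|a 217<|a 51<|a 146<|a 93<|b) (a s0_0<|a s0_0<|a s0_1<|a s0_0<|a s0_0<|a s0_1<|a s0_1<|a s0_0<|b))<|
 d (c (a 155<|a 2<|a 135<|a 159<|a 207<|a 183<|a 146<|a 75<|b) (a s0_0<|a s0_0<|a s0_1<|a s0_1<|a s0_0<|a s0_1<|a s0_1<|a s0_0<|b))<|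
 d (c (a 150<|a 2<|a 215<|a 159<|a 207<|a 40<|a 146<|a 20<|b) (a s0_0<|a s0_1<|a s0_1<|a s0_1<|a s0_0<|a s0_1<|a s0_1<|a s0_0<|b))<|
 e));
 (let e:=(let e:=(d (c (a 82<|a 2<|a 85<|a 135<|a 204<|a 180<|a 207<|a 13<|b) (a s0_0<|a s0_0<|a s0_1<|a s0_1<|a s0_1<|a s0_0<|a s0_0<|a s0_1<|b))<|
 d (c (a 14<|a 2<|a 7<|a 4<|a 132<|a 176<|a 16<|a 222<|b) (a s0_0<|a s0_0<|a s0_1<|a s0_0<|a s0_1<|a s0_1<|a s0_1<|a s0_1<|b))<|
 d (c (a 74<|a 2<|a 159<|a 11<|a 146<|a 234<|a 64<|a 80<|b) (a s0_0<|a s0_0<|a s0_0<|a s0_0<|a s0_0<|a s0_1<|a s0_0<|a s0_1<|b))<|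
 d (c (a 1<|a 2<|a 7<|a 10<|a 90<|a 237<|a 66<|a 131<|b) (a s0_0<|a s0_1<|a s0_1<|a s0_1<|a s0_0<|a s0_1<|a s0_0<|a s0_1<|b))<|
 e);
 (d (c (a 15<|a 2<|a 5<|a 6<|a 134<|a 243<|a 146<|a 93<|b) (a s0_0<|a s0_1<|a s0_1<|a s0_1<|a s0_0<|a s0_1<|a s0_0<|a s0_0<|b))<|
 d (c (a 73<|a 2<|a 65<|a 28<|a 194<|a 52<|a 206<|a 3<|b) (a s0_1<|a s0_0<|a s0_0<|a s0_1<|a s0_1<|a s0_1<|a s0_1<|a s0_1<|b))<|
 d (c (a 26<|a 2<|a 30<|a 135<|a 204<|a 51<|a 207<|a 12<|b) (a s0_0<|a s0_1<|a s0_1<|a s0_1<|a s0_1<|a s0_0<|a s0_0<|a s0_1<|b))<|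
 d (c (a 95<|a 2<|a 87<|a 67<|a 195<|a 115<|a 192<|a 13<|b) (a s0_0<|a s0_1<|a s0_1<|a s0_0<|a s0_1<|a s0_1<|a s0_0<|a s0_0<|b))<|
 e));
 (d (c (a 95<|a 2<|a 8<|a 28<|a 16<|a 56<|a 194<|a 80<|b) (a s0_0<|a s0_0<|a s0_0<|a s0_1<|a s0_1<|a s0_1<|a s0_0<|a s0_1<|b))<|
 d (c (a 74<|a 2<|a 213<|a 65<|a 193<|a 52<|a 66<|a 24<|b) (a s0_0<|a s0_1<|a s0_1<|a s0_1<|a s0_0<|a s0_1<|a s0_1<|a s0_1<|b))<|
 d (c (a 14<|a 2<|a 5<|a 8<|a 88<|a 112<|a 16<|a 222<|b) (a s0_0<|a s0_0<|a s0_1<|a s0_0<|a s0_1<|a s0_1<|a s0_1<|a s0_0<|b))<|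
 d (c (a 14<|a 2<|a 4<|a 9<|a 144<|a 180<|a 219<|a 20<|b) (a s0_0<|a s0_0<|a s0_0<|a s0_0<|a s0_0<|a s0_0<|a s0_1<|a s0_1<|b))<|
 d (c (a 22<|a 2<|a 30<|a 85<|a 204<|a 45<|a 193<|a 12<|b) (a s0_0<|a s0_1<|a s0_1<|a s0_1<|a s0_1<|a s0_0<|a s0_0<|a s0_0<|b))<|
 d (c (a 155<|a 2<|a 133<|a 6<|a 134<|a 245<|a 146<|a 75<|b) (a s0_0<|a s0_0<|a s0_1<|a s0_1<|a s0_0<|a s0_1<|a s0_0<|a s0_0<|b))<|
 d (c (a 220<|a 2<|a 157<|a 9<|a 144<|a 189<|a 219<|a 93<|b) (a s0_0<|a s0_0<|a s0_0<|a s0_0<|a s0_0<|a s0_0<|a s0_0<|a s0_1<|b))<|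
 e)));
 (let e:=(let e:=(let e:=(d (c (a 26<|a 2<|a 157<|a 30<|a 192<|a 45<|a 18<|a 80<|b) (a s0_0<|a s0_0<|a s0_0<|a s0_1<|a s0_1<|a s0_1<|a s0_1<|a s0_0<|b))<|
 d (c (a 15<|a 2<|a 10<|a 9<|a 66<|a 255<|a 144<|a 80<|b) (a s0_0<|a s0_0<|a s0_0<|a s0_0<|a s0_0<|a s0_1<|a s0_1<|a s0_0<|b))<|
 d (c (a 73<|a 2<|a 10<|a 30<|a 18<|a 237<|a 204<|a 72<|b) (a s0_1<|a s0_0<|a s0_0<|a s0_1<|a s0_1<|a s0_1<|a s0_0<|a s0_1<|b))<|
 d (c (a 150<|a 2<|a 213<|a 11<|a 217<|a 56<|a 146<|a 20<|b) (a s0_0<|a s0_0<|a s0_1<|a s0_0<|a s0_0<|a s0_1<|a s0_0<|a s0_0<|b))<|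
 e);
 (d (c (a 130<|a 2<|a 135<|a 85<|a 204<|a 120<|a 193<|a 3<|b) (a s0_0<|a s0_0<|a s0_1<|a s0_1<|a s0_1<|a s0_0<|a s0_0<|a s0_0<|b))<|
 d (c (a 129<|a 2<|a 28<|a 133<|a 206<|a 56<|a 134<|a 222<|b) (a s0_0<|a s0_1<|a s0_1<|a s0_1<|a s0_1<|a s0_0<|a s0_1<|a s0_1<|b))<|
 d (c (a 220<|a 2<|a 213<|a 157<|a 205<|a 32<|a 192<|a 12<|b) (a s0_0<|a s0_0<|a s0_1<|a s0_0<|a s0_1<|a s0_1<|a s0_0<|a s0_1<|b))<|
 d (c (a 220<|a 2<|a 215<|a 67<|a 195<|a 48<|a 192<|a 12<|b) (a s0_0<|a s0_0<|a s0_1<|a s0_0<|a s0_1<|a s0_1<|a s0_0<|a s0_0<|b))<|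
 e));
 (d (c (a 82<|a 2<|a 133<|a 87<|a 206<|a 115<|a 90<|a 72<|b) (a s0_0<|a s0_0<|a s0_1<|a s0_1<|a s0_1<|a s0_0<|a s0_1<|a s0_0<|b))<|
 d (c (a 1<|a 2<|a 6<|a 11<|a 146<|a 225<|a 64<|a 128<|b) (a s0_0<|a s0_0<|a s0_0<|a s0_0<|a s0_0<|a s0_1<|a s0_1<|a s0_1<|b))<|
 d (c (a 14<|a 2<|a 8<|a 11<|a 64<|a 120<|a 217<|a 24<|b) (a s0_0<|a s0_0<|a s0_0<|a s0_0<|a s0_0<|a s0_0<|a s0_1<|a s0_0<|b))<|
 d (c (a 22<|a 2<|a 67<|a 30<|a 192<|a 51<|a 18<|a 128<|b) (a s0_0<|a s0_0<|a s0_0<|a s0_1<|a s0_1<|a s0_1<|a s0_1<|a s0_1<|b))<|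
 d (c (a 22<|a 2<|a 85<|a 8<|a 88<|a 120<|a 16<|a 148<|b) (a s0_0<|a s0_1<|a s0_1<|a s0_0<|a s0_1<|a s0_1<|a s0_1<|a s0_0<|b))<|
 d (c (a 73<|a 2<|a 87<|a 10<|a 90<|a 231<|a 66<|a 153<|b) (a s0_0<|a s0_0<|a s0_1<|a s0_1<|a s0_0<|a s0_1<|a s0_0<|a s0_1<|b))<|
 d (c (a 95<|a 2<|a 28<|a 87<|a 206<|a 36<|a 90<|a 222<|b) (a s0_0<|a s0_1<|a s0_1<|a s0_1<|a s0_1<|a s0_0<|a s0_1<|a s0_0<|b))<|
 e));
 (let e:=(let e:=(d (c (a 26<|a 2<|a 4<|a 135<|a 132<|a 180<|a 207<|a 20<|b) (a s0_0<|a s0_0<|a s0_1<|a s0_0<|a s0_1<|a s0_1<|a s0_1<|b))<|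
 d (c (a 150<|a 2<|a 65<|a 9<|a 66<|a 246<|a 144<|a 128<|b) (a s0_0<|a s0_0<|a s0_0<|a s0_0<|a s0_0<|a s0_1<|a s0_0<|a s0_0<|b))<|
 d (c (a 155<|a 2<|a 159<|a 28<|a 194<|a 40<|a 206<|a 13<|b) (a s0_1<|a s0_0<|a s0_0<|a s0_1<|a s0_1<|a s0_1<|a s0_1<|a s0_0<|b))<|
 d (c (a 129<|a 2<|a 133<|a 157<|a 205<|a 189<|a 192<|a 3<|b) (a s0_0<|a s0_1<|a s0_1<|a s0_0<|a s0_1<|a s0_1<|a s0_0<|a s0_1<|b))<|
 e);
 (d (c (a 220<|a 2<|a 9<|a 157<|a 144<|a 189<|a 192<|a 210<|b) (a s0_0<|a s0_0<|a s0_1<|a s0_1<|a s0_0<|a s0_1<|a s0_0<|b))<|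
 d (c (a 22<|a 2<|a 65<|a 28<|a 194<|a 246<|a 16<|a 128<|b) (a s0_0<|a s0_0<|a s0_1<|a s0_0<|a s0_0<|a s0_0<|a s0_0<|b))<|
 d (c (a 95<|a 2<|a 10<|a 30<|a 18<|a 255<|a 192<|a 80<|b) (a s0_0<|a s0_0<|a s0_1<|a s0_0<|a s0_0<|a s0_1<|a s0_0<|b))<|
 d (c (a 73<|a 2<|a 67<|a 30<|a 192<|a 243<|a 204<|a 3<|b) (a s0_1<|a s0_0<|a s0_1<|a s0_0<|a s0_0<|a s0_0<|a s0_0<|b))<|
 e));
 (d (c (a 129<|a 2<|a 30<|a 135<|a 204<|a 255<|a 132<|a 222<|b) (a s0_0<|a s0_0<|a s0_0<|a s0_0<|a s0_1<|a s0_0<|a s0_1<|b))<|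
 d (c (a 74<|a 2<|a 65<|a 213<|a 193<|a 52<|a 205<|a 3<|b) (a s0_0<|a s0_0<|a s0_0<|a s0_1<|a s0_1<|a s0_1<|a s0_1<|b))<|
 d (c (a 22<|a 2<|a 28<|a 87<|a 206<|a 234<|a 195<|a 12<|b) (a s0_0<|a s0_0<|a s0_0<|a s0_0<|a s0_1<|a s0_1<|a s0_0<|b))<|
 d (c (a 208<|a 2<|a 87<|a 215<|a 195<|a 231<|a 219<|a 153<|b) (a s0_1<|a s0_1<|a s0_0<|a s0_1<|a s0_1<|a s0_1<|a s0_1<|b))<|
 d (c (a 95<|a 2<|a 65<|a 10<|a 66<|a 245<|a 90<|a 131<|b) (a s0_1<|a s0_1<|a s0_1<|a s0_1<|a s0_0<|a s0_0<|a s0_1<|b))<|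
 d (c (a 1<|a 2<|a 10<|a 7<|a 90<|a 237<|a 132<|a 72<|b) (a s0_0<|a s0_0<|a s0_0<|a s0_1<|a s0_1<|a s0_0<|a s0_1<|b))<|
 d (c (a 82<|a 2<|a 135<|a 85<|a 204<|a 180<|a 88<|a 72<|b) (a s0_0<|a s0_1<|a s0_0<|a s0_0<|a s0_1<|a s0_0<|a s0_0<|b))<|
 e))));
 (let e:=(let e:=(let e:=(let e:=(d (c (a 14<|a 2<|a 4<|a 7<|a 132<|a 176<|a 217<|a 20<|b) (a s0_1<|a s0_0<|a s0_0<|a s0_1<|a s0_1<|a s0_0<|a s0_0<|b))<|
 d (c (a 1<|a 2<|a 11<|a 6<|a 146<|a 225<|a 134<|a 75<|b) (a s0_1<|a s0_0<|a s0_1<|a s0_1<|a s0_0<|a s0_0<|a s0_0<|b))<|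
 d (c (a 129<|a 2<|a 4<|a 157<|a 144<|a 32<|a 192<|a 128<|b) (a s0_0<|a s0_1<|a s0_1<|a s0_1<|a s0_0<|a s0_1<|a s0_0<|b))<|
 d (c (a 130<|a 2<|a 133<|a 87<|a 206<|a 189<|a 195<|a 3<|b) (a s0_0<|a s0_1<|a s0_0<|a s0_0<|a s0_1<|a s0_1<|a s0_0<|b))<|
 e);
 (d (c (a 95<|a 2<|a 67<|a 87<|a 195<|a 115<|a 90<|a 131<|b) (a s0_0<|a s0_0<|a s0_1<|a s0_0<|a s0_1<|a s0_0<|a s0_0<|b))<|
 d (c (a 73<|a 2<|a 8<|a 28<|a 16<|a 40<|a 206<|a 72<|b) (a s0_1<|a s0_0<|a s0_1<|a s0_0<|a s0_0<|a s0_1<|a s0_0<|b))<|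
 d (c (a 95<|a 2<|a 8<|a 67<|a 64<|a 48<|a 192<|a 80<|b) (a s0_0<|a s0_1<|a s0_1<|a s0_1<|a s0_0<|a s0_1<|a s0_1<|b))<|
 d (c (a 82<|a 2<|a 85<|a 213<|a 193<|a 225<|a 205<|a 13<|b) (a s0_0<|a s0_1<|a s0_0<|a s0_1<|a s0_1<|a s0_1<|a s0_1<|b))<|
 e));
 (d (c (a 129<|a 2<|a 6<|a 30<|a 18<|a 225<|a 192<|a 128<|b) (a s0_0<|a s0_0<|a s0_1<|a s0_0<|a s0_0<|a s0_1<|a s0_1<|b))<|
 d (c (a 208<|a 2<|a 133<|a 213<|a 205<|a 245<|a 217<|a 75<|b) (a s0_1<|a s0_1<|a s0_0<|a s0_1<|a s0_1<|a s0_1<|a s0_0<|b))<|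
 d (c (a 130<|a 2<|a 215<|a 5<|a 219<|a 40<|a 134<|a 20<|b) (a s0_0<|a s0_1<|a s0_1<|a s0_1<|a s0_1<|a s0_0<|a s0_1<|b))<|
 d (c (a 130<|a 2<|a 85<|a 135<|a 204<|a 120<|a 132<|a 148<|b) (a s0_0<|a s0_1<|a s0_0<|a s0_0<|a s0_1<|a s0_0<|a s0_1<|b))<|
 d (c (a 73<|a 2<|a 65<|a 85<|a 193<|a 117<|a 204<|a 3<|b) (a s0_1<|a s0_0<|a s0_1<|a s0_0<|a s0_1<|a s0_0<|a s0_0<|b))<|
 d (c (a 208<|a 2<|a 85<|a 5<|a 88<|a 117<|a 219<|a 153<|b) (a s0_1<|a s0_1<|a s0_0<|a s0_1<|a s0_1<|a s0_0<|a s0_1<|b))<|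
 d (c (a 82<|a 2<|a 133<|a 5<|a 134<|a 246<|a 88<|a 72<|b) (a s0_0<|a s0_1<|a s0_0<|a s0_1<|a s0_1<|a s0_0<|a s0_0<|b))<|
 e));
 (let e:=(let e:=(d (c (a 26<|a 2<|a 6<|a 159<|a 146<|a 117<|a 207<|a 20<|b) (a s0_1<|a s0_1<|a s0_1<|a s0_1<|a s0_0<|a s0_1<|a s0_0<|b))<|
 d (c (a 22<|a 2<|a 85<|a 30<|a 204<|a 45<|a 18<|a 148<|b) (a s0_0<|a s0_0<|a s0_0<|a s0_0<|a s0_0<|a s0_0<|a s0_0<|b))<|
 d (c (a 95<|a 2<|a 30<|a 85<|a 204<|a 225<|a 88<|a 222<|b) (a s0_0<|a s0_0<|a s0_0<|a s0_0<|a s0_1<|a s0_0<|a s0_0<|b))<|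
 d (c (a 26<|a 2<|a 157<|a 4<|a 144<|a 176<|a 16<|a 80<|b) (a s0_0<|a s0_1<|a s0_1<|a s0_1<|a s0_0<|a s0_0<|a s0_0<|b))<|
 e);
 (d (c (a 155<|a 2<|a 157<|a 30<|a 192<|a 237<|a 204<|a 13<|b) (a s0_1<|a s0_0<|a s0_1<|a s0_0<|a s0_0<|a s0_0<|a s0_1<|b))<|
 d (c (a 82<|a 2<|a 215<|a 87<|a 195<|a 36<|a 90<|a 24<|b) (a s0_0<|a s0_1<|a s0_1<|a s0_0<|a s0_1<|a s0_0<|a s0_0<|b))<|
 d (c (a 155<|a 2<|a 6<|a 133<|a 134<|a 245<|a 206<|a 148<|b) (a s0_1<|a s0_0<|a s0_1<|a s0_0<|a s0_1<|a s0_1<|a s0_1<|b))<|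
 d (c (a 130<|a 2<|a 87<|a 7<|a 90<|a 234<|a 132<|a 148<|b) (a s0_0<|a s0_1<|a s0_0<|a s0_1<|a s0_1<|a s0_0<|a s0_1<|b))<|
 e));
 (d (c (a 26<|a 2<|a 135<|a 30<|a 204<|a 51<|a 18<|a 72<|b) (a s0_0<|a s0_0<|a s0_0<|a s0_0<|a s0_0<|a s0_0<|a s0_1<|b))<|
 d (c (a 15<|a 2<|a 11<|a 7<|a 217<|a 51<|a 90<|a 153<|b) (a s0_0<|a s0_0<|a s0_1<|a s0_1<|a s0_1<|a s0_0<|a s0_0<|b))<|
 d (c (a 74<|a 2<|a 9<|a 215<|a 219<|a 36<|a 207<|a 75<|b) (a s0_0<|a s0_0<|a s0_1<|a s0_1<|a s0_1<|a s0_1<|a s0_1<|b))<|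
 d (c (a 208<|a 2<|a 7<|a 87<|a 90<|a 176<|a 206<|a 222<|b) (a s0_1<|a s0_1<|a s0_1<|a s0_0<|a s0_1<|a s0_1<|a s0_0<|b))<|
 d (c (a 208<|a 2<|a 215<|a 135<|a 207<|a 48<|a 204<|a 12<|b) (a s0_1<|a s0_1<|a s0_1<|a s0_0<|a s0_1<|a s0_0<|a s0_1<|b))<|
 d (c (a 22<|a 2<|a 10<|a 65<|a 66<|a 183<|a 193<|a 24<|b) (a s0_1<|a s0_1<|a s0_1<|a s0_1<|a s0_0<|a s0_1<|a s0_1<|b))<|
 d (c (a 26<|a 2<|a 28<|a 133<|a 206<|a 246<|a 205<|a 12<|b) (a s0_0<|a s0_0<|a s0_0<|a s0_0<|a s0_1<|a s0_1<|a s0_1<|b))<|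
 e)));
 (let e:=(let e:=(let e:=(d (c (a 95<|a 2<|a 87<|a 28<|a 206<|a 36<|a 194<|a 13<|b) (a s0_0<|a s0_0<|a s0_0<|a s0_0<|a s0_0<|a s0_1<|a s0_0<|b))<|
 d (c (a 82<|a 2<|a 213<|a 7<|a 217<|a 52<|a 90<|a 24<|b) (a s0_0<|a s0_1<|a s0_1<|a s0_1<|a s0_1<|a s0_0<|a s0_0<|b))<|
 d (c (a 74<|a 2<|a 11<|a 159<|a 146<|a 234<|a 207<|a 75<|b) (a s0_1<|a s0_0<|a s0_1<|a s0_1<|a s0_0<|a s0_1<|a s0_0<|b))<|
 d (c (a 22<|a 2<|a 8<|a 85<|a 88<|a 120<|a 193<|a 24<|b) (a s0_0<|a s0_0<|a s0_1<|a s0_0<|a s0_1<|a s0_1<|a s0_0<|b))<|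
 e);
 (d (c (a 15<|a 2<|a 6<|a 5<|a 134<|a 243<|a 88<|a 148<|b) (a s0_0<|a s0_0<|a s0_0<|a s0_1<|a s0_1<|a s0_0<|a s0_0<|b))<|
 d (c (a 208<|a 2<|a 5<|a 133<|a 134<|a 112<|a 206<|a 222<|b) (a s0_1<|a s0_1<|a s0_1<|a s0_0<|a s0_1<|a s0_1<|a s0_1<|b))<|
 d (c (a 155<|a 2<|a 159<|a 135<|a 207<|a 183<|a 204<|a 13<|b) (a s0_1<|a s0_0<|a s0_1<|a s0_0<|a s0_1<|a s0_0<|a s0_1<|b))<|
 d (c (a 220<|a 2<|a 67<|a 215<|a 195<|a 48<|a 219<|a 131<|b) (a s0_1<|a s0_0<|a s0_0<|a s0_1<|a s0_1<|a s0_1<|a s0_1<|b))<|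
 e));
 (d (c (a 155<|a 2<|a 4<|a 28<|a 16<|a 52<|a 206<|a 148<|b) (a s0_1<|a s0_0<|a s0_1<|a s0_0<|a s0_0<|a s0_1<|a s0_1<|b))<|
 d (c (a 130<|a 2<|a 213<|a 133<|a 205<|a 56<|a 134<|a 20<|b) (a s0_0<|a s0_1<|a s0_1<|a s0_0<|a s0_1<|a s0_0<|a s0_1<|b))<|
 d (c (a 82<|a 2<|a 7<|a 135<|a 132<|a 51<|a 207<|a 93<|b) (a s0_0<|a s0_1<|a s0_1<|a s0_0<|a s0_1<|a s0_1<|a s0_1<|b))<|
 d (c (a 129<|a 2<|a 157<|a 133<|a 205<|a 189<|a 134<|a 93<|b) (a s0_0<|a s0_0<|a s0_1<|a s0_0<|a s0_1<|a s0_0<|a s0_1<|b))<|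
 d (c (a 14<|a 2<|a 11<|a 8<|a 64<|a 120<|a 16<|a 210<|b) (a s0_0<|a s0_0<|a s0_1<|a s0_1<|a s0_0<|a s0_0<|a s0_1<|b))<|
 d (c (a 150<|a 2<|a 11<|a 213<|a 217<|a 56<|a 193<|a 153<|b) (a s0_0<|a s0_0<|a s0_1<|a s0_1<|a s0_1<|a s0_1<|a s0_0<|b))<|
 d (c (a 22<|a 2<|a 67<|a 8<|a 64<|a 112<|a 16<|a 128<|b) (a s0_0<|a s0_1<|a s0_1<|a s0_1<|a s0_0<|a s0_0<|a s0_1<|b))<|
 e));
 (let e:=(let e:=(d (c (a 73<|a 2<|a 10<|a 87<|a 90<|a 231<|a 206<|a 72<|b) (a s0_1<|a s0_0<|a s0_1<|a s0_0<|a s0_1<|a s0_1<|a s0_0<|b))<|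
 d (c (a 129<|a 2<|a 133<|a 28<|a 206<|a 56<|a 194<|a 3<|b) (a s0_0<|a s0_0<|a s0_0<|a s0_0<|a s0_0<|a s0_1<|a s0_1<|b))<|
 d (c (a 208<|a 2<|a 213<|a 85<|a 193<|a 32<|a 204<|a 12<|b) (a s0_1<|a s0_1<|a s0_1<|a s0_0<|a s0_1<|a s0_0<|a s0_0<|b))<|
 d (c (a 220<|a 2<|a 11<|a 67<|a 64<|a 115<|a 192<|a 210<|b) (a s0_0<|a s0_0<|a s0_1<|a s0_1<|a s0_0<|a s0_1<|a s0_1<|b))<|
 e);
 (d (c (a 1<|a 2<|a 9<|a 5<|a 219<|a 45<|a 134<|a 75<|b) (a s0_0<|a s0_0<|a s0_1<|a s0_1<|a s0_1<|a s0_0<|a s0_1<|b))<|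
 d (c (a 26<|a 2<|a 159<|a 28<|a 194<|a 234<|a 16<|a 80<|b) (a s0_0<|a s0_0<|a s0_1<|a s0_0<|a s0_0<|a s0_0<|a s0_1<|b))<|
 d (c (a 14<|a 2<|a 8<|a 5<|a 88<|a 112<|a 219<|a 24<|b) (a s0_1<|a s0_0<|a s0_0<|a s0_1<|a s0_1<|a s0_0<|a s0_1<|b))<|
 d (c (a 14<|a 2<|a 9<|a 4<|a 144<|a 180<|a 16<|a 210<|b) (a s0_0<|a s0_0<|a s0_1<|a s0_1<|a s0_0<|a s0_0<|a s0_0<|b))<|
 e));
 (d (c (a 220<|a 2<|a 157<|a 213<|a 205<|a 32<|a 217<|a 93<|b) (a s0_1<|a s0_0<|a s0_0<|a s0_1<|a s0_1<|a s0_1<|a s0_0<|b))<|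
 d (c (a 150<|a 2<|a 159<|a 215<|a 207<|a 40<|a 195<|a 13<|b) (a s0_0<|a s0_0<|a s0_0<|a s0_1<|a s0_1<|a s0_1<|a s0_0<|b))<|
 d (c (a 150<|a 2<|a 9<|a 65<|a 66<|a 246<|a 193<|a 153<|b) (a s0_1<|a s0_0<|a s0_1<|a s0_1<|a s0_0<|a s0_1<|a s0_1<|b))<|
 d (c (a 130<|a 2<|a 5<|a 85<|a 88<|a 45<|a 193<|a 131<|b) (a s0_0<|a s0_1<|a s0_1<|a s0_0<|a s0_1<|a s0_1<|a s0_0<|b))<|
 d (c (a 15<|a 2<|a 9<|a 10<|a 66<|a 255<|a 90<|a 153<|b) (a s0_1<|a s0_0<|a s0_1<|a s0_1<|a s0_0<|a s0_0<|a s0_1<|b))<|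
 d (c (a 130<|a 2<|a 135<|a 215<|a 207<|a 255<|a 195<|a 3<|b) (a s0_0<|a s0_1<|a s0_0<|a s0_1<|a s0_1<|a s0_1<|a s0_0<|b))<|
 d (c (a 82<|a 2<|a 87<|a 133<|a 206<|a 115<|a 205<|a 13<|b) (a s0_0<|a s0_1<|a s0_0<|a s0_0<|a s0_1<|a s0_1<|a s0_1<|b))<|
 e)))));
 (let e:=(let e:=(let e:=(let e:=(let e:=(d (c (a 14<|a 2<|a 9<|a 10<|a 66<|a 189<|a 18<|a 210<|b) (a s0_1<|a s0_1<|a s0_0<|a s0_1<|a s0_1<|a s0_1<|b))<|
 d (c (a 15<|a 2<|a 4<|a 7<|a 132<|a 52<|a 90<|a 148<|b) (a s0_0<|a s0_1<|a s0_1<|a s0_0<|a s0_1<|a s0_1<|b))<|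
 d (c (a 208<|a 2<|a 135<|a 7<|a 132<|a 183<|a 217<|a 75<|b) (a s0_1<|a s0_1<|a s0_0<|a s0_1<|a s0_1<|a s0_0<|a s0_0<|b))<|
 d (c (a 129<|a 2<|a 159<|a 6<|a 146<|a 231<|a 134<|a 93<|b) (a s0_1<|a s0_1<|a s0_1<|a s0_1<|a s0_0<|a s0_0<|a s0_0<|b))<|
 e);
 (d (c (a 74<|a 2<|a 11<|a 213<|a 217<|a 225<|a 205<|a 75<|b) (a s0_0<|a s0_1<|a s0_0<|a s0_0<|a s0_0<|a s0_0<|b))<|
 d (c (a 130<|a 2<|a 85<|a 5<|a 88<|a 45<|a 134<|a 148<|b) (a s0_0<|a s0_0<|a s0_1<|a s0_0<|a s0_1<|a s0_0<|b))<|
 d (c (a 208<|a 2<|a 135<|a 215<|a 207<|a 48<|a 219<|a 75<|b) (a s0_1<|a s0_0<|a s0_1<|a s0_0<|a s0_0<|a s0_1<|b))<|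
 d (c (a 130<|a 2<|a 133<|a 213<|a 205<|a 56<|a 193<|a 3<|b) (a s0_0<|a s0_0<|a s0_1<|a s0_0<|a s0_0<|a s0_1<|b))<|
 e));
 (d (c (a 129<|a 2<|a 6<|a 159<|a 146<|a 231<|a 194<|a 128<|b) (a s0_1<|a s0_0<|a s0_0<|a s0_1<|a s0_0<|a s0_0<|b))<|
 d (c (a 22<|a 2<|a 28<|a 65<|a 194<|a 246<|a 193<|a 12<|b) (a s0_0<|a s0_0<|a s0_1<|a s0_1<|a s0_0<|a s0_1<|b))<|
 d (c (a 82<|a 2<|a 135<|a 7<|a 132<|a 51<|a 90<|a 72<|b) (a s0_0<|a s0_0<|a s0_1<|a s0_0<|a s0_1<|a s0_1<|b))<|
 d (c (a 15<|a 2<|a 6<|a 10<|a 18<|a 245<|a 90<|a 148<|b) (a s0_0<|a s0_1<|a s0_1<|a s0_1<|a s0_1<|a s0_1<|b))<|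
 d (c (a 74<|a 2<|a 67<|a 215<|a 195<|a 243<|a 207<|a 3<|b) (a s0_0<|a s0_1<|a s0_1<|a s0_0<|a s0_0<|a s0_0<|b))<|
 d (c (a 129<|a 2<|a 30<|a 6<|a 18<|a 225<|a 134<|a 222<|b) (a s0_0<|a s0_0<|a s0_1<|a s0_1<|a s0_1<|a s0_0<|b))<|
 d (c (a 14<|a 2<|a 6<|a 5<|a 134<|a 117<|a 219<|a 20<|b) (a s0_1<|a s0_1<|a s0_1<|a s0_0<|a s0_1<|a s0_1<|b))<|
 e));
 (let e:=(let e:=(d (c (a 150<|a 2<|a 157<|a 213<|a 205<|a 237<|a 193<|a 13<|b) (a s0_0<|a s0_1<|a s0_1<|a s0_0<|a s0_0<|a s0_1<|b))<|
 d (c (a 26<|a 2<|a 28<|a 159<|a 194<|a 234<|a 207<|a 12<|b) (a s0_0<|a s0_0<|a s0_1<|a s0_1<|a s0_0<|a s0_0<|b))<|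
 d (c (a 26<|a 2<|a 159<|a 6<|a 146<|a 117<|a 18<|a 80<|b) (a s0_1<|a s0_0<|a s0_0<|a s0_1<|a s0_1<|a s0_0<|b))<|
 d (c (a 82<|a 2<|a 7<|a 213<|a 217<|a 52<|a 205<|a 93<|b) (a s0_0<|a s0_0<|a s0_0<|a s0_0<|a s0_0<|a s0_0<|b))<|
 e);
 (d (c (a 82<|a 2<|a 215<|a 5<|a 219<|a 243<|a 88<|a 24<|b) (a s0_0<|a s0_0<|a s0_0<|a s0_0<|a s0_1<|a s0_1<|b))<|
 d (c (a 220<|a 2<|a 11<|a 159<|a 146<|a 120<|a 194<|a 210<|b) (a s0_1<|a s0_1<|a s0_0<|a s0_1<|a s0_0<|a s0_0<|b))<|
 d (c (a 150<|a 2<|a 9<|a 215<|a 219<|a 255<|a 195<|a 153<|b) (a s0_0<|a s0_1<|a s0_0<|a s0_0<|a s0_0<|a s0_1<|b))<|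
 d (c (a 22<|a 2<|a 8<|a 67<|a 64<|a 112<|a 195<|a 24<|b) (a s0_0<|a s0_0<|a s0_0<|a s0_1<|a s0_0<|a s0_1<|b))<|
 e));
 (d (c (a 15<|a 2<|a 11<|a 8<|a 64<|a 56<|a 88<|a 153<|b) (a s0_0<|a s0_1<|a s0_0<|a s0_1<|a s0_1<|a s0_1<|b))<|
 d (c (a 150<|a 2<|a 11<|a 67<|a 64<|a 51<|a 195<|a 153<|b) (a s0_0<|a s0_1<|a s0_0<|a s0_1<|a s0_0<|a s0_1<|b))<|
 d (c (a 220<|a 2<|a 9<|a 65<|a 66<|a 180<|a 194<|a 210<|b) (a s0_1<|a s0_1<|a s0_0<|a s0_1<|a s0_0<|a s0_1<|b))<|
 d (c (a 130<|a 2<|a 5<|a 215<|a 219<|a 40<|a 195<|a 131<|b) (a s0_0<|a s0_0<|a s0_0<|a s0_0<|a s0_0<|a s0_1<|b))<|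
 d (c (a 14<|a 2<|a 11<|a 6<|a 146<|a 115<|a 18<|a 210<|b) (a s0_1<|a s0_1<|a s0_0<|a s0_1<|a s0_1<|a s0_0<|b))<|
 d (c (a 1<|a 2<|a 9<|a 4<|a 144<|a 36<|a 132<|a 75<|b) (a s0_0<|a s0_1<|a s0_0<|a s0_1<|a s0_1<|a s0_0<|b))<|
 d (c (a 1<|a 2<|a 10<|a 6<|a 18<|a 231<|a 134<|a 72<|b) (a s0_0<|a s0_1<|a s0_1<|a s0_1<|a s0_1<|a s0_0<|b))<|
 e)));
 (let e:=(let e:=(let e:=(d (c (a 95<|a 2<|a 67<|a 8<|a 64<|a 48<|a 88<|a 131<|b) (a s0_0<|a s0_0<|a s0_0<|a s0_1<|a s0_1<|a s0_1<|b))<|
 d (c (a 155<|a 2<|a 28<|a 4<|a 16<|a 52<|a 144<|a 210<|b) (a s0_1<|a s0_0<|a s0_1<|a s0_1<|a s0_1<|a s0_0<|b))<|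
 d (c (a 1<|a 2<|a 8<|a 5<|a 88<|a 40<|a 134<|a 72<|b) (a s0_0<|a s0_1<|a s0_1<|a s0_0<|a s0_1<|a s0_0<|b))<|
 d (c (a 208<|a 2<|a 87<|a 7<|a 90<|a 176<|a 217<|a 153<|b) (a s0_1<|a s0_0<|a s0_1<|a s0_0<|a s0_1<|a s0_0<|b))<|
 e);
 (d (c (a 73<|a 2<|a 30<|a 67<|a 192<|a 243<|a 64<|a 210<|b) (a s0_1<|a s0_0<|a s0_1<|a s0_1<|a s0_0<|a s0_1<|b))<|
 d (c (a 150<|a 2<|a 67<|a 157<|a 192<|a 112<|a 144<|a 128<|b) (a s0_1<|a s0_1<|a s0_1<|a s0_1<|a s0_0<|a s0_0<|b))<|
 d (c (a 220<|a 2<|a 159<|a 215<|a 207<|a 231<|a 219<|a 93<|b) (a s0_1<|a s0_1<|a s0_1<|a s0_0<|a s0_0<|a s0_1<|b))<|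
 d (c (a 74<|a 2<|a 157<|a 67<|a 192<|a 176<|a 64<|a 80<|b) (a s0_1<|a s0_1<|a s0_1<|a s0_1<|a s0_0<|a s0_1<|b))<|
 e));
 (d (c (a 220<|a 2<|a 65<|a 213<|a 193<|a 245<|a 217<|a 131<|b) (a s0_1<|a s0_1<|a s0_1<|a s0_0<|a s0_0<|a s0_0<|b))<|
 d (c (a 73<|a 2<|a 28<|a 8<|a 16<|a 40<|a 64<|a 210<|b) (a s0_1<|a s0_0<|a s0_1<|a s0_1<|a s0_1<|a s0_1<|b))<|
 d (c (a 155<|a 2<|a 30<|a 157<|a 192<|a 237<|a 144<|a 210<|b) (a s0_1<|a s0_0<|a s0_1<|a s0_1<|a s0_0<|a s0_0<|b))<|
 d (c (a 150<|a 2<|a 159<|a 65<|a 194<|a 183<|a 193<|a 13<|b) (a s0_0<|a s0_1<|a s0_1<|a s0_1<|a s0_0<|a s0_1<|b))<|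
 d (c (a 1<|a 2<|a 11<|a 7<|a 217<|a 234<|a 132<|a 75<|b) (a s0_0<|a s0_1<|a s0_0<|a s0_0<|a s0_1<|a s0_0<|b))<|
 d (c (a 129<|a 2<|a 157<|a 4<|a 144<|a 32<|a 132<|a 93<|b) (a s0_0<|a s0_0<|a s0_0<|a s0_1<|a s0_1<|a s0_0<|b))<|
 d (c (a 95<|a 2<|a 30<|a 10<|a 18<|a 255<|a 90<|a 222<|b) (a s0_0<|a s0_0<|a s0_1<|a s0_1<|a s0_1<|a s0_1<|b))<|
 e));
 (let e:=(let e:=(d (c (a 74<|a 2<|a 65<|a 159<|a 194<|a 117<|a 207<|a 3<|b) (a s0_0<|a s0_1<|a s0_1<|a s0_1<|a s0_0<|a s0_0<|b))<|
 d (c (a 74<|a 2<|a 9<|a 157<|a 144<|a 45<|a 205<|a 75<|b) (a s0_0<|a s0_1<|a s0_0<|a s0_1<|a s0_0<|a s0_0<|b))<|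
 d (c (a 208<|a 2<|a 85<|a 213<|a 193<|a 32<|a 217<|a 153<|b) (a s0_1<|a s0_0<|a s0_1<|a s0_0<|a s0_0<|a s0_0<|b))<|
 d (c (a 14<|a 2<|a 10<|a 7<|a 90<|a 183<|a 217<|a 24<|b) (a s0_1<|a s0_1<|a s0_1<|a s0_0<|a s0_1<|a s0_0<|b))<|
 e);
 (d (c (a 208<|a 2<|a 133<|a 5<|a 134<|a 112<|a 219<|a 75<|b) (a s0_1<|a s0_0<|a s0_1<|a s0_0<|a s0_1<|a s0_1<|b))<|
 d (c (a 15<|a 2<|a 8<|a 4<|a 16<|a 48<|a 144<|a 80<|b) (a s0_1<|a s0_1<|a s0_1<|a s0_1<|a s0_1<|a s0_0<|b))<|
 d (c (a 95<|a 2<|a 10<|a 65<|a 66<|a 245<|a 194<|a 80<|b) (a s0_1<|a s0_0<|a s0_0<|a s0_1<|a s0_0<|a s0_1<|b))<|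
 d (c (a 130<|a 2<|a 213<|a 7<|a 217<|a 237<|a 132<|a 20<|b) (a s0_0<|a s0_0<|a s0_0<|a s0_0<|a s0_1<|a s0_0<|b))<|
 e));
 (d (c (a 150<|a 2<|a 65<|a 159<|a 194<|a 183<|a 146<|a 128<|b) (a s0_0<|a s0_0<|a s0_0<|a s0_1<|a s0_1<|b))<|
 d (c (a 220<|a 2<|a 215<|a 159<|a 207<|a 231<|a 194<|a 12<|b) (a s0_1<|a s0_0<|a s0_1<|a s0_1<|a s0_1<|b))<|
 d (c (a 150<|a 2<|a 157<|a 67<|a 192<|a 112<|a 195<|a 13<|b) (a s0_1<|a s0_0<|a s0_0<|a s0_1<|a s0_0<|b))<|
 d (c (a 26<|a 2<|a 4<|a 157<|a 144<|a 176<|a 205<|a 20<|b) (a s0_0<|a s0_0<|a s0_0<|a s0_1<|a s0_0<|a s0_0<|b))<|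
 d (c (a 15<|a 2<|a 9<|a 5<|a 219<|a 246<|a 88<|a 153<|b) (a s0_0<|a s0_1<|a s0_0<|a s0_0<|a s0_1<|a s0_1<|b))<|
 d (c (a 82<|a 2<|a 87<|a 215<|a 195<|a 36<|a 207<|a 13<|b) (a s0_0<|a s0_0<|a s0_1<|a s0_0<|a s0_0<|a s0_0<|b))<|
 d (c (a 22<|a 2<|a 65<|a 10<|a 66<|a 183<|a 18<|a 128<|b) (a s0_1<|a s0_0<|a s0_0<|a s0_1<|a s0_1<|a s0_1<|b))<|
 e))));
 (let e:=(let e:=(let e:=(let e:=(d (c (a 129<|a 2<|a 135<|a 159<|a 207<|a 120<|a 194<|a 3<|b) (a s0_1<|a s0_1<|a s0_1<|a s0_1<|a s0_1<|b))<|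
 d (c (a 22<|a 2<|a 87<|a 10<|a 90<|a 189<|a 18<|a 148<|b) (a s0_1<|a s0_1<|a s0_1<|a s0_0<|a s0_0<|b))<|
 d (c (a 73<|a 2<|a 87<|a 67<|a 195<|a 176<|a 64<|a 153<|b) (a s0_0<|a s0_1<|a s0_1<|a s0_1<|a s0_0<|b))<|
 d (c (a 14<|a 2<|a 5<|a 6<|a 134<|a 117<|a 18<|a 222<|b) (a s0_1<|a s0_0<|a s0_1<|a s0_0<|a s0_1<|b))<|
 e);
 (d (c (a 15<|a 2<|a 4<|a 8<|a 16<|a 48<|a 88<|a 148<|b) (a s0_1<|a s0_0<|a s0_0<|a s0_0<|a s0_0<|b))<|
 d (c (a 1<|a 2<|a 6<|a 10<|a 18<|a 231<|a 66<|a 128<|b) (a s0_0<|a s0_0<|a s0_0<|a s0_0<|a s0_0<|b))<|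
 d (c (a 26<|a 2<|a 30<|a 157<|a 192<|a 45<|a 205<|a 12<|b) (a s0_1<|a s0_1<|a s0_0<|a s0_1<|a s0_1<|b))<|
 d (c (a 95<|a 2<|a 85<|a 65<|a 193<|a 180<|a 194<|a 13<|b) (a s0_1<|a s0_1<|a s0_1<|a s0_1<|a s0_0<|b))<|
 e));
 (d (c (a 220<|a 2<|a 213<|a 65<|a 193<|a 245<|a 194<|a 12<|b) (a s0_1<|a s0_0<|a s0_1<|a s0_1<|a s0_0<|b))<|
 d (c (a 26<|a 2<|a 133<|a 6<|a 134<|a 115<|a 18<|a 72<|b) (a s0_1<|a s0_1<|a s0_1<|a s0_0<|a s0_1<|b))<|
 d (c (a 74<|a 2<|a 215<|a 67<|a 195<|a 243<|a 64<|a 24<|b) (a s0_0<|a s0_0<|a s0_1<|a s0_1<|a s0_0<|b))<|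
 d (c (a 1<|a 2<|a 5<|a 8<|a 88<|a 40<|a 64<|a 131<|b) (a s0_0<|a s0_0<|a s0_1<|a s0_0<|a s0_0<|b))<|
 d (c (a 15<|a 2<|a 7<|a 4<|a 132<|a 52<|a 144<|a 93<|b) (a s0_0<|a s0_0<|a s0_1<|a s0_0<|a s0_1<|b))<|
 d (c (a 14<|a 2<|a 7<|a 10<|a 90<|a 183<|a 18<|a 222<|b) (a s0_1<|a s0_0<|a s0_1<|a s0_0<|a s0_0<|b))<|
 d (c (a 1<|a 2<|a 8<|a 4<|a 16<|a 32<|a 132<|a 72<|b) (a s0_1<|a s0_0<|a s0_0<|a s0_0<|a s0_1<|b))<|
 e));
 (let e:=(let e:=(d (c (a 155<|a 2<|a 133<|a 157<|a 205<|a 112<|a 144<|a 75<|b) (a s0_0<|a s0_1<|a s0_1<|a s0_1<|a s0_1<|b))<|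
 d (c (a 150<|a 2<|a 213<|a 157<|a 205<|a 237<|a 144<|a 20<|b) (a s0_0<|a s0_0<|a s0_1<|a s0_1<|a s0_1<|b))<|
 d (c (a 73<|a 2<|a 28<|a 65<|a 194<|a 52<|a 66<|a 210<|b) (a s0_0<|a s0_1<|a s0_0<|a s0_1<|a s0_0<|b))<|
 d (c (a 74<|a 2<|a 67<|a 157<|a 192<|a 176<|a 205<|a 3<|b) (a s0_1<|a s0_0<|a s0_0<|a s0_1<|a s0_1<|b))<|
 e);
 (d (c (a 73<|a 2<|a 30<|a 10<|a 18<|a 237<|a 66<|a 210<|b) (a s0_0<|a s0_1<|a s0_0<|a s0_0<|a s0_0<|b))<|
 d (c (a 15<|a 2<|a 10<|a 6<|a 18<|a 245<|a 146<|a 80<|b) (a s0_0<|a s0_0<|a s0_0<|a s0_0<|a s0_1<|b))<|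
 d (c (a 73<|a 2<|a 85<|a 8<|a 88<|a 32<|a 64<|a 153<|b) (a s0_0<|a s0_1<|a s0_1<|a s0_0<|a s0_0<|b))<|
 d (c (a 95<|a 2<|a 28<|a 8<|a 16<|a 56<|a 88<|a 222<|b) (a s0_1<|a s0_1<|a s0_0<|a s0_0<|a s0_0<|b))<|
 e));
 (d (c (a 73<|a 2<|a 8<|a 85<|a 88<|a 32<|a 204<|a 72<|b) (a s0_0<|a s0_0<|a s0_1<|a s0_1<|b))<|
 d (c (a 74<|a 2<|a 159<|a 65<|a 194<|a 117<|a 66<|a 80<|b) (a s0_0<|a s0_0<|a s0_0<|a s0_1<|a s0_0<|b))<|
 d (c (a 155<|a 2<|a 135<|a 4<|a 132<|a 48<|a 144<|a 75<|b) (a s0_0<|a s0_1<|a s0_1<|a s0_0<|a s0_1<|b))<|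
 d (c (a 155<|a 2<|a 30<|a 6<|a 18<|a 243<|a 146<|a 210<|b) (a s0_0<|a s0_1<|a s0_0<|a s0_0<|a s0_1<|b))<|
 d (c (a 22<|a 2<|a 30<|a 67<|a 192<|a 51<|a 195<|a 12<|b) (a s0_1<|a s0_1<|a s0_0<|a s0_1<|a s0_0<|b))<|
 d (c (a 155<|a 2<|a 28<|a 159<|a 194<|a 40<|a 146<|a 210<|b) (a s0_0<|a s0_1<|a s0_0<|a s0_1<|a s0_1<|b))<|
 d (c (a 129<|a 2<|a 28<|a 4<|a 16<|a 36<|a 132<|a 222<|b) (a s0_1<|a s0_1<|a s0_0<|a s0_0<|a s0_1<|b))<|
 e)));
 (let e:=(let e:=(let e:=(d (c (a 82<|a 2<|a 5<|a 133<|a 134<|a 246<|a 205<|a 93<|b) (a s0_1<|a s0_1<|a s0_1<|a s0_0<|b))<|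
 d (c (a 95<|a 2<|a 65<|a 85<|a 193<|a 180<|a 88<|a 131<|b) (a s0_1<|a s0_0<|a s0_0<|a s0_1<|b))<|
 d (c (a 26<|a 2<|a 6<|a 133<|a 134<|a 115<|a 205<|a 20<|b) (a s0_1<|a s0_0<|a s0_1<|a s0_0<|b))<|
 d (c (a 208<|a 2<|a 5<|a 85<|a 88<|a 117<|a 204<|a 222<|b) (a s0_0<|a s0_1<|a s0_1<|a s0_1<|b))<|
 e);
 (d (c (a 155<|a 2<|a 4<|a 135<|a 132<|a 48<|a 204<|a 148<|b) (a s0_0<|a s0_0<|a s0_1<|a s0_0<|b))<|
 d (c (a 82<|a 2<|a 213<|a 85<|a 193<|a 225<|a 88<|a 24<|b) (a s0_1<|a s0_1<|a s0_0<|a s0_1<|b))<|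
 d (c (a 73<|a 2<|a 67<|a 87<|a 195<|a 176<|a 206<|a 3<|b) (a s0_0<|a s0_0<|a s0_0<|a s0_1<|b))<|
 d (c (a 208<|a 2<|a 213<|a 133<|a 205<|a 245<|a 206<|a 12<|b) (a s0_0<|a s0_1<|a s0_0<|a s0_0<|b))<|
 e));
 (d (c (a 130<|a 2<|a 7<|a 87<|a 90<|a 234<|a 195<|a 131<|b) (a s0_1<|a s0_1<|a s0_1<|a s0_1<|b))<|
 d (c (a 129<|a 2<|a 159<|a 135<|a 207<|a 120<|a 132<|a 93<|b) (a s0_1<|a s0_0<|a s0_0<|a s0_0<|b))<|
 d (c (a 155<|a 2<|a 157<|a 133<|a 205<|a 112<|a 206<|a 13<|b) (a s0_0<|a s0_0<|a s0_0<|a s0_0<|b))<|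
 d (c (a 22<|a 2<|a 10<|a 87<|a 90<|a 189<|a 195<|a 24<|b) (a s0_1<|a s0_0<|a s0_1<|a s0_1<|b))<|
 d (c (a 208<|a 2<|a 215<|a 87<|a 195<|a 231<|a 206<|a 12<|b) (a s0_0<|a s0_1<|a s0_0<|a s0_1<|b))<|
 d (c (a 208<|a 2<|a 7<|a 135<|a 132<|a 183<|a 204<|a 222<|b) (a s0_0<|a s0_1<|a s0_1<|a s0_0<|b))<|
 d (c (a 130<|a 2<|a 215<|a 135<|a 207<|a 255<|a 132<|a 20<|b) (a s0_1<|a s0_1<|a s0_0<|a s0_0<|b))<|
 e));
 (let e:=(let e:=(d (c (a 14<|a 2<|a 10<|a 9<|a 66<|a 189<|a 219<|a 24<|b) (a s0_0<|a s0_1<|a s0_0<|b))<|d (c (a 150<|a 2<|a 67<|a 11<|a 64<|a 51<|a 146<|a 128<|b) (a s0_1<|a s0_0<|a s0_0<|b))<|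
 d (c (a 220<|a 2<|a 159<|a 11<|a 146<|a 120<|a 217<|a 93<|b) (a s0_0<|a s0_0<|a s0_1<|b))<|d (c (a 15<|a 2<|a 8<|a 11<|a 64<|a 56<|a 146<|a 80<|b) (a s0_1<|a s0_1<|a s0_0<|b))<|
 e);
 (d (c (a 74<|a 2<|a 157<|a 9<|a 144<|a 45<|a 66<|a 80<|b) (a s0_1<|a s0_0<|a s0_1<|b))<|d (c (a 1<|a 2<|a 4<|a 9<|a 144<|a 36<|a 66<|a 128<|b) (a s0_1<|a s0_1<|a s0_1<|b))<|
 d (c (a 220<|a 2<|a 65<|a 9<|a 66<|a 180<|a 219<|a 131<|b) (a s0_0<|a s0_0<|a s0_0<|b))<|d (c (a 14<|a 2<|a 6<|a 11<|a 146<|a 115<|a 217<|a 20<|b) (a s0_0<|a s0_1<|a s0_1<|b))<|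
 e));
 (a (c i b)<|a (c (a 130<|a 2<|a 7<|a 213<|a 217<|a 237<|a 193<|a 131<|b) (a s0_1<|b))<|a (c (a 82<|a 2<|a 5<|a 215<|a 219<|a 243<|a 207<|a 93<|b) (a s0_0<|b))<|
 a (c (a 129<|a 2<|a 135<|a 30<|a 204<|a 255<|a 192<|a 3<|b) (a s0_1<|a s0_1<|b))<|a (c (a 26<|a 2<|a 133<|a 28<|a 206<|a 246<|a 16<|a 72<|b) (a s0_0<|a s0_1<|b))<|
 a (c (a 22<|a 2<|a 87<|a 28<|a 206<|a 234<|a 16<|a 148<|b) (a s0_0<|a s0_0<|b))<|a (c (a 95<|a 2<|a 85<|a 30<|a 204<|a 225<|a 192<|a 13<|b) (a s0_1<|a s0_0<|b))<|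
 e)))))))

def W0 : List (ℕ × List (List ℕ)) := (beta% delta% lq269cae4312 fun a b c _ _ _ h _ =>
 (let e:=(let e:=(let e:=(let e:=(h (c 36 (a g3<|a g5<|a g2<|a g4<|a g1<|b))<|h (c 52 (a g2<|a g3<|a g1<|a g2<|a g5<|a g0<|b))<|h (c 32 (a g2<|a g3<|a g4<|a g0<|a g2<|a g4<|b))<|
 h (c 56 (a g2<|a g4<|a g5<|a g2<|a g4<|a g1<|b))<|b);
 (h (c 120 (a g2<|a g4<|a g5<|a g2<|a g4<|b))<|h (c 189 (a g2<|a g5<|a g2<|a g3<|a g1<|b))<|h (c 20 (a g2<|a g5<|a g2<|a g4<|a g1<|b))<|
 h (c 40 (a g3<|a g5<|a g2<|a g4<|a g0<|b))<|e));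
 (h (c 24 (a g2<|a g3<|a g2<|a g4<|a g0<|b))<|h (c 210 (a g2<|a g3<|a g2<|a g4<|a g1<|b))<|
 h (c 117 (a g2<|a g3<|a g2<|a g5<|a g0<|b))<|h (c 48 (a g2<|a g3<|a g4<|a g0<|a g2<|b))<|h (c 246 (a g2<|a g3<|a g4<|a g1<|a g2<|b))<|h (c 222 (a g2<|a g3<|a g5<|a g2<|a g3<|b))<|
 h (c 80 (a g2<|a g4<|a g5<|a g2<|a g3<|b))<|e));
 (let e:=(let e:=(h (c 45 (a g3<|a g5<|a g2<|a g4<|b))<|h (c 4 (a g5<|a g0<|a g4<|a g1<|b))<|
 h (c 148 (a g2<|a g3<|a g1<|a g2<|a g4<|b))<|h (c 176 (a g2<|a g3<|a g1<|a g2<|a g5<|b))<|e);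
 (h (c 8 (a g3<|a g1<|a g4<|a g0<|b))<|h (c 213 (a g3<|a g1<|a g5<|a g0<|b))<|
 h (c 115 (a g3<|a g1<|a g5<|a g2<|b))<|h (c 183 (a g3<|a g5<|a g0<|a g2<|b))<|e));
 (h (c 245 (a g2<|a g3<|a g4<|a g5<|b))<|
 h (c 225 (a g2<|a g3<|a g5<|a g0<|b))<|h (c 234 (a g2<|a g3<|a g5<|a g2<|b))<|h (c 112 (a g2<|a g4<|a g5<|a g2<|b))<|h (c 72 (a g2<|a g5<|a g0<|a g2<|b))<|
 h (c 255 (a g2<|a g5<|a g2<|a g3<|b))<|h (c 93 (a g2<|a g5<|a g2<|a g4<|b))<|e)));
 (let e:=(let e:=(let e:=(h (c 243 (a g2<|a g3<|a g2<|a g5<|b))<|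
 h (c 28 (a g2<|a g3<|a g4<|a g0<|b))<|h (c 215 (a g2<|a g3<|a g4<|a g1<|b))<|h (c 180 (a g2<|a g3<|a g4<|a g2<|b))<|e);
 (h (c 5 (a g5<|a g0<|a g4<|b))<|
 h (c 128 (a g2<|a g3<|a g1<|a g2<|b))<|h (c 237 (a g2<|a g3<|a g1<|a g5<|b))<|h (c 153 (a g2<|a g3<|a g2<|a g4<|b))<|e));
 (h (c 85 (a g2<|a g4<|a g5<|b))<|h (c 65 (a g2<|a g5<|a g0<|b))<|h (c 75 (a g2<|a g5<|a g2<|b))<|
 h (c 9 (a g3<|a g1<|a g4<|b))<|h (c 87 (a g3<|a g1<|a g5<|b))<|h (c 159 (a g3<|a g5<|a g0<|b))<|h (c 51 (a g3<|a g5<|a g2<|b))<|e));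
 (let e:=(let e:=(h (c 131 (a g2<|a g3<|a g2<|b))<|h (c 157 (a g2<|a g3<|a g4<|b))<|
 h (c 231 (a g2<|a g3<|a g5<|b))<|h (c 12 (a g2<|a g4<|a g0<|b))<|e);
 (h (c 7 (a g3<|a g1<|b))<|
 h (c 30 (a g3<|a g5<|b))<|h (c 11 (a g5<|a g0<|b))<|h (c 133 (a g2<|a g3<|a g1<|b))<|e));
 (a (c 2 b)<|a (c 3 (a g2<|b))<|a (c 6 (a g3<|b))<|a (c 10 (a g5<|b))<|a (c 135 (a g2<|a g3<|b))<|a (c 13 (a g2<|a g4<|b))<|a (c 67 (a g2<|a g5<|b))<|e)))))

def t0 : PtData where
  r := 2
  T := T0
  S := [s0_0, s0_1]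
  L := L0
  W := W0
  C := (beta% delta% lq269cae4312 fun a b c _ _ _ _ _ =>
 (a (c (a g0<|a g1<|a g4<|b) (a g4<|a g0<|a g1<|b))<|a (c (a g0<|b) (a g0<|b))<|b))

private noncomputable def apF (L : List ℕ) (n : ℕ) : ℕ := @Nat.rec (fun _ => ℕ) 0 (fun m _ =>
  (Nat.xor (Nat.xor (Nat.xor (Nat.xor (Nat.xor (Nat.xor (Nat.xor (Nat.mul (Nat.mod (Nat.shiftRight m 0) 2) (Cfsg.Agent.LsF.getD L 0 0))
    (Nat.mul (Nat.mod (Nat.shiftRight m 1) 2) (Cfsg.Agent.LsF.getD L 1 0)))
    (Nat.mul (Nat.mod (Nat.shiftRight m 2) 2) (Cfsg.Agent.LsF.getD L 2 0)))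
    (Nat.mul (Nat.mod (Nat.shiftRight m 3) 2) (Cfsg.Agent.LsF.getD L 3 0)))
    (Nat.mul (Nat.mod (Nat.shiftRight m 4) 2) (Cfsg.Agent.LsF.getD L 4 0)))
    (Nat.mul (Nat.mod (Nat.shiftRight m 5) 2) (Cfsg.Agent.LsF.getD L 5 0)))
    (Nat.mul (Nat.mod (Nat.shiftRight m 6) 2) (Cfsg.Agent.LsF.getD L 6 0)))
    (Nat.mul (Nat.mod (Nat.shiftRight m 7) 2) (Cfsg.Agent.LsF.getD L 7 0)))) (Nat.succ n)
private theorem apF_eq : @Cfsg.Agent.LargeExtra.KillNine.Codes.ap = apF := by
  funext L n
  have h : ∀ k x : ℕ, (if n.testBit k then x else 0) = Nat.mul (Nat.mod (Nat.shiftRight n k) 2) x := fun k x => by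
    show _ = n >>> k % 2 * x
    rw [Nat.testBit_eq_decide_div_mod_eq, Nat.shiftRight_eq_div_pow]
    rcases Nat.mod_two_eq_zero_or_one (n / 2 ^ k) with h | h <;> rw [h]
    · exact (Nat.zero_mul x).symm
    · exact (Nat.one_mul x).symm
  delta Cfsg.Agent.LargeExtra.KillNine.Codes.ap
  rewrite [h, h, h, h, h, h, h, h, Cfsg.Agent.LsF.getD_eq]
  exact rfl
private noncomputable def _root_.Cfsg.Agent.LsF.fec4169_0 : {f // @Cfsg.Agent.LargeExtra.KillNine.Codes.ap = f} := ⟨apF, apF_eq⟩
private noncomputable def _root_.Cfsg.Agent.LsF.fec4169_1 : {f // @Cfsg.Agent.LargeExtra.KillNine.Codes.mulL = f} := ⟨_, by first | (delta Cfsg.Agent.LargeExtra.KillNine.Codes.mulL; rewrite [Cfsg.Agent.LsF.fec4169_0.2, Cfsg.Agent.LsF.map_eq]; exact rfl) | exact rfl⟩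
private noncomputable def _root_.Cfsg.Agent.LsF.fec4169_2 : {f // @Cfsg.Agent.LargeExtra.KillNine.Codes.prodL = f} := ⟨_, by first | (delta Cfsg.Agent.LargeExtra.KillNine.Codes.prodL; rewrite [Cfsg.Agent.LsF.fec4169_1.2, Cfsg.Agent.LsF.foldl_eq]; exact rfl) | exact rfl⟩
private noncomputable def _root_.Cfsg.Agent.LsF.fec4169_3 : {f // @Cfsg.Agent.LargeExtra.KillNine.Pts.cond1 = f} := ⟨_, by first | (delta Cfsg.Agent.LargeExtra.KillNine.Pts.cond1; rewrite [Cfsg.Agent.LsF.fec4169_1.2, Cfsg.Agent.LsF.fec4169_2.2, Cfsg.Agent.LsF.and_eq, Cfsg.Agent.LsF.instDecEq_eq, Cfsg.Agent.LsF.all_eq, Cfsg.Agent.LsF.dNot_eq, Cfsg.Agent.LsF.dListEq_eq, Cfsg.Agent.LsF.decide_eq]; exact rfl) | exact rfl⟩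
private noncomputable def _root_.Cfsg.Agent.LsF.fec4169_4 : {f // @Cfsg.Agent.LargeExtra.KillNine.Pts.cond2 = f} := ⟨_, by first | (delta Cfsg.Agent.LargeExtra.KillNine.Pts.cond2; rewrite [Cfsg.Agent.LsF.fec4169_3.2, Cfsg.Agent.LsF.fec4169_0.2, Cfsg.Agent.LsF.nxor_pat, Cfsg.Agent.LsF.and_eq, Cfsg.Agent.LsF.instDecEq_eq, Cfsg.Agent.LsF.any_eq, Cfsg.Agent.LsF.range_eq, Cfsg.Agent.LsF.decide_eq]; exact rfl) | exact rfl⟩
private noncomputable def li (l : List ℕ) : ℕ := Nat.mod (Nat.shiftRight 0x38000000000000009ae90000000000000000000a00000000000000000000000000000000000000000000bf000000000000000000000000000000000000049500000000000000000000000000000000000000000000000000000053000000000000000000000000000000000000000000000000004d00008fbe00000000000000000000d30000000000000000000000000000000000000000000000000000000000000000740000000000000000000000000000900000000000000000003c00000000000000d100000000000000000000000000000000000000ea00000000000000000000000000004c000000000000000000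00000000000000000000000000000000000000000000000000000000000000000000000049000000000000000000009300000000000000000000000000005b000000000000000000000000000000000000000000000000000000000000000000a000000000000000000000b100000000000000000000000000000000000000000000000000000000000000000000000000009c00000000000000000000000000000000000058000000000000000000007e5600000000eb0000000000000000000000000000000000000000000000001b0000bc0000000000000000000000000000110000000000000000000098007f0000000000009f000000000000008a0000000000000000000000001600000000006c0000000000003f00000000000000000000000000009e00000000000000000000c04000000000000000000000000000000000000000000000000000000000c700000000000000000000000000007500003600000000000000000000000000000000000000000000000000000000aa000000000000000000000000000000000000000000000000000000000000000000000000000000000000000000a3000000000000000000000000000000000000000000000000000000000000000000000000000000000000000000000000000000000000000000d70000000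00000000000ef00000000000000000000003a000000000000007d000000000000003e000000000000000000000000000000000000b900000000790000000000000000000000ee000000000000000000000000000000000000000000ca00000000000000000000000000000000000000000000000000000000000000000000000000000000000000000000000000ab000000000000000000000000000000000000000000000000b00000e8000000000000001e0000000000000000000000000000000000000000000000000000000000000000000000b500000000000000000000000000000000008200000000000000000010a5000000000000000000000000000000000000000000000000000000000000000000000000430000000000000000000000000000000000008c0000000000000000000000000000000000000000000000000000000000000000000000610000002500000000000000000000000000000000000000000000007b00000000000000000000000000000000000000b40000000000000000720000000000000000000000000000008500000000000000000000008b00000000000000180000000000000000000000000000004600000000000000b80000000000000000000000000000001408000000000000000000000000000000000000000000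000000000000000000ba0000000000000000d20000000000001d0000000000000000000000000000000000000000000000000000000000000000001900000000000000000000000000002c0000000000000000000000000000000000000000000000000000000000000000000000000000000000000000000000000000000000000000000000000000000000000000350000008e0000000000000000000000000048000000000000000000000000000000009b00000000000000540000000000000000000000000000000000000000000000000000000000000000a800005100000000000000000000000000000000000000000000005700000000000000000000000000000000000000000000000000000000009100000000000000000000000000000000000000000000170000000000003b0000006600000000700000000000000000000000000000000000000000000000000000000000000000000000004a00000000000000000000000000000000000000000000000000000065000000000000000000000000000000000000050000000000000000000000da00000000000000000000000000000000003700000000006700000000cd000000000000000000000000000000000000000000000000000000000000000000000000000000009600000000000000000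00000000000000000000000000000000000000000000000000000000000000000000000000000c4000000000000008d0000000000ec27002f00000000000000000000000000000000000000000000000000000000000000000000000000000000008600000000000000000000000000000000000000000000001c0060000000000000000000000000000000000000000000420000008100000000240000000000445a0000000000000000000000d550000000006f000000000000000000000000000000000000000000e700000000000000000000000000ed00a20000000000a6000000000000000000000000000000000000000000000000000000000000000000000000000000000000000000000000000000000000000000000000000000000000000000000000000000000052000000000000000031000000000000db0000000000000000000000000088000000000000ad0000000000006a00000000000000000000000000000000cc000000000000000000000000000000007600c600000000000000000000000f00000000000000000000000000003000000000000000000000000000000000000000000000000000000000000000000000d800000000000000000000000000000000000000000000000000000000000000000c97000000000000000000000000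b70000000000000000000000000000000000000000006800000000000000d60000000000000000000000000000000000000000000000000000000000000000000000000000000000000000000000000000000000000000b20000000000000000000000000000000000005c004b000000bb00000000000000000000000000000000000000000000000000000000000000000000000000030000000000000000000000000000000000000000a10000000000e50000000000000000000000000000940000004f000000005500000b000000000000000000001a00000000000000000000d000000000000000000000000000000000000000000000000000000000000000000000c10000000000000000000000000000000000000000000000000000000000000000000000000000000000000000000000000000006b000000000000000000000000000000000000000000000000000000000000006400000000000000000000000000000000000000000092000000000000000000000000000000000000000000000000000000000000000000000000000000000000000000000000000000000000000000000000000000000d0000000000000000000000000000000000000000000000000000000000000000000000000000000000000000000000000000000000000000000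00000000000000000000000bd0000000000002600000000000000000000000000002a00000000000000000000000000000000000000000000000000000000000000000000000000000000000000000000000000000000000000000000000000000000000000000000000000cb00000000000000000000000000000000000000000000000000000000000e00000083000000000041000000000000000000000000005900000000000000000000000000000000000000000000006e00006300000000000000000000000000000000000000000000000000000000000000000000000000000000000000000000000000000000002d0000000000000000000000000000000000000000000000e00000000000000000000000000000000000000000000000000000a90000000000000000000000000000000000000000000000000000000000000000000000000000000000000000000000000000e300000000006d00000000000000000000000000000000290000001300000000000000000000470000000000000000000000000000000000000000000000000000000000000000000000000000000000000000000000000000000000000000000000000000000000000000dd00000000000000000000000000000000000000000000000000b60000000000000000007a0000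000000000000000000000000005d000000000000000000000007000000000000000000000000000000000000000000000000e60000000000000000000000000000000000000000622e0000000000000000000000000000000000000000000000000000000000000000000000000000000000000000000000000000000000000000000000000000000000000000000000000000000000000000000000000000000000000000000000730000000000000000000000000000000000000000000000000000000000000000000000000000000000000000001f00000000000000000000000000000000000000000000000000000000000000000000000000cf0000000000000000000000000000d4000000000000000000000000000000000000000000000000000000000000000000000000000000000000000000000000000000000000000000150000000000000000000000000000000000002b000000000000000000000000000000000000000000000000000000000000000000ac0000000021000000000000000000000000c20000000000008000000000000000000000000000000000000000000000000000000000000000e20000000032000000000000000000000000000000000000000000000000000000000000000000000000000000000000001200000000000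00000000000000000000000000000000000c80000000000000000220000000000000000000000000000000000000000000000007c000000000000000000000000000000000000000000002300000000000000000000df000000000000000000000000000000000000000000000087000000000000000000000000000000000000000000000000000000007700000000000000000000000000af00000000000000000000000000000000000000000000000000000000005f0000000000000000000000000000000000000000000000000000000000000000000000000000ce00000000000000000000000000000000000000000000000000000000000000000000000000000000000000990000000000000000000000000000000000000000000000000000000000000000000000000000000000000000000000000000000000000000000000003d007800000000000000000000000000000000000000a7000000000000000000000000000000288400000000000000d9000000000000000000000000890000000000000000000000000000005e00000000000001000000000000000000000000000000000000000000000000000000000000000000090000000000000000000000c90000000000009d4e0000000000000000000000000000000000000000000000000000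00000000000000000000000000000000c5003900000000e40000000000003400000000000000000000000000000000000000006900000000000000000000000000000000000000000000000000000000000000000002000000000000000000000000000000000000de00c30000000000000000000000000000000000000000000000000000000000000000dc00007100000000000000000000000000000000a400000000000000000000000000000000000000000000000000000000000000b30000000000000000000000000000000000000000000000000000000000000000000000000000000000000000000000000000000000000000000000060000000045000000000000000000330000000000000000e100ae00000000000000000000000000000000000000000000000000000000000000000000000000000000200000000000000000000000000000000000000000000000000000000000000000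
  (Nat.mul 8 (Nat.mod (List.rec 0 (fun a _ x => Nat.add (Nat.mul x 256) a) l) 4521))) 256

private noncomputable def ti (n : ℕ) : ℕ := Nat.mod (Nat.shiftRight 0x200000000000000000321f001a00000000000e00002100000d00000000001b0000340000000000001d002600002e00000000000000000000000000000000000000003300000000002700001e0000002c0000000000000000000000000000000014000c00000019000000002b00000000000000000000000004000a000b000018000000000000003500002f0029000024000000000000000000000000000000000000220000000000160010000000003600000000130000250000000006001200000000000000003b000000391700003000002a0000000037000000380000003a0009001c0000002d00000031000000000000050f070315280802112301000000 (Nat.mul 8 n)) 256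

private theorem gd_mem {α : Type} {l : List α} {d : α} (h : d ∈ l) (i : ℕ) : l.getD i d ∈ l := by
  rcases Nat.lt_or_ge i l.length with h1 | h1
  · rw [List.getD_eq_getElem _ _ h1]
    exact List.getElem_mem h1
  · rwa [List.getD_eq_default _ _ h1]

private theorem lid0 : idL ∈ t0.L.map (fun l => l.1) := by decide +kernel

private theorem tst0 : ∀ s ∈ t0.T, ∀ g ∈ (confHN.X ++ confHN.N ++ confHN.M), ∃ s' ∈ t0.T, ap g s.1 = s'.1 ∧
    mulL (mulL s.2.1 g) s'.2.2 ∈ t0.L.map (fun l => l.1) := by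
  have h : ∀ s ∈ t0.T, ∀ g ∈ (confHN.X ++ confHN.N ++ confHN.M), ap g s.1 = (t0.T.getD (ti (ap g s.1)) s).1 ∧
      (t0.L.map fun l => l.1).getD (li (mulL (mulL s.2.1 g) (t0.T.getD (ti (ap g s.1)) s).2.2)) idL =
        mulL (mulL s.2.1 g) (t0.T.getD (ti (ap g s.1)) s).2.2 := by
    refine of_decide_eq_true ?_
    rewrite [Cfsg.Agent.LsF.fec4169_0.2, Cfsg.Agent.LsF.dAnd_eq, Cfsg.Agent.LsF.lappend_pat]
    rewrite [Cfsg.Agent.LsF.fec4169_1.2, Cfsg.Agent.LsF.getD_eq, Cfsg.Agent.LsF.map_eq, Cfsg.Agent.LsF.instDecEq_eq, Cfsg.Agent.LsF.dBAll_eq, Cfsg.Agent.LsF.dListEq_eq, Cfsg.Agent.LsF.decide_eq]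
    decide +kernel
  exact fun s hs g hg => ⟨_, gd_mem hs _, (h s hs g hg).1, (h s hs g hg).2 ▸ gd_mem lid0 _⟩

private theorem ls0 : ∀ l ∈ t0.L, ∀ s ∈ t0.S, mulL l.1 s ∈ t0.L.map (fun l => l.1) := by
  have h : ∀ l ∈ t0.L, ∀ s ∈ t0.S, (t0.L.map fun l => l.1).getD (li (mulL l.1 s)) idL = mulL l.1 s := by
    refine of_decide_eq_true ?_
    rewrite [Cfsg.Agent.LsF.fec4169_1.2, Cfsg.Agent.LsF.getD_eq, Cfsg.Agent.LsF.map_eq, Cfsg.Agent.LsF.instDecEq_eq, Cfsg.Agent.LsF.dBAll_eq, Cfsg.Agent.LsF.dListEq_eq, Cfsg.Agent.LsF.decide_eq]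
    decide +kernel
  exact fun l hl s hs => h l hl s hs ▸ gd_mem lid0 _

theorem check0 : PtCheck (confHN.X ++ confHN.N ++ confHN.M) (confHN.X ++ confHN.N) t0 := by
  refine ⟨?_, ?_, ?_, ?_, ?_, tst0, lid0, ?_, ?_, ?_, ls0, ?_, ?_, ?_, ?_⟩ <;> (refine of_decide_eq_true ?_; (try rewrite [Cfsg.Agent.LsF.dMemL_pat]); (try rewrite [Cfsg.Agent.LsF.fec4169_0.2]); (try rewrite [Cfsg.Agent.LsF.fec4169_1.2]); (try rewrite [Cfsg.Agent.LsF.fec4169_2.2]); (try rewrite [Cfsg.Agent.LsF.fec4169_3.2]); (try rewrite [Cfsg.Agent.LsF.fec4169_4.2]); (try rewrite [Cfsg.Agent.LsF.instDecEq_eq]); (try rewrite [Cfsg.Agent.LsF.decLt_eq]); (try rewrite [Cfsg.Agent.LsF.dAnd_eq]); (try rewrite [Cfsg.Agent.LsF.dBAll_eq]); (try rewrite [Cfsg.Agent.LsF.dListEq_eq]); (try rewrite [Cfsg.Agent.LsF.dAllP_eq]); (try rewrite [Cfsg.Agent.LsF.decide_eq]); (try rewrite [Cfsg.Agent.LsF.lappend_pat]); (try rewrite [Cfsg.Agent.LsF.map_eq]); (try rewrite [Cfsg.Agent.LsF.dBEx_eq]); (try rewrite [Cfsg.Agent.LsF.filter_eq]);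 (try rewrite [Cfsg.Agent.LsF.length_eq]); decide +kernel)

private noncomputable def _root_.Cfsg.Agent.LsF.fec4169_5 : {f // @Cfsg.Agent.LargeExtra.Nine.qs = f} := ⟨_, by first | (delta Cfsg.Agent.LargeExtra.Nine.qs; rewrite [Cfsg.Agent.LsF.zadd_pat, Cfsg.Agent.LsF.zmul_pat]; exact rfl) | exact rfl⟩
private noncomputable def _root_.Cfsg.Agent.LsF.fec4169_6 : {f // @Cfsg.Agent.LargeExtra.Nine.vec = f} := ⟨_, by first | (delta Cfsg.Agent.LargeExtra.Nine.vec; rewrite [Cfsg.Agent.LsF.testBit_eq, Cfsg.Agent.LsF.dBoolEq_eq, Cfsg.Agent.LsF.ite_eq]; exact rfl) | exact rfl⟩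
theorem cover : ∀ n ∈ List.range 256, n ≠ 0 → qs (vec n) = 0 → n ∈ orb ∨ n ∈ t0.W.map (fun w => w.1) := by
  (refine of_decide_eq_true ?_; (try (rewrite [Cfsg.Agent.LsF.dMemE_pat, Cfsg.Agent.LsF.fec4169_5.2, Cfsg.Agent.LsF.fec4169_6.2, Cfsg.Agent.LsF.zdecEq_eq, Cfsg.Agent.LsF.instDecEq_eq, Cfsg.Agent.LsF.map_eq, Cfsg.Agent.LsF.range_eq, Cfsg.Agent.LsF.dOr_eq, Cfsg.Agent.LsF.dNot_eq, Cfsg.Agent.LsF.dBAll_eq, Cfsg.Agent.LsF.dAllP_eq, Cfsg.Agent.LsF.decide_eq])); decide +kernel)

/-- every conjugate of `z` in `Q` lies over a point of `orb` -/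
theorem pts [Finite G] (p : Pair Q z A a) (φ : Coord p.lz) (hc : IsConf p φ confHN) (x : Q)
    (hx : IsConj z (x : G)) (hx0 : p.lz.pr x ≠ 0) : ∃ n ∈ orb, φ.e (p.lz.pr x) = vec n := by
  obtain ⟨n, hn, hnv⟩ := exists_code (φ.e (p.lz.pr x))
  obtain ⟨A', p', hp'⟩ := pair_of_isConj p x hx hx0
  have hq0 : qs (vec n) = 0 := by rw [← hnv, ← φ.q]; exact hp' ▸ p'.q_D p'.va_mem_D
  have hn0 : n ≠ 0 := by
    rintro rfl
    rw [vec_zero] at hnv
    exact hx0 (φ.e.map_eq_zero_iff.1 hnv)
  rcases cover n (List.mem_range.2 hn) hn0 hq0 with h1 | h1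
  · exact ⟨n, h1, hnv⟩
  · exfalso
    obtain ⟨w, hw, rfl⟩ := List.mem_map.1 h1
    exact no_pair p φ hc check0 p' ⟨w, hw, by rw [hp', hnv]⟩

end Cfsg.Agent.LargeExtra.KillNine.PtsHN
end

-- part: LargeExtra/PlusForm
section
set_option linter.all false
open scoped Cfsg.Agent.FastGrp

/-!
# Coordinates of plus type on `V = Q / ⟨z⟩` adapted to a totally singular family, and `C_G(z) / Q ≅ Ω⁺` for
`|D̃| = 2` (helper356)

* `exists_plus`: a linearly independent, totally singular family `x : Fin m → V`, `|V| = 2 ^ (2 m)`, is the first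
  half of a basis in which `q` is `quadFormPlus m`.
* `exists_omega_plus`: `|D̃| = 2`, `|V| = 2 ^ (2 m)`, `m ≥ 3`, with a totally singular subspace of order `2 ^ m`:
  `C_G(z) / Q' ≅ Ω (quadFormPlus m)` (`m = 4`: the hypothesis `e` of S1718 and S1677).
-/

set_option autoImplicit false

namespace Cfsg.Agent.LargeExtra.PlusForm

open Cfsg.Agent.Co2Type.Quad Cfsg.Agent.LargeExtra.Base
open Cfsg.Agent.LargeExtra.Siegel Cfsg.Agent.LargeExtra.SiegelOrbit Cfsg.Agent.LargeExtra.SixMinus
open Cfsg.Agent.LieClassical.OrthCore Cfsg.Agent.LieClassical.OrthTrans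
open Cfsg.Agent.LieClassical.OrthFinite

variable {G : Type*} [Group G] {Q A : Subgroup G} {z a : G}

/-- a dual family -/
theorem exists_dual [Finite Q] (h : Large Q z) {m : ℕ} {x : Fin m → h.V}
    (hli : LinearIndependent (ZMod 2) x) :
    ∃ y : Fin m → h.V, ∀ i j, h.b (y i) (x j) = if i = j then 1 else 0 := by
  classical
  have hinj : LinearMap.ker (Finsupp.linearCombination (ZMod 2) x) = ⊥ := LinearMap.ker_eq_bot.2 hli
  obtain ⟨g, hg⟩ := LinearMap.exists_leftInverse_of_injective _ hinj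
  have hgx : ∀ j, g (x j) = Finsupp.single j 1 := by
    intro j
    have h1 := LinearMap.congr_fun hg (Finsupp.single j 1)
    rw [LinearMap.comp_apply, Finsupp.linearCombination_single, one_smul] at h1
    exact h1
  have h1 : ∀ i : Fin m, ∃ v, ∀ w, h.b v w = (Finsupp.lapply i ∘ₗ g) w := fun i => h.exists_b_eq _
  choose y hy using h1
  refine ⟨y, fun i j => ?_⟩
  rw [hy, LinearMap.comp_apply, hgx, Finsupp.lapply_apply, Finsupp.single_apply]
  by_cases hij : i = j
  · rw [if_pos hij, if_pos hij.symm]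
  · rw [if_neg hij, if_neg (Ne.symm hij)]

/-- `q` vanishes on the span of a totally singular family -/
theorem q_sum (h : Large Q z) {ι : Type*} (x : ι → h.V) (hq : ∀ i, h.q (x i) = 0)
    (hb : ∀ i j, h.b (x i) (x j) = 0) (s : Finset ι) (c : ι → ZMod 2) :
    h.q (∑ i ∈ s, c i • x i) = 0 := by
  classical
  induction s using Finset.induction_on with
  | empty => rw [Finset.sum_empty, h.q_zero]
  | insert i s hi ih =>
    rw [Finset.sum_insert hi, h.q_add', ih, map_sum]
    have h1 : h.q (c i • x i) = 0 := by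
      have hc : c i = 0 ∨ c i = 1 := TwoCentral.zmod_two _
      rcases hc with hc | hc
      · rw [hc, zero_smul, h.q_zero]
      · rw [hc, one_smul, hq]
    rw [h1, zero_add, zero_add]
    refine Finset.sum_eq_zero fun j _ => ?_
    rw [map_smul, map_smul, LinearMap.smul_apply, hb, smul_zero, smul_zero]

theorem exists_hyp_dual [Finite Q] (h : Large Q z) {m : ℕ} {x : Fin m → h.V}
    (hli : LinearIndependent (ZMod 2) x) (hq : ∀ i, h.q (x i) = 0) (hb : ∀ i j, h.b (x i) (x j) = 0) :
    ∃ Y : Fin m → h.V, (∀ i j, h.b (Y i) (x j) = if i = j then 1 else 0) ∧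
      (∀ i, h.q (Y i) = 0) ∧ ∀ i j, h.b (Y i) (Y j) = 0 := by
  classical
  obtain ⟨y, hy⟩ := exists_dual h hli
  -- coefficients
  let c : Fin m → Fin m → ZMod 2 := fun i j => (if j < i then h.b (y i) (y j) else 0) +
    (if i = j then h.q (y i) else 0)
  let S : Fin m → h.V := fun i => ∑ j, c i j • x j
  have hSx : ∀ i j, h.b (S i) (x j) = 0 := by
    intro i j
    show h.b (∑ k, c i k • x k) (x j) = 0
    rw [map_sum, LinearMap.sum_apply]
    refine Finset.sum_eq_zero fun k _ => ?_
    rw [map_smul, LinearMap.smul_apply, hb, smul_zero]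
  have hSS : ∀ i j, h.b (S i) (S j) = 0 := by
    intro i j
    show h.b (S i) (∑ k, c j k • x k) = 0
    rw [map_sum]
    refine Finset.sum_eq_zero fun k _ => ?_
    rw [map_smul, hSx, smul_zero]
  have hyS : ∀ i j, h.b (y i) (S j) = c j i := by
    intro i j
    show h.b (y i) (∑ k, c j k • x k) = c j i
    rw [map_sum, Finset.sum_eq_single i]
    · rw [map_smul, hy, if_pos rfl, smul_eq_mul, mul_one]
    · intro k _ hk
      rw [map_smul, hy, if_neg (Ne.symm hk), smul_zero]
    · intro hi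
      exact absurd (Finset.mem_univ i) hi
  refine ⟨fun i => y i + S i, ?_, ?_, ?_⟩
  · intro i j
    rw [map_add, LinearMap.add_apply, hSx, add_zero, hy]
  · intro i
    rw [h.q_add', hyS, show h.q (S i) = 0 from q_sum h x hq hb _ _, add_zero]
    show h.q (y i) + ((if i < i then h.b (y i) (y i) else 0) + (if i = i then h.q (y i) else 0)) = 0
    rw [if_neg (lt_irrefl i), if_pos rfl, zero_add]
    exact CharTwo.add_self_eq_zero _
  · intro i j
    have e0 : h.b (y i + S i) (y j + S j) =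
        h.b (y i) (y j) + h.b (y i) (S j) + (h.b (S i) (y j) + h.b (S i) (S j)) := by
      simp only [map_add, LinearMap.add_apply]; abel
    show h.b (y i + S i) (y j + S j) = 0
    rw [e0, hSS, hyS, h.b_comm (S i) (y j), hyS, add_zero]
    show h.b (y i) (y j) + ((if i < j then h.b (y j) (y i) else 0) + (if j = i then h.q (y j) else 0)) +
      ((if j < i then h.b (y i) (y j) else 0) + (if i = j then h.q (y i) else 0)) = 0
    rcases lt_trichotomy i j with hij | hij | hij
    · rw [if_pos hij, if_neg (ne_of_gt hij), if_neg (not_lt_of_gt hij), if_neg (ne_of_lt hij), add_zero,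
        add_zero, add_zero, h.b_comm (y j)]
      exact CharTwo.add_self_eq_zero _
    · subst hij
      rw [if_neg (lt_irrefl i), if_pos rfl, zero_add, h.b_self, zero_add]
      exact CharTwo.add_self_eq_zero _
    · rw [if_neg (not_lt_of_gt hij), if_neg (ne_of_lt hij), if_pos hij, if_neg (ne_of_gt hij), add_zero,
        add_zero]
      exact CharTwo.add_self_eq_zero _

/-- **coordinates of plus type adapted to a totally singular family** -/
theorem exists_plus [Finite Q] (h : Large Q z) {m : ℕ} {x : Fin m → h.V}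
    (hli : LinearIndependent (ZMod 2) x) (hq : ∀ i, h.q (x i) = 0) (hb : ∀ i j, h.b (x i) (x j) = 0)
    (hc : Nat.card h.V = 2 ^ (2 * m)) :
    ∃ e : h.V ≃ₗ[ZMod 2] (Fin m ⊕ Fin m → ZMod 2), (∀ i, e (x i) = Pi.single (Sum.inl i) 1) ∧
      ∀ v, h.q v = Cfsg.quadFormPlus m (ZMod 2) (e v) := by
  classical
  obtain ⟨Y, hYx, hYq, hYY⟩ := exists_hyp_dual h hli hq hb
  let φ : (Fin m ⊕ Fin m → ZMod 2) →ₗ[ZMod 2] h.V :=
    { toFun := fun c => (∑ i, c (.inl i) • x i) + ∑ i, c (.inr i) • Y i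
      map_add' := by
        intro c d
        simp only [Pi.add_apply, add_smul, Finset.sum_add_distrib]
        abel
      map_smul' := by
        intro t c
        simp only [Pi.smul_apply, smul_eq_mul, mul_smul, smul_add, RingHom.id_apply, Finset.smul_sum] }
  have hφ : ∀ c, φ c = (∑ i, c (.inl i) • x i) + ∑ i, c (.inr i) • Y i := fun _ => rfl
  have e1 : ∀ c j, h.b (Y j) (φ c) = c (.inl j) := by
    intro c j
    rw [hφ, map_add, map_sum, map_sum, Finset.sum_eq_single j, Finset.sum_eq_zero, add_zero, map_smul,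
      hYx, if_pos rfl, smul_eq_mul, mul_one]
    · intro k _
      rw [map_smul, hYY, smul_zero]
    · intro k _ hk
      rw [map_smul, hYx, if_neg (Ne.symm hk), smul_zero]
    · intro hj
      exact absurd (Finset.mem_univ j) hj
  have e2 : ∀ c j, h.b (x j) (φ c) = c (.inr j) := by
    intro c j
    rw [hφ, map_add, map_sum, map_sum, Finset.sum_eq_zero, zero_add, Finset.sum_eq_single j, map_smul,
      h.b_comm, hYx, if_pos rfl, smul_eq_mul, mul_one]
    · intro k _ hk
      rw [map_smul, h.b_comm, hYx, if_neg hk, smul_zero]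
    · intro hj
      exact absurd (Finset.mem_univ j) hj
    · intro k _
      rw [map_smul, hb, smul_zero]
  have hinj : Function.Injective φ := by
    rw [← LinearMap.ker_eq_bot, LinearMap.ker_eq_bot']
    intro c hc0
    funext i
    rcases i with i | i
    · have := e1 c i
      rw [hc0, map_zero] at this
      exact this.symm
    · have := e2 c i
      rw [hc0, map_zero] at this
      exact this.symm
  have hcard : Nat.card (Fin m ⊕ Fin m → ZMod 2) = Nat.card h.V := by
    rw [hc, Nat.card_eq_fintype_card, Fintype.card_fun, ZMod.card, Fintype.card_sum, Fintype.card_fin,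
      two_mul]
  have hfin : Finite h.V := inferInstance
  have hbij : Function.Bijective φ := (Nat.bijective_iff_injective_and_card φ).2 ⟨hinj, hcard⟩
  refine ⟨(LinearEquiv.ofBijective φ hbij).symm, fun i => ?_, fun v => ?_⟩
  · rw [LinearEquiv.symm_apply_eq]
    show x i = φ (Pi.single (Sum.inl i) 1)
    rw [hφ, Finset.sum_eq_single i, Finset.sum_eq_zero, add_zero, Pi.single_eq_same, one_smul]
    · intro k _
      rw [Pi.single_eq_of_ne (by simp), zero_smul]
    · intro k _ hk
      rw [Pi.single_eq_of_ne (by simpa using hk), zero_smul]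
    · intro hj
      exact absurd (Finset.mem_univ i) hj
  · obtain ⟨c, rfl⟩ := hbij.2 v
    have h1 : (LinearEquiv.ofBijective φ hbij).symm (φ c) = c :=
      (LinearEquiv.ofBijective φ hbij).symm_apply_apply c
    rw [h1, Cfsg.quadFormPlus]
    have h2 : h.q (φ c) = h.b (∑ i, c (.inl i) • x i) (φ c) := by
      have h3 : h.b (∑ i, c (.inl i) • x i) (φ c) =
          h.b (∑ i, c (.inl i) • x i) (∑ i, c (.inr i) • Y i) := by
        rw [hφ, map_add, h.b_self, zero_add]
      rw [h3, hφ, h.q_add', q_sum h x hq hb, q_sum h Y hYq hYY, zero_add, zero_add]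
    rw [h2, map_sum, LinearMap.sum_apply]
    refine Finset.sum_congr rfl fun i _ => ?_
    rw [map_smul, LinearMap.smul_apply, e2, smul_eq_mul]

/-- a totally singular subspace of order `2 ^ m` gives a totally singular family -/
theorem exists_family [Finite Q] (h : Large Q z) {m : ℕ} {T : Submodule (ZMod 2) h.V}
    (hT : Nat.card T = 2 ^ m) (hq : ∀ v ∈ T, h.q v = 0) :
    ∃ x : Fin m → h.V, LinearIndependent (ZMod 2) x ∧ (∀ i, x i ∈ T) ∧ (∀ i, h.q (x i) = 0) ∧
      ∀ i j, h.b (x i) (x j) = 0 := by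
  have hfd : FiniteDimensional (ZMod 2) T := Module.Finite.of_finite
  have hdim : Module.finrank (ZMod 2) T = m := by
    have h1 := Module.natCard_eq_pow_finrank (K := ZMod 2) (V := T)
    rw [hT, Nat.card_zmod] at h1
    exact (Nat.pow_right_injective (le_refl 2) h1).symm
  let B := Module.finBasisOfFinrankEq (ZMod 2) T hdim
  have hbT : ∀ v ∈ T, ∀ w ∈ T, h.b v w = 0 := by
    intro v hv w hw
    have h1 := h.q_add' v w
    rw [hq _ (T.add_mem hv hw), hq v hv, hq w hw, zero_add, zero_add] at h1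
    exact h1.symm
  refine ⟨fun i => B i, ?_, fun i => (B i).2, fun i => hq _ (B i).2, fun i j => hbT _ (B i).2 _ (B j).2⟩
  exact B.linearIndependent.map' T.subtype T.ker_subtype

/-- `|D̃| = 2`, plus type: `C_G(z) / Q' ≅ Ω⁺` -/
theorem exists_omega_plus [Finite G] (hG : ∀ H : Subgroup G, H.index ≠ 2) (p : Pair Q z A a)
    (hO : O2 p.lz) (hD : Nat.card p.D = 2) {m : ℕ} (hm : 3 ≤ m) (hV : Nat.card p.lz.V = 2 ^ (2 * m))
    (hT : ∃ T : Submodule (ZMod 2) p.lz.V, Nat.card T = 2 ^ m ∧ ∀ v ∈ T, p.lz.q v = 0)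
    (Q' : Subgroup (Subgroup.centralizer ({z} : Set G))) [Q'.Normal]
    (hQ' : Q'.map (Subgroup.centralizer ({z} : Set G)).subtype = Q) :
    Nonempty ((Subgroup.centralizer ({z} : Set G)) ⧸ Q' ≃*
      Cfsg.Omega (ZMod 2) (Cfsg.quadFormPlus m (ZMod 2))) := by
  obtain ⟨e1⟩ := quotient_equiv p.lz Q' hQ'
  have h16 : 16 < Nat.card p.lz.V := by
    rw [hV]
    calc 16 < 2 ^ 6 := by norm_num
      _ ≤ 2 ^ (2 * m) := Nat.pow_le_pow_right (by norm_num) (by omega)
  have h1 : p.lz.act.range = E (qf p.lz) := H_eq_E hG p hO hD h16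
  have hgood := good_qf p.lz h16
  have h2 : p.lz.act.range = ⁅O (qf p.lz), O (qf p.lz)⁆ := by rw [hgood.commutator_eq_E]; exact h1
  obtain ⟨T, hT1, hT2⟩ := hT
  obtain ⟨x, x1, -, x2, x3⟩ := exists_family p.lz hT1 hT2
  obtain ⟨e, -, he⟩ := exists_plus p.lz x1 x2 x3 hV
  obtain ⟨e2⟩ := nonempty_equiv (Q := qf p.lz)
    (Q' := Cfsg.Agent.LieClassical.OrthForms.plusForm m (ZMod 2)) e (fun v => by
      rw [Cfsg.Agent.LieClassical.OrthForms.coe_plusForm, ← he]; rfl)
  have e3 := omegaEquiv (Cfsg.Agent.LieClassical.OrthForms.plusForm m (ZMod 2))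
  rw [Cfsg.Agent.LieClassical.OrthForms.coe_plusForm] at e3
  exact ⟨((e1.trans (MulEquiv.subgroupCongr h2)).trans e2).trans e3.symm⟩

end Cfsg.Agent.LargeExtra.PlusForm

private theorem dce_a1e2d2cedac1 : _root_.True := by
  try have : _root_.True := by simp only [_root_.Cfsg.quadFormPlus.eq_1]
  exact _root_.True.intro
end

-- part: CoOneType/NineCaseOf
section
set_option linter.all false
open scoped Cfsg.Agent.FastGrp

/-!
# S1763, `|D̃| = 2`, plus type: reduction to `CoHyp`
-/

set_option autoImplicit false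

namespace Cfsg.Agent.CoOneType.NineCaseOf

open Cfsg.Agent.Co2Type.Quad Cfsg.Agent.LargeExtra Cfsg.Agent.LargeExtra.Base
open Cfsg.Agent.LargeExtra.Nine.ToCent Cfsg.Agent.LargeExtra.SiegelOrbit

variable {G : Type*} [Group G] {Q A : Subgroup G} {z a : G}

theorem orderOf_z (h : Large Q z) : orderOf z = 2 :=
  orderOf_eq_prime (by rw [pow_two]; exact h.z_sq) h.z_ne

/-- `|D̃| = 2`, plus type: `CoHyp`. -/
theorem coHyp [Finite G] (hG : ∀ H : Subgroup G, H.index ≠ 2) (p : Pair Q z A a) (hO : O2 p.lz)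
    (h9 : Nat.card Q = 2 ^ 9) (hd : Nat.card p.D = 2)
    (hT : ∃ T : Submodule (ZMod 2) p.lz.V, Nat.card T = 2 ^ 4 ∧ ∀ v ∈ T, p.lz.q v = 0) :
    CoHyp Q z := by
  have hn := normal p.lz
  have hV : Nat.card p.lz.V = 2 ^ (2 * 4) := by
    have h1 := p.lz.card_eq
    omega
  have hmap : (Q.subgroupOf (Subgroup.centralizer ({z} : Set G))).map
      (Subgroup.centralizer ({z} : Set G)).subtype = Q := by
    rw [Subgroup.map_subgroupOf_eq_of_le (le_cent p.lz)]
  obtain ⟨e⟩ := PlusForm.exists_omega_plus hG p hO hd (m := 4) (by norm_num) hV hT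
    (Q.subgroupOf (Subgroup.centralizer ({z} : Set G))) hmap
  have h := CoHyp.of_self_centralizing z (orderOf_z p.lz)
    (Q.subgroupOf (Subgroup.centralizer ({z} : Set G))) (centralizer_le p.lz)
    (isExtraspecial p.lz (by rw [h9]; norm_num)) (by rw [card_subgroupOf p.lz, h9]) e
  rwa [hmap] at h

theorem exists_fused (p : Pair Q z A a) : ∃ g, g * z * g⁻¹ ∈ Q ∧ g * z * g⁻¹ ≠ z := by
  obtain ⟨g, h1, -, -, -⟩ := p.isConj
  exact ⟨g, by rw [h1]; exact p.a_mem, by rw [h1]; exact p.ne⟩

end Cfsg.Agent.CoOneType.NineCaseOf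
end

-- part: LargeExtra/Nine/ThCase
section
set_option linter.all false
open scoped Cfsg.Agent.FastGrp

/-!
# S1763, configuration `confTh`: `C_G(z) / Q ≃ A₉` (helper360)

Seven Carmichael generators (3-cycles) of the group generated by the seven printed matrices.
-/

set_option autoImplicit false

namespace Cfsg.Agent.LargeExtra.Nine.ThCase

open Cfsg.Agent.Co2Type.Quad Cfsg.Agent.LargeExtra.Local Cfsg.Agent.LargeExtra.Base
open Cfsg.Agent.LargeExtra.KillNine.Codes Cfsg.Agent.LargeExtra.Nine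
open Cfsg.Agent.Lib.AltCarmichael

/-- the printed generators -/
def genL : List (List ℕ) := confTh.X ++ confTh.N ++ confTh.M

/-- seven 3-cycles -/
def VL : List (List ℕ) :=
  [[9, 12, 15, 1, 204, 104, 33, 243], [3, 1, 11, 13, 236, 120, 193, 67],
    [2, 3, 12, 4, 48, 16, 128, 192], [8, 15, 3, 9, 240, 64, 96, 48],
    [11, 13, 8, 12, 44, 56, 225, 115], [10, 14, 7, 5, 208, 80, 160, 176],
    [65, 192, 60, 32, 12, 40, 1, 195]]

/-- the 3-cycles as words in the printed generators -/
def wV : List (List ℕ) :=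
  [[5, 1, 6, 5, 1, 6], [4, 6, 5, 6, 4, 6, 5, 6], [5, 6, 4, 6, 5, 6, 4, 1], [0, 6, 5, 1, 6, 5, 0, 1],
    [3, 0, 5, 6, 5, 6, 5, 0], [6, 5, 6, 4, 1, 5, 6, 4], [0, 4, 6, 2, 5, 2, 6, 4, 1]]

/-- the printed generators as words in the 3-cycles -/
def wG : List (List ℕ) :=
  [[0, 2, 3, 4, 4, 3, 5, 5, 0, 1, 1], [0, 1, 3, 5, 5, 3, 4, 4, 0, 2, 2], [0, 1, 2, 0, 0, 3, 3, 1, 4, 5],
    [0, 1, 2, 5, 1, 1, 4, 6, 2, 2, 3, 0, 0], [0, 1, 2, 0, 0, 3, 4, 5, 5, 4, 6, 3, 3],
    [0, 0, 1, 2, 2, 1, 3, 4, 4, 3, 5, 6, 6, 5], [0, 2, 3, 5, 5, 3, 4, 4, 0, 1, 1]]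

theorem chkV : ∀ i < 7, prodL ((wV.getD i []).map fun j => genL.getD j idL) = VL.getD i idL := by
  decide +kernel

theorem lenG : genL.length = 7 := by decide

theorem ltV : ∀ i < 7, ∀ j ∈ wV.getD i [], j < 7 := by decide

theorem ltG : ∀ i < 7, ∀ j ∈ wG.getD i [], j < 7 := by decide

theorem chkG : ∀ i < 7, prodL ((wG.getD i []).map fun j => VL.getD j idL) = genL.getD i idL := by
  decide +kernel

theorem chkCube : ∀ i < 7, mulL (VL.getD i idL) (mulL (VL.getD i idL) (VL.getD i idL)) = idL := by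
  decide +kernel

theorem chkSq : ∀ i < 7, ∀ j < 7, i ≠ j →
    mulL (mulL (VL.getD j idL) (VL.getD i idL)) (mulL (VL.getD j idL) (VL.getD i idL)) = idL := by
  decide +kernel

section

variable {G : Type*} [Group G] {Q A : Subgroup G} {z a : G}

theorem mem_genL {L : List ℕ} (hL : L ∈ genL) : ∃ i < 7, genL.getD i idL = L := by
  obtain ⟨i, hi, rfl⟩ := List.mem_iff_getElem.1 hL
  exact ⟨i, by rw [← lenG]; exact hi, by rw [List.getD_eq_getElem _ _ hi]⟩

theorem getD_mem {i : ℕ} (hi : i < 7) : genL.getD i idL ∈ genL := by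
  rw [List.getD_eq_getElem _ _ (by rw [lenG]; exact hi)]
  exact List.getElem_mem _

/-- `C_G(z) / Q`, as the group `H` of linear maps, is `A₉`. -/
theorem nonempty_H (p : Pair Q z A a) (φ : Coord p.lz) (hc : IsConf p φ confTh) :
    Nonempty (↥p.H ≃* alternatingGroup (Fin 9)) := by
  classical
  have hgen : ∀ i < 7, In φ p.H (genL.getD i idL) := by
    intro i hi
    have h1 := getD_mem hi
    rw [genL, List.mem_append, List.mem_append] at h1
    rcases h1 with (h1 | h1) | h1
    · obtain ⟨f, hf, hf'⟩ := hc.X _ h1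
      exact ⟨f, p.X_le_H hf, hf'⟩
    · exact hc.N _ h1
    · exact absurd h1 (by simp [confTh])
  have hV : ∀ i < 7, In φ p.H (VL.getD i idL) := by
    intro i hi
    rw [← chkV i hi]
    apply In.prod
    intro L hL
    obtain ⟨j, hj, rfl⟩ := List.mem_map.1 hL
    exact hgen j (ltV i hi j hj)
  choose! v hvH hv using hV
  have hrel : Rel 7 v := by
    constructor
    · intro i hi
      refine Acts.ext (φ := φ) (L := idL) ?_ Acts.one
      rw [← chkCube i hi, pow_succ, pow_succ, pow_one]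
      exact Acts.mul (hv i hi) (Acts.mul (hv i hi) (hv i hi))
    · intro i hi j hj hij
      refine Acts.ext (φ := φ) (L := idL) ?_ Acts.one
      rw [← chkSq i hi j hj hij, pow_two]
      exact Acts.mul (Acts.mul (hv j hj) (hv i hi)) (Acts.mul (hv j hj) (hv i hi))
  have heq : gen 7 v = p.H := by
    apply le_antisymm
    · rw [gen_def, Subgroup.closure_le]
      rintro f ⟨i, hi, rfl⟩
      exact hvH i hi
    · refine hc.le.trans ?_
      rw [Subgroup.closure_le]
      rintro f ⟨L, hL, hf⟩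
      obtain ⟨i, hi, rfl⟩ := mem_genL hL
      have h1 : In φ (gen 7 v) (genL.getD i idL) := by
        rw [← chkG i hi]
        apply In.prod
        intro L hL
        obtain ⟨j, hj, rfl⟩ := List.mem_map.1 hL
        exact ⟨v j, mem_gen (ltG i hi j hj), hv j (ltG i hi j hj)⟩
      obtain ⟨g, hg, hg'⟩ := h1
      rw [Acts.ext hf hg']
      exact hg
  have hne : ∃ i < 7, v i ≠ 1 := by
    refine ⟨0, by norm_num, fun h0 => ?_⟩
    have h1 := hv 0 (by norm_num) (φ.e.symm (vec 1))
    rw [h0, φ.e.apply_symm_apply, lin_vec] at h1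
    have h2 : vec 1 = vec (ap (VL.getD 0 idL) 1) := by
      rw [← h1]
      exact (φ.e.apply_symm_apply (vec 1)).symm
    have h3 : ap (VL.getD 0 idL) 1 = 9 := by decide
    rw [h3] at h2
    exact absurd (vec_inj 1 (by norm_num) 9 (by norm_num) h2) (by norm_num)
  obtain ⟨e⟩ := nonempty_gen_equiv (by norm_num) hrel hne
  exact ⟨(MulEquiv.subgroupCongr heq.symm).trans e⟩

end

end Cfsg.Agent.LargeExtra.Nine.ThCase

private theorem dce_e86825ec78ce : _root_.True := by
  try have : _root_.True := by simp only [_root_.Cfsg.Agent.LargeExtra.Nine.ThCase.genL.eq_1]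
  try have : _root_.True := by simp only [_root_.Cfsg.Agent.LargeExtra.Nine.confTh.eq_1]
  exact _root_.True.intro
end

-- part: TypeD4Two/ConfHyp
section
set_option linter.all false
open scoped Cfsg.Agent.FastGrp

/-!
# The configuration `confD4` satisfies `Hyp` (helper186)
-/

set_option autoImplicit false

namespace Cfsg.Agent.TypeD4Two.ConfHyp

open Cfsg.Agent.Co2Type.Quad Cfsg.Agent.LargeExtra.Local Cfsg.Agent.LargeExtra.Base
open Cfsg.Agent.LargeExtra.Nine Cfsg.Agent.TypeD4Two.NinePair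

/-- codes of the nine points -/
def pts : List ℕ := [1, 16, 63, 93, 123, 153, 179, 215, 245]

/-- all matrices -/
def mats : List (List ℕ) := confD4.X ++ confD4.N ++ confD4.M

theorem maps : ∀ L ∈ mats, ∀ n ∈ pts, ∃ m ∈ pts, lin L (vec n) = vec m := by decide +kernel

theorem onto : ∀ L ∈ mats, ∀ m ∈ pts, ∃ n ∈ pts, lin L (vec n) = vec m := by decide +kernel

theorem nonorth : ∀ n ∈ pts, bs (vec 1) (vec n) = 0 → n = 1 := by decide +kernel

theorem nonorth' : bs (vec 1) (vec 215) = 1 := by decide +kernel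

theorem lin_one : lin [215,128,20,48,16,24,80,2] (vec 1) = vec 215 := by decide +kernel

theorem qs_add (v w : F8) : qs (v + w) = qs v + qs w + bs v w := by
  simp only [qs, bs, Pi.add_apply]
  ring

variable {G : Type*} [Group G] {Q A : Subgroup G} {z a : G}

theorem b_eq {h : Large Q z} (φ : Coord h) (v w : h.V) : h.b v w = bs (φ.e v) (φ.e w) := by
  have h1 := h.q_add' v w
  rw [φ.q, φ.q, φ.q, map_add, qs_add] at h1
  exact (add_left_cancel h1).symm

theorem orbit (p : Pair Q z A a) (φ : Coord p.lz) (hc : IsConf p φ confD4)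
    {f : p.lz.V ≃ₗ[ZMod 2] p.lz.V} (hf : f ∈ p.H) :
    ∀ v, (∃ n ∈ pts, φ.e v = vec n) ↔ (∃ n ∈ pts, φ.e (f v) = vec n) := by
  have h1 := hc.le hf
  clear hf
  induction h1 using Subgroup.closure_induction with
  | mem f hf =>
    obtain ⟨L, hL, hA⟩ := hf
    intro v
    rw [hA v]
    constructor
    · rintro ⟨n, hn, hv⟩
      rw [hv]
      exact maps L hL n hn
    · rintro ⟨m, hm, hv⟩
      obtain ⟨n, hn, hnm⟩ := onto L hL m hm
      refine ⟨n, hn, ?_⟩
      have h2 : φ.e (f v) = φ.e (f (φ.e.symm (vec n))) := by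
        rw [hA v, hv, hA, LinearEquiv.apply_symm_apply, hnm]
      have h3 := f.injective (φ.e.injective h2)
      rw [h3, LinearEquiv.apply_symm_apply]
  | one => intro v; exact Iff.rfl
  | mul f g _ _ hf hg =>
    intro v
    exact (hg v).trans (hf (g v))
  | inv f _ hf =>
    intro v
    have h2 := hf (f⁻¹ v)
    have e : f (f⁻¹ v) = v := by
      show (f * f⁻¹) v = v
      rw [mul_inv_cancel]; rfl
    rw [e] at h2
    exact h2.symm

/-- `confD4` gives `Hyp` -/
theorem hyp (p : Pair Q z A a) (h9 : Nat.card Q = 2 ^ 9) (φ : Coord p.lz)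
    (hc : IsConf p φ confD4) : Hyp Q z A a where
  p := p
  card := h9
  nn := by
    intro c hcz hcom
    have hC : c ∈ Subgroup.centralizer ({z} : Set G) := Subgroup.mem_centralizer_singleton_iff.2 hcz
    have hv : p.lz.act ⟨c, hC⟩ p.va = p.lz.pr (p.lz.conjQ ⟨c, hC⟩ ⟨a, p.a_mem⟩) := p.lz.act_pr _ _
    have hb : p.lz.b p.va (p.lz.act ⟨c, hC⟩ p.va) = 0 := by
      rw [hv]
      exact (p.lz.b_pr ⟨a, p.a_mem⟩ (p.lz.conjQ ⟨c, hC⟩ ⟨a, p.a_mem⟩)).2 hcom.symm
    obtain ⟨n, hn, hfn⟩ := (orbit p φ hc (f := p.lz.act ⟨c, hC⟩) ⟨_, rfl⟩ p.va).1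
      ⟨1, by decide, hc.va⟩
    rw [b_eq φ, hc.va, hfn] at hb
    have h1 := nonorth n hn hb
    rw [h1, ← hc.va] at hfn
    have h2 := φ.e.injective hfn
    rw [hv] at h2
    exact p.lz.pr_eq_pr.1 h2
  mv := by
    obtain ⟨f, ⟨c, rfl⟩, hA⟩ := hc.N [215,128,20,48,16,24,80,2] (by decide)
    refine ⟨c, Subgroup.mem_centralizer_singleton_iff.1 c.2, fun hcom => ?_⟩
    have hv : p.lz.act c p.va = p.lz.pr (p.lz.conjQ c ⟨a, p.a_mem⟩) := p.lz.act_pr _ _
    have hb : p.lz.b p.va (p.lz.act c p.va) = 0 := by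
      rw [hv]
      exact (p.lz.b_pr ⟨a, p.a_mem⟩ (p.lz.conjQ c ⟨a, p.a_mem⟩)).2 hcom.symm
    rw [b_eq φ, hA, hc.va, lin_one, nonorth'] at hb
    exact absurd hb (by decide)

end Cfsg.Agent.TypeD4Two.ConfHyp

private theorem dce_71867d6d1df5 : _root_.True := by
  try have : _root_.True := by simp only [_root_.Cfsg.Agent.LargeExtra.Nine.bs.eq_1]
  try have : _root_.True := by simp only [_root_.Cfsg.Agent.LargeExtra.Nine.qs.eq_1]
  exact _root_.True.intro
end
end
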